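import Groth.Agent.Lib.CechNat.Opens
import Groth.Agent.Lib.Cohom.Vanishing
import Groth.Agent.Lib.Cech.Opens
import Groth.Prelude.Def_Coh
import Mathlib.Algebra.Category.ModuleCat.Abelian
import Mathlib.Algebra.Homology.ShortComplex.Linear
import Mathlib.Algebra.Homology.Linear

/-! # The Cech complex of an O_X-module over an affine base, as a complex of modules -/

set_option autoImplicit false
set_option linter.style.haveILetI false
universe u

open CategoryTheory CategoryTheory.Limits AlgebraicGeometry Opposite TopologicalSpace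

namespace GrothLib.BCCoh

variable {A : Type u} [CommRing A] {X : Scheme.{u}} (f : X ⟶ Spec (CommRingCat.of A))

/-- `A → Γ(X, V)` in the form used by modules. -/
noncomputable def psiR (V : X.Opens) : A →+* X.ringCatSheaf.obj.obj (op V) :=
  (Coh.resTop X (op V)).comp (Coh.toGlobal f)

/-- `Γ(V, G)` as an `A`-module. -/
noncomputable def secA (G : X.Modules) (V : X.Opens) : ModuleCat.{u} A :=
  (ModuleCat.restrictScalars (psiR f V)).obj (G.val.obj (op V))

/-- Restriction, linear over the base. -/
noncomputable def resA (G : X.Modules) {V V' : X.Opens} (h : V' ≤ V) : secA f G V →ₗ[A] secA f G V' where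
  toFun x := (Coh.toAb G).obj.map (homOfLE h).op x
  map_add' x y := map_add _ x y
  map_smul' a x := by
    show (G.val.map (homOfLE h).op).hom (psiR f V a • (show G.val.obj (op V) from x)) =
      psiR f V' a • (G.val.map (homOfLE h).op).hom x
    refine (G.val.map_smul _ _ _).trans ?_
    rw [show psiR f V' a = (X.ringCatSheaf.obj.map (homOfLE h).op).hom (psiR f V a) from
      (Coh.resTop_comp (op V) (op V') (homOfLE h).op (Coh.toGlobal f a)).symm]

/-- A morphism of modules, on sections, linear over the base. -/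
noncomputable def appA {G G' : X.Modules} (g : G ⟶ G') (V : X.Opens) : secA f G V →ₗ[A] secA f G' V where
  toFun x := (g.val.app (op V)).hom x
  map_add' x y := map_add _ x y
  map_smul' a x := (g.val.app (op V)).hom.map_smul (psiR f V a) x

variable {ι : Type u} (U : ι → X.Opens)

/-- The intersection attached to a tuple. -/
noncomputable abbrev W {n : ℕ} (a : Fin (n + 1) → ι) : X.Opens :=
  Cech.obj (D := Opens X.carrier) U a

/-- The terms of the complex. -/
noncomputable abbrev cxX (G : X.Modules) (n : ℕ) : ModuleCat.{u} A :=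
  ModuleCat.of A (∀ a : Fin (n + 1) → ι, secA f G (W U a))

/-- The differential. -/
noncomputable def cxd (G : X.Modules) (n : ℕ) : cxX f U G n ⟶ cxX f U G (n + 1) :=
  ModuleCat.ofHom (LinearMap.pi fun a => ∑ k : Fin (n + 2), (-1 : ℤ) ^ (k : ℕ) •
    ((resA f G (leOfHom (Cech.proj (D := Opens X.carrier) U a k))).comp
      (LinearMap.proj (R := A) (φ := fun a : Fin (n + 1) → ι => secA f G (W U a))
        (fun l => a (k.succAbove l)))))

/-- Coordinates of a cochain. -/
noncomputable def coord (G : X.Modules) (n : ℕ) :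
    ((CechNat.cxO U).obj (Coh.toAb G)).X n ≃+ cxX f U G n where
  toFun x a := Cech.evS (𝟭 (Opens X.carrier)) U (Coh.toAb G) a x
  invFun x := Cech.mkS (𝟭 (Opens X.carrier)) U (Coh.toAb G) x
  left_inv x := Cech.extS (𝟭 (Opens X.carrier)) U fun a => Cech.evS_mkS _ U _ _ a
  right_inv x := funext fun a => Cech.evS_mkS _ U _ _ a
  map_add' x y := funext fun a => map_add (Cech.evS (𝟭 (Opens X.carrier)) U (Coh.toAb G) a).hom x y

theorem cxd_apply (G : X.Modules) (n : ℕ) (y : cxX f U G n) (a : Fin (n + 2) → ι) :
    cxd f U G n y a = ∑ k : Fin (n + 2), (-1 : ℤ) ^ (k : ℕ) •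
      resA f G (leOfHom (Cech.proj (D := Opens X.carrier) U a k)) (y fun l => a (k.succAbove l)) := by
  simp [cxd]

theorem coord_d (G : X.Modules) (n : ℕ) (x : ((CechNat.cxO U).obj (Coh.toAb G)).X n) :
    coord f U G (n + 1) (((CechNat.cxO U).obj (Coh.toAb G)).d n (n + 1) x) =
      cxd f U G n (coord f U G n x) := funext fun a => by
  refine Eq.trans ?_ (cxd_apply f U G n _ a).symm
  exact Cech.evS_d (𝟭 (Opens X.carrier)) U (Coh.toAb G) a x

theorem cxd_comp (G : X.Modules) (n : ℕ) : cxd f U G n ≫ cxd f U G (n + 1) = 0 := by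
  refine ConcreteCategory.hom_ext _ _ fun y => ?_
  obtain ⟨x, rfl⟩ := (coord f U G n).surjective y
  show cxd f U G (n + 1) (cxd f U G n (coord f U G n x)) = 0
  rw [← coord_d, ← coord_d]
  show coord f U G (n + 2) ((((CechNat.cxO U).obj (Coh.toAb G)).d n (n + 1) ≫
    ((CechNat.cxO U).obj (Coh.toAb G)).d (n + 1) (n + 2)) x) = 0
  rw [HomologicalComplex.d_comp_d]
  exact map_zero _

/-- The Cech complex. -/
noncomputable def cx (G : X.Modules) : CochainComplex (ModuleCat.{u} A) ℕ :=
  CochainComplex.of (cxX f U G) (cxd f U G) (cxd_comp f U G)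

theorem cx_d (G : X.Modules) (n : ℕ) : (cx f U G).d n (n + 1) = cxd f U G n :=
  CochainComplex.of_d _ _ _

/-- Functoriality. -/
noncomputable def cxMap {G G' : X.Modules} (g : G ⟶ G') : cx f U G ⟶ cx f U G' :=
  CochainComplex.ofHom
    (fun n => ModuleCat.ofHom (LinearMap.pi fun a : Fin (n + 1) → ι =>
      (appA f g (W U a)).comp (LinearMap.proj (R := A) (φ := fun a : Fin (n + 1) → ι => secA f G (W U a)) a)))
    fun n => by
      rw [cx_d, cx_d]
      refine ConcreteCategory.hom_ext _ _ fun y => funext fun a => ?_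
      show cxd f U G' n (fun b => appA f g (W U b) (y b)) a = appA f g (W U a) (cxd f U G n y a)
      rw [cxd_apply, cxd_apply, map_sum]
      refine Finset.sum_congr rfl fun k _ => ?_
      rw [map_zsmul]
      refine congrArg ((-1 : ℤ) ^ (k : ℕ) • ·) ?_
      exact (PresheafOfModules.naturality_apply g.val
        (homOfLE (leOfHom (Cech.proj (D := Opens X.carrier) U a k))).op _).symm

theorem coord_map {G G' : X.Modules} (g : G ⟶ G') (n : ℕ)
    (x : ((CechNat.cxO U).obj (Coh.toAb G)).X n) :
    coord f U G' n (((CechNat.cxO U).map ((SheafOfModules.toSheaf X.ringCatSheaf).map g)).f n x) =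
      (cxMap f U g).f n (coord f U G n x) := funext fun a => by
  refine (Cech.ev_map (𝟭 (Opens X.carrier)) U ((SheafOfModules.toSheaf X.ringCatSheaf).map g) a x).trans ?_
  rfl

theorem coord_smul (G : X.Modules) (r : A) (n : ℕ) (x : ((CechNat.cxO U).obj (Coh.toAb G)).X n) :
    coord f U G n (((CechNat.cxO U).map (Coh.smulAb G (Coh.toGlobal f r))).f n x) =
      r • coord f U G n x := funext fun a => by
  refine (Cech.ev_map (𝟭 (Opens X.carrier)) U (Coh.smulAb G (Coh.toGlobal f r)) a x).trans ?_
  rfl

/-- The underlying complex of abelian groups is Cech's. -/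
noncomputable def forgIso (G : X.Modules) :
    ((forget₂ (ModuleCat.{u} A) AddCommGrpCat.{u}).mapHomologicalComplex _).obj (cx f U G) ≅
      (CechNat.cxO U).obj (Coh.toAb G) :=
  HomologicalComplex.Hom.isoOfComponents (fun n => (coord f U G n).symm.toAddCommGrpIso) fun i j h => by
    obtain rfl : i + 1 = j := h
    refine ConcreteCategory.hom_ext _ _ fun y => ?_
    obtain ⟨x, rfl⟩ := (coord f U G i).surjective y
    show ((CechNat.cxO U).obj (Coh.toAb G)).d i (i + 1) ((coord f U G i).symm (coord f U G i x)) =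
      (coord f U G (i + 1)).symm ((cx f U G).d i (i + 1) (coord f U G i x))
    rw [AddEquiv.symm_apply_apply]
    have h1 : (cx f U G).d i (i + 1) (coord f U G i x) = cxd f U G i (coord f U G i x) := by
      rw [cx_d]; rfl
    rw [h1, ← coord_d, AddEquiv.symm_apply_apply]

/-- Homology of the module complex is Cech cohomology. -/
noncomputable def forgH (G : X.Modules) (p : ℕ) :
    (cx f U G).homology p ≃+ ((CechNat.cxO U).obj (Coh.toAb G)).homology p :=
  ((((cx f U G).sc p).mapHomologyIso (forget₂ (ModuleCat.{u} A) AddCommGrpCat.{u})).symm ≪≫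
    (HomologicalComplex.homologyMapIso (forgIso f U G) p)).addCommGroupIsoToAddEquiv

theorem forgH_natural {G G' : X.Modules} (α : cx f U G ⟶ cx f U G')
    (β : (CechNat.cxO U).obj (Coh.toAb G) ⟶ (CechNat.cxO U).obj (Coh.toAb G'))
    (h : ∀ n x, coord f U G' n (β.f n x) = α.f n (coord f U G n x)) (p : ℕ)
    (y : (cx f U G).homology p) :
    forgH f U G' p (HomologicalComplex.homologyMap α p y) =
      HomologicalComplex.homologyMap β p (forgH f U G p y) := by
  have h1 : ((forget₂ (ModuleCat.{u} A) AddCommGrpCat.{u}).mapHomologicalComplex _).map α ≫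
      (forgIso f U G').hom = (forgIso f U G).hom ≫ β := by
    refine HomologicalComplex.hom_ext _ _ fun n => ConcreteCategory.hom_ext _ _ fun z => ?_
    obtain ⟨x, rfl⟩ := (coord f U G n).surjective z
    show (coord f U G' n).symm (α.f n (coord f U G n x)) = β.f n ((coord f U G n).symm (coord f U G n x))
    rw [← h, AddEquiv.symm_apply_apply, AddEquiv.symm_apply_apply]
  have h2 := ShortComplex.mapHomologyIso_inv_naturality
    ((HomologicalComplex.shortComplexFunctor _ _ p).map α) (forget₂ (ModuleCat.{u} A) AddCommGrpCat.{u})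
  let F₂ := forget₂ (ModuleCat.{u} A) AddCommGrpCat.{u}
  let K := (F₂.mapHomologicalComplex (ComplexShape.up ℕ))
  let m₁ : F₂.obj ((cx f U G).homology p) ⟶ (K.obj (cx f U G)).homology p :=
    (((cx f U G).sc p).mapHomologyIso F₂).inv
  let m₂ : F₂.obj ((cx f U G').homology p) ⟶ (K.obj (cx f U G')).homology p :=
    (((cx f U G').sc p).mapHomologyIso F₂).inv
  have h4 : F₂.map (HomologicalComplex.homologyMap α p) ≫ m₂ =
      m₁ ≫ HomologicalComplex.homologyMap (K.map α) p := h2
  have h5 : HomologicalComplex.homologyMap (K.map α) p ≫ HomologicalComplex.homologyMap (forgIso f U G').hom p =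
      HomologicalComplex.homologyMap (forgIso f U G).hom p ≫ HomologicalComplex.homologyMap β p := by
    rw [← HomologicalComplex.homologyMap_comp, h1, HomologicalComplex.homologyMap_comp]
  have h3 : F₂.map (HomologicalComplex.homologyMap α p) ≫ m₂ ≫
        HomologicalComplex.homologyMap (forgIso f U G').hom p =
      (m₁ ≫ HomologicalComplex.homologyMap (forgIso f U G).hom p) ≫ HomologicalComplex.homologyMap β p := by
    rw [← Category.assoc, h4, Category.assoc, h5, ← Category.assoc]
  exact ConcreteCategory.congr_hom h3 y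

/-- `H^p(X, G)` as an `A`-module. -/
@[instance_reducible] noncomputable def modHH (G : X.Modules) (p : ℕ) : Module A (Coh.HH X G p) :=
  Module.compHom (Coh.HH X G p) (Coh.toGlobal f)

/-- **The Cech complex computes cohomology**, linearly over the base and naturally. -/
theorem exists_linearEquiv (hU : iSup U = ⊤)
    (haff : ∀ (n : ℕ) (a : Fin (n + 1) → ι), IsAffineOpen (⨅ k, U (a k))) (p : ℕ) :
    ∃ e : ∀ G : X.Modules, G.IsQuasicoherent → (Coh.HH X G p ≃+ (cx f U G).homology p),
      (∀ G hG (r : A) (x : Coh.HH X G p), letI := modHH f G p; e G hG (r • x) = r • e G hG x) ∧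
      ∀ {G G' : X.Modules} (g : G ⟶ G') hG hG' (x : Coh.HH X G p),
        e G' hG' (Sheaf.H.map ((SheafOfModules.toSheaf X.ringCatSheaf).map g) p x) =
          HomologicalComplex.homologyMap (cxMap f U g) p (e G hG x) := by
  have hac : ∀ G : X.Modules, G.IsQuasicoherent → Cech.Acyc (𝟭 (Opens X.carrier)) U (Coh.toAb G) :=
    fun G hG => Cech.acyc_of_HU _ _ _ fun n a q => by
      have := Cohom.subsingleton_ext_freeFun_of_isAffineOpen (haff n a) G q
      rw [← Cech.obj_eq_iInf] at this
      exact @Equiv.subsingleton _ _ (SheafCoh.HUext _ _ _).toEquiv this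
  obtain ⟨e₀, he₀⟩ := CechNat.exists_natural_equiv (X := X.carrier) U hU p
  refine ⟨fun G hG => (e₀ (Coh.toAb G) (hac G hG)).trans (forgH f U G p).symm, ?_, ?_⟩
  · intro G hG r x
    letI := modHH f G p
    apply (forgH f U G p).injective
    have h1 := he₀ (Coh.smulAb G (Coh.toGlobal f r)) (hac G hG) (hac G hG) x
    have h2 := forgH_natural f U (r • 𝟙 (cx f U G))
      ((CechNat.cxO U).map (Coh.smulAb G (Coh.toGlobal f r))) (fun n z => coord_smul f U G r n z) p
      ((forgH f U G p).symm (e₀ (Coh.toAb G) (hac G hG) x))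
    have h3 : HomologicalComplex.homologyMap (r • 𝟙 (cx f U G)) p = r • 𝟙 ((cx f U G).homology p) := by
      refine (ShortComplex.homologyMap_smul (φ := 𝟙 ((cx f U G).sc p)) r).trans ?_
      rw [ShortComplex.homologyMap_id]
      rfl
    rw [AddEquiv.apply_symm_apply, h3] at h2
    show forgH f U G p ((forgH f U G p).symm (e₀ _ _ (r • x))) = forgH f U G p (r • _)
    rw [AddEquiv.apply_symm_apply]
    exact h1.trans h2.symm
  · intro G G' g hG hG' x
    apply (forgH f U G' p).injective
    show forgH f U G' p ((forgH f U G' p).symm _) = _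
    rw [AddEquiv.apply_symm_apply, forgH_natural f U (cxMap f U g)
      ((CechNat.cxO U).map ((SheafOfModules.toSheaf X.ringCatSheaf).map g))
      (fun n z => coord_map f U g n z)]
    refine Eq.trans ?_ (congrArg (HomologicalComplex.homologyMap
      ((CechNat.cxO U).map ((SheafOfModules.toSheaf X.ringCatSheaf).map g)) p)
      (AddEquiv.apply_symm_apply (forgH f U G p) (e₀ (Coh.toAb G) (hac G hG) x)).symm)
    exact he₀ _ (hac G hG) (hac G' hG') x

end GrothLib.BCCoh
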