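import Groth.Agent.Lib.Cohom.RpushSections
import Groth.Agent.Lib.BCCoh.CechA
import Mathlib.AlgebraicGeometry.Restrict

/-! # Sections of higher direct images on affine opens, linearly -/

set_option backward.isDefEq.respectTransparency false
set_option linter.style.haveILetI false
set_option maxHeartbeats 800000

universe u

open CategoryTheory CategoryTheory.Limits Opposite TopologicalSpace AlgebraicGeometry Abelian
open GrothLib.Cohom

namespace GrothLib.BCCoh

variable {X S : Scheme.{u}} (f : X ⟶ S) {V : S.Opens} (hV : IsAffineOpen V)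

/-- The preimage of an affine open, over its ring. -/
noncomputable abbrev affBase : ((f ⁻¹ᵁ V : X.Opens) : Scheme.{u}) ⟶ Spec (CommRingCat.of Γ(S, V)) :=
  (f ∣_ V) ≫ hV.isoSpec.hom

theorem toGlobal_affBase (a : Γ(S, V)) :
    ((f ⁻¹ᵁ V).ι.appIso ⊤).inv (show Γ(((f ⁻¹ᵁ V : X.Opens) : Scheme.{u}), ⊤) from Coh.toGlobal (affBase f hV) a) =
      X.presheaf.map (homOfLE (le_of_eq (by simp) : (f ⁻¹ᵁ V).ι ''ᵁ ⊤ ≤ f ⁻¹ᵁ V)).op (f.app V a) := by
  have e : Coh.toGlobal (affBase f hV) a =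
      (f ∣_ V).appTop (hV.isoSpec.hom.appTop ((Scheme.ΓSpecIso Γ(S, V)).inv a)) := by
    simp only [Coh.toGlobal, affBase, Scheme.Hom.comp_appTop]
    rfl
  rw [e, hV.isoSpec_hom_appTop, ConcreteCategory.comp_apply, Iso.inv_hom_id_apply,
    morphismRestrict_appTop, Scheme.Opens.ι_appIso, Scheme.Opens.topIso_inv]
  simp only [ConcreteCategory.comp_apply]
  change X.presheaf.map _ (f.app _ (S.presheaf.map _ a)) = _
  rw [← ConcreteCategory.comp_apply (S.presheaf.map _), f.naturality]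
  simp only [ConcreteCategory.comp_apply]
  rw [← ConcreteCategory.comp_apply, ← Functor.map_comp]
  rfl

variable [QuasiCompact f] [QuasiSeparated f] (M : X.Modules) [M.IsQuasicoherent]

include hV in
theorem exists_homology_equiv (I : FlRes M) (p : ℕ) :
    ∃ e : Coh.HH ((f ⁻¹ᵁ V : X.Opens) : Scheme.{u}) (M.restrict (f ⁻¹ᵁ V).ι) p ≃+
        Γ((pushCx f I.cocomplex).homology p, V),
      ∀ (a : Γ(S, V)) x, letI := modHH (A := Γ(S, V)) (affBase f hV) (M.restrict (f ⁻¹ᵁ V).ι) p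
        e (a • x) = a • e x := by
  classical
  let X' : Scheme.{u} := (f ⁻¹ᵁ V : X.Opens)
  let j : X' ⟶ X := (f ⁻¹ᵁ V).ι
  letI := modHH (A := Γ(S, V)) (affBase f hV) (M.restrict j) p
  let I' := I.restrict j
  have hW : j ''ᵁ (⊤ : X'.Opens) = f ⁻¹ᵁ V := by simp [j, X']
  let emb : Γ(I'.cocomplex.X p, (⊤ : X'.Opens)) →+ Γ(I.cocomplex.X p, f ⁻¹ᵁ V) :=
    (Cocyc.rs hW.ge : Γ(I.cocomplex.X p, j ''ᵁ ⊤) →+ _)
  have hemb : ∀ w : cocycles I' p (⊤ : X'.Opens),
      Cocyc.Coc (pushCx f I.cocomplex) p (W := V) (emb w.1) := fun w ↦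
    Cocyc.Coc.rs (K := I.cocomplex) (z := (show Γ(I.cocomplex.X p, j ''ᵁ ⊤) from w.1)) w.2 hW.ge
  let toV : cocycles I' p (⊤ : X'.Opens) →+ Γ((pushCx f I.cocomplex).homology p, V) :=
    AddMonoidHom.mk' (fun w ↦ Cocyc.hcls (pushCx f I.cocomplex) p (V := V) (emb w.1) (hemb w)) fun w w' => by
      refine Eq.trans ?_ (Cocyc.hcls_add (pushCx f I.cocomplex) p (V := V) _ _ (hemb w) (hemb w'))
      simp only [AddSubgroup.coe_add, map_add]
  let E : cocycles I' p ⊤ →+ Coh.HH X' (M.restrict j) p :=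
    (HEquivTop (Coh.toAb (M.restrict j)) p).symm.toAddMonoidHom.comp (cocClass I' p ⊤)
  have hE : Function.Surjective E :=
    (HEquivTop (Coh.toAb (M.restrict j)) p).symm.surjective.comp (cocClass_surjective I' p ⊤)
  have hE0 : ∀ w, E w = 0 ↔ Cocyc.Bdy I'.cocomplex p w.1 := fun w => by
    rw [← cocClass_eq_zero_iff I' p ⊤ w]
    exact (HEquivTop (Coh.toAb (M.restrict j)) p).symm.map_eq_zero_iff
  have hV0 : ∀ w, toV w = 0 ↔ Cocyc.Bdy I'.cocomplex p w.1 := fun w => by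
    constructor
    · intro h
      have h1 := Cocyc.bdy_of_hcls_eq_zero (localises_pushCx f I p) hV (emb w.1) (hemb w) h
      have h2 : Cocyc.Bdy I.cocomplex p (emb w.1) := h1
      have h3 := Cocyc.Bdy.rs h2 hW.le
      have h4 : Cocyc.rs hW.le (emb w.1) = (show Γ(I.cocomplex.X p, j ''ᵁ ⊤) from w.1) :=
        (Cocyc.rs_rs hW.ge hW.le _).trans (Cocyc.rs_self _ _)
      rw [h4] at h3
      exact h3
    · intro h
      exact Cocyc.hcls_eq_zero_of_bdy (pushCx f I.cocomplex) p (V := V) _ (hemb w)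
        (Cocyc.Bdy.rs (K := I.cocomplex) (z := (show Γ(I.cocomplex.X p, j ''ᵁ ⊤) from w.1)) h hW.ge)
  have hsurj : Function.Surjective toV := fun t => by
    obtain ⟨z, hz, rfl⟩ := Cocyc.exists_hcls_eq (localises_pushCx f I p) hV t
    refine ⟨⟨Cocyc.rs hW.le (show Γ(I.cocomplex.X p, f ⁻¹ᵁ V) from z),
      Cocyc.Coc.rs (K := I.cocomplex) (z := (show Γ(I.cocomplex.X p, f ⁻¹ᵁ V) from z)) hz hW.le⟩, ?_⟩
    have e : emb (Cocyc.rs hW.le (show Γ(I.cocomplex.X p, f ⁻¹ᵁ V) from z)) = z :=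
      (Cocyc.rs_rs hW.le hW.ge _).trans (Cocyc.rs_self _ _)
    simp only [toV, AddMonoidHom.mk'_apply, e]
  let g : Coh.HH X' (M.restrict j) p →+ Γ((pushCx f I.cocomplex).homology p, V) :=
    AddMonoidHom.liftOfSurjective E hE ⟨toV, fun w hw => (hV0 w).2 ((hE0 w).1 hw)⟩
  have hg : ∀ w, g (E w) = toV w := fun w =>
    AddMonoidHom.liftOfRightInverse_comp_apply _ _ _ _ _
  have hgb : Function.Bijective g := by
    refine ⟨(injective_iff_map_eq_zero _).2 fun x hx => ?_, fun t => ?_⟩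
    · obtain ⟨w, rfl⟩ := hE x
      rw [hg] at hx
      exact (hE0 w).2 ((hV0 w).1 hx)
    · obtain ⟨w, rfl⟩ := hsurj t
      exact ⟨E w, hg w⟩
  refine ⟨AddEquiv.ofBijective g hgb, fun a x => ?_⟩
  obtain ⟨z, rfl⟩ := hE x
  show g (a • E z) = a • g (E z)
  let r : Γ(X', ⊤) := Coh.toGlobal (affBase f hV) a
  have hc : r • z.1 ∈ cocycles I' p ⊤ := Cocyc.coc_smul _ p _ z.2
  have hEs : E ⟨r • z.1, hc⟩ = a • E z := by
    apply (HEquivTop (Coh.toAb (M.restrict j)) p).injective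
    refine ((HEquivTop (Coh.toAb (M.restrict j)) p).apply_symm_apply _).trans ?_
    have e : (X'.presheaf.map (homOfLE (le_top : (⊤ : X'.Opens) ≤ ⊤)).op r : Γ(X', ⊤)) = r := by
      rw [show (homOfLE (le_top : (⊤ : X'.Opens) ≤ ⊤)).op = 𝟙 (op (⊤ : X'.Opens)) from rfl,
        X'.presheaf.map_id]
      rfl
    have h' : X'.presheaf.map (homOfLE (le_top : (⊤ : X'.Opens) ≤ ⊤)).op r • z.1 ∈ cocycles I' p ⊤ := by
      rw [e]; exact hc
    have hs := cocClass_smul I' p ⊤ r z h'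
    rw [show (⟨_, h'⟩ : cocycles I' p ⊤) = ⟨r • z.1, hc⟩ from Subtype.ext (by simp only [e])] at hs
    refine hs.trans ?_
    have hz : cocClass I' p ⊤ z = HEquivTop (Coh.toAb (M.restrict j)) p (E z) :=
      ((HEquivTop (Coh.toAb (M.restrict j)) p).apply_symm_apply _).symm
    rw [hz]
    exact Ext.comp_assoc_of_third_deg_zero (C := AbSheaf X') (Ext.mk₀ freeTopIso.hom)
      (show Ext.{u} _ (Coh.toAb (M.restrict j)) p from E z) (Ext.mk₀ (Coh.smulAb (M.restrict j) r)) (zero_add p)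
  rw [← hEs, hg, hg]
  refine Eq.trans ?_ (Cocyc.hcls_smul (pushCx f I.cocomplex) p (V := V) a (emb z.1) (hemb z))
  simp only [toV, AddMonoidHom.mk'_apply]
  congr 1
  change Cocyc.rs hW.ge (((j.appIso ⊤).inv r) • (show Γ(I.cocomplex.X p, j ''ᵁ ⊤) from z.1)) = f.app V a • _
  rw [Cocyc.rs]
  erw [Scheme.Modules.map_smul]
  congr 1
  rw [toGlobal_affBase f hV a, ← ConcreteCategory.comp_apply, ← Functor.map_comp]
  convert ConcreteCategory.id_apply (f.app V a)
  exact X.presheaf.map_id _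

include hV in
/-- **`Γ(V, R^p f_* M) = H^p(f⁻¹V, M)`, linearly over `Γ(V, O)`.** -/
theorem exists_Rpush_equiv [HasInjectiveResolutions X.Modules] (p : ℕ) :
    ∃ e : Coh.HH ((f ⁻¹ᵁ V : X.Opens) : Scheme.{u}) (M.restrict (f ⁻¹ᵁ V).ι) p ≃+
        Γ((Coh.Rpush f p).obj M, V),
      ∀ (a : Γ(S, V)) x, letI := modHH (A := Γ(S, V)) (affBase f hV) (M.restrict (f ⁻¹ᵁ V).ι) p
        e (a • x) = a • e x := by
  letI := modHH (A := Γ(S, V)) (affBase f hV) (M.restrict (f ⁻¹ᵁ V).ι) p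
  obtain ⟨e, he⟩ := exists_homology_equiv f hV M (.ofInjective (injectiveResolution M)) p
  let i := (rpushIso f M p).symm
  let ei : Γ((pushCx f (injectiveResolution M).cocomplex).homology p, V) ≃+ Γ((Coh.Rpush f p).obj M, V) :=
    { toFun := i.hom.app V
      invFun := i.inv.app V
      left_inv := fun t => by
        rw [← ConcreteCategory.comp_apply, ← Scheme.Modules.Hom.comp_app, Iso.hom_inv_id]
        exact ConcreteCategory.id_apply t
      right_inv := fun t => by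
        rw [← ConcreteCategory.comp_apply, ← Scheme.Modules.Hom.comp_app, Iso.inv_hom_id]
        exact ConcreteCategory.id_apply t
      map_add' := map_add _ }
  refine ⟨e.trans ei, fun a x => ?_⟩
  show i.hom.app V (e (a • x)) = a • i.hom.app V (e x)
  rw [he]
  exact (QCoh.appLinear i.hom V).map_smul a (e x)

end GrothLib.BCCoh
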