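import Groth.Agent.Lib.BCCoh.Chain
import Groth.Agent.S2381

/-! # Ranks of cochain complexes through their chain complexes -/

set_option autoImplicit false
set_option linter.style.haveILetI false
universe u

open CategoryTheory CategoryTheory.Limits ComplexShape

namespace GrothLib.BCCoh

variable {A : Type u} [CommRing A]

theorem dRank_chn (L : CochainComplex (ModuleCat.{u} A) ℤ) (i j : ℤ) (h : -i = j) (x : PrimeSpectrum A) :
    CohIII.dRank (chn L) i x = CohIII.dRank L j x :=
  ((CohIII.bcCx (algebraMap A x.asIdeal.ResidueField) L).restrictionHomologyIso embeddingDownIntUpInt (i + 1) i (i - 1)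
    (by simp) (by simp) (show embeddingDownIntUpInt.f (i + 1) = j - 1 by simp; omega)
    (show embeddingDownIntUpInt.f i = j from h)
    (show embeddingDownIntUpInt.f (i - 1) = j + 1 by simp; omega) (by simp) (by simp)).toLinearEquiv.finrank_eq

/-- Locally constant rank over a reduced ring gives exactness. -/
theorem exact_of_isLocallyConstant [IsNoetherianRing A] [IsReduced A] (L : CochainComplex (ModuleCat.{u} A) ℤ)
    (hL : ∀ i, Module.Finite A (L.X i) ∧ Module.Flat A (L.X i)) (p : ℤ)
    (h : IsLocallyConstant (CohIII.dRank L p)) :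
    (CohIII.TFun L p).PreservesMonomorphisms ∧ (CohIII.TFun L p).PreservesEpimorphisms := by
  have hd : CohIII.dRank (chn L) (-p) = CohIII.dRank L p :=
    funext fun x => dRank_chn L (-p) p (neg_neg p) x
  obtain ⟨h1, h2⟩ := (Groth.Agent.S2381.result (chn L) (fun i => hL (-i)) (-p)).2 inferInstance (hd ▸ h)
  exact ⟨(Functor.PreservesMonomorphisms.iso_iff (chT L (-p) p (neg_neg p))).1 h1,
    (Functor.preservesEpimorphisms.iso_iff (chT L (-p) p (neg_neg p))).1 h2⟩

end GrothLib.BCCoh
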