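import Groth.Agent.Lib.FlatCx.Ker
import Groth.Agent.Lib.FlatCx.Misc

/-! # Complexes of flat modules with flat homology -/

set_option autoImplicit false
set_option linter.style.haveILetI false
universe u

open CategoryTheory CategoryTheory.Limits TensorProduct

namespace GrothLib.BCCoh

variable {A : Type u} [CommRing A] (K : CochainComplex (ModuleCat.{u} A) ℤ) [∀ i, Module.Flat A (K.X i)]

/-- If the homology is flat and vanishes universally in high degrees, the cokernels of the differentials are flat. -/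
theorem flat_coker_of_flat_homology_ge (b k : ℤ)
    (high : ∀ (M : ModuleCat.{u} A) (i : ℤ), b ≤ i → IsZero (CohIII.T K i M))
    (hH : ∀ i, k ≤ i → Module.Flat A (K.homology i)) (i : ℤ) (hki : k ≤ i) :
    Module.Flat A (K.X i ⧸ LinearMap.range (K.d ((ComplexShape.up ℤ).prev i) i).hom) := by
  suffices h : ∀ n : ℕ, ∀ i : ℤ, k ≤ i → b ≤ i + n →
      Module.Flat A (K.X i ⧸ LinearMap.range (K.d ((ComplexShape.up ℤ).prev i) i).hom) from
    h (b - i).toNat i hki (by omega)
  intro n
  induction n with
  | zero =>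
    intro i hki hi
    exact (FlatCx.preservesMono_iff K i).1 ⟨fun {M N} g _ =>
      ⟨fun a c _ => (high M i (by simpa using hi)).eq_of_tgt a c⟩⟩
  | succ n ih =>
    intro i hki hi
    have h1 : Module.Flat A (K.X ((ComplexShape.up ℤ).next i) ⧸
        LinearMap.range (K.d i ((ComplexShape.up ℤ).next i)).hom) := by
      have := ih (i + 1) (by omega) (by push_cast at hi ⊢; omega)
      rw [(ComplexShape.up ℤ).prev_eq' (show (ComplexShape.up ℤ).Rel i (i + 1) by simp)] at this
      rw [(ComplexShape.up ℤ).next_eq' (show (ComplexShape.up ℤ).Rel i (i + 1) by simp)]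
      exact this
    haveI : Module.Flat A (LinearMap.range (FlatCx.dBar K i)) := by
      haveI := h1
      rw [FlatCx.range_dBar]
      exact FlatCx.flat_of_flat_quotient _
    haveI : Module.Flat A (LinearMap.ker (FlatCx.dBar K i)) := by
      haveI := hH i hki
      exact Module.Flat.of_linearEquiv
        ((FlatCx.TUnitKerEquiv K i).symm ≪≫ₗ (FlatCx.TUnitIso K i).toLinearEquiv)
    exact FlatCx.flat_of_flat_ker_range (FlatCx.dBar K i)

theorem flat_coker_of_flat_homology (b : ℤ)
    (high : ∀ (M : ModuleCat.{u} A) (i : ℤ), b ≤ i → IsZero (CohIII.T K i M))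
    (hH : ∀ i, Module.Flat A (K.homology i)) (i : ℤ) :
    Module.Flat A (K.X i ⧸ LinearMap.range (K.d ((ComplexShape.up ℤ).prev i) i).hom) :=
  flat_coker_of_flat_homology_ge K b i high (fun j _ => hH j) i le_rfl

/-- Flat homology commutes with tensoring. -/
theorem nonempty_T_equiv_tensor (b : ℤ)
    (high : ∀ (M : ModuleCat.{u} A) (i : ℤ), b ≤ i → IsZero (CohIII.T K i M))
    (hH : ∀ i, Module.Flat A (K.homology i)) (i : ℤ) (M : ModuleCat.{u} A) :
    Nonempty (CohIII.T K i M ≃ₗ[A] K.homology i ⊗[A] M) := by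
  have he : (CohIII.TFun K i).PreservesEpimorphisms := by
    rw [FlatCx.preservesEpi_iff]
    have := flat_coker_of_flat_homology K b high hH (i + 1)
    rw [(ComplexShape.up ℤ).prev_eq' (show (ComplexShape.up ℤ).Rel i (i + 1) by simp)] at this
    rw [(ComplexShape.up ℤ).next_eq' (show (ComplexShape.up ℤ).Rel i (i + 1) by simp)]
    exact this
  exact ⟨(((FlatCx.TFunIsoTensor K i he).app M).toLinearEquiv) ≪≫ₗ
    TensorProduct.congr ((FlatCx.TUnitKerEquiv K i).symm ≪≫ₗ (FlatCx.TUnitIso K i).toLinearEquiv)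
      (LinearEquiv.refl A M)⟩

end GrothLib.BCCoh
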