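import Groth.Agent.Lib.BCCoh.Grauert
import Groth.Agent.Lib.BCCoh.ChainRank
import Groth.Agent.Lib.BCCoh.FlatHomology
import Groth.Agent.Lib.OX.LocFreeTensor
import Groth.Agent.Lib.Euler.TensorSupport
import Groth.Agent.Lib.AssPts.Points

/-! # Vanishing and exactness criteria on affine opens of the base -/

set_option autoImplicit false
set_option linter.style.haveILetI false
set_option maxHeartbeats 1000000
universe u

open CategoryTheory CategoryTheory.Limits AlgebraicGeometry Opposite TopologicalSpace TensorProduct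

namespace GrothLib.BCCoh

variable {A : Type u} [CommRing A]

theorem preservesMono_of_isZero {G : ModuleCat.{u} A ⥤ ModuleCat.{u} A} (h : ∀ M, IsZero (G.obj M)) :
    G.PreservesMonomorphisms :=
  ⟨fun {M N} g _ => ⟨fun a b _ => (h M).eq_of_tgt a b⟩⟩

theorem preservesEpi_of_isZero {G : ModuleCat.{u} A ⥤ ModuleCat.{u} A} (h : ∀ M, IsZero (G.obj M)) :
    G.PreservesEpimorphisms :=
  ⟨fun {M N} g _ => ⟨fun a b _ => (h N).eq_of_src a b⟩⟩

theorem preservesMono_iff_preservesEpi_pred (L : CochainComplex (ModuleCat.{u} A) ℤ)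
    [∀ i, Module.Flat A (L.X i)] {i j : ℤ} (h : i + 1 = j) :
    (CohIII.TFun L j).PreservesMonomorphisms ↔ (CohIII.TFun L i).PreservesEpimorphisms := by
  rw [FlatCx.preservesEpi_iff, FlatCx.preservesMono_iff,
    (ComplexShape.up ℤ).next_eq' (show (ComplexShape.up ℤ).Rel i j by simpa using h),
    (ComplexShape.up ℤ).prev_eq' (show (ComplexShape.up ℤ).Rel i j by simpa using h)]

/-- Sections of a flat module on an affine open are flat. -/
theorem flat_sections_self {Y : Scheme.{u}} (N : Y.Modules) [N.IsQuasicoherent] (hN : FlatMod.IsFlat N)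
    {V : Y.Opens} (hV : IsAffineOpen V) : Module.Flat Γ(Y, V) Γ(N, V) := by
  refine Module.flat_of_isLocalized_maximal Γ(Y, V) Γ(N, V)
    (fun P _ => LocalizedModule P.primeCompl Γ(N, V)) (fun P _ => LocalizedModule.mkLinearMap _ _)
    fun P hP => ?_
  obtain ⟨x, hx, hxP⟩ := AssPts.exists_point hV P hP.isPrime
  refine FlatFP.flat_localized_prime_congr hxP ?_
  let O := Y.presheaf.stalk x
  letI := Y.presheaf.algebra_section_stalk ⟨x, hx⟩
  haveI := FlatFP.isLocalization_stalk_primeAt hV hx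
  letI : Module Γ(Y, V) (N.presheaf.stalk x) := Module.compHom _ (Y.presheaf.germ V x hx).hom
  haveI : IsScalarTower Γ(Y, V) O (N.presheaf.stalk x) := IsScalarTower.of_algebraMap_smul fun _ _ => rfl
  obtain ⟨g, hg, -⟩ := FlatFP.isLocalizedModule_germ N hV hx
  haveI := hg
  haveI : Module.Flat O (N.presheaf.stalk x) := hN x
  haveI : Module.Flat Γ(Y, V) O := IsLocalization.flat O (WeakAss.primeAt x hx).primeCompl
  haveI : Module.Flat Γ(Y, V) (N.presheaf.stalk x) := Module.Flat.trans Γ(Y, V) O _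
  exact Module.Flat.of_linearEquiv (IsLocalizedModule.iso (WeakAss.primeAt x hx).primeCompl g)

variable {X Y : Scheme.{u}} (f : X ⟶ Y) {V : Y.Opens} (hV : IsAffineOpen V) (F : X.Modules) [F.IsQuasicoherent]

theorem fromSpec_mem (x : PrimeSpectrum Γ(Y, V)) : hV.fromSpec x ∈ V :=
  hV.range_fromSpec.le ⟨x, rfl⟩

theorem primeIdealOf_fromSpec (x : PrimeSpectrum Γ(Y, V)) :
    hV.primeIdealOf ⟨hV.fromSpec x, fromSpec_mem hV x⟩ = x :=
  hV.fromSpec.isOpenEmbedding.injective (hV.fromSpec_primeIdealOf _)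

/-- `dRank` everywhere. -/
theorem Model.dRank_eq_fiberRank (m : Model (affBase f hV) (F.restrict (f ⁻¹ᵁ V).ι)) (p : ℕ)
    (x : PrimeSpectrum Γ(Y, V)) : CohIII.dRank m.L (p : ℤ) x = CohIII.fiberRank f F p (hV.fromSpec x) := by
  rw [m.fiberRank_affine f hV F p _ (fromSpec_mem hV x), primeIdealOf_fromSpec]

theorem Model.isLocallyConstant_dRank (m : Model (affBase f hV) (F.restrict (f ⁻¹ᵁ V).ι)) (p : ℕ)
    (h : IsLocallyConstant (CohIII.fiberRank f F p)) : IsLocallyConstant (CohIII.dRank m.L (p : ℤ)) := by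
  have : CohIII.dRank m.L (p : ℤ) = CohIII.fiberRank f F p ∘ hV.fromSpec :=
    funext fun x => m.dRank_eq_fiberRank f hV F p x
  rw [this]
  exact h.comp_continuous hV.fromSpec.continuous

theorem fiberRank_eq_zero_of_subsingleton (p : ℕ) (y : Y) (h : Subsingleton (CohIII.fiberH f F y p)) :
    CohIII.fiberRank f F p y = 0 :=
  Module.finrank_zero_of_subsingleton

/-- A fibre cohomology group vanishes when its rank does. -/
theorem Model.subsingleton_fiberH (m : Model (affBase f hV) (F.restrict (f ⁻¹ᵁ V).ι)) (p : ℕ) (y : Y) (hy : y ∈ V)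
    (h : CohIII.fiberRank f F p y = 0) : Subsingleton (CohIII.fiberH f F y p) := by
  obtain ⟨ψ, k, hk, H, -⟩ := exists_field_map f hV y hy
  let κ := Y.residueField y
  have hF : (F.restrict (f ⁻¹ᵁ V).ι).IsQuasicoherent := inferInstance
  obtain ⟨e, he⟩ := m.exists_bcEquiv ψ (f.fiberToSpecResidueField y) k H hF p
  let i : (Scheme.Modules.pullback k).obj (F.restrict (f ⁻¹ᵁ V).ι) ≅
      (Scheme.Modules.pullback (f.fiberι y)).obj F :=
    (Scheme.Modules.pullback k).mapIso ((Scheme.Modules.restrictFunctorIsoPullback (f ⁻¹ᵁ V).ι).app F) ≪≫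
      (Scheme.Modules.pullbackComp k (f ⁻¹ᵁ V).ι).app F ≪≫ (Scheme.Modules.pullbackCongr hk).app F
  obtain ⟨ei, hei⟩ := exists_hh_equiv (B := κ) (f.fiberToSpecResidueField y) i p
  letI : Module κ (Coh.HH (f.fiber y) ((Scheme.Modules.pullback k).obj (F.restrict (f ⁻¹ᵁ V).ι)) p) :=
    modHH (A := κ) (f.fiberToSpecResidueField y) _ p
  letI : Module κ (Coh.HH (f.fiber y) ((Scheme.Modules.pullback (f.fiberι y)).obj F) p) :=
    modHH (A := κ) (f.fiberToSpecResidueField y) _ p
  let l := (e.trans ei).toLinearEquiv fun b x => (congrArg ei (he b x)).trans (hei b (e x))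
  haveI : Module.Finite κ ((CohIII.bcCx ψ m.L).X (p : ℤ)) := by
    letI := ψ.toAlgebra
    haveI := (m.finFree (p : ℤ)).1
    exact inferInstanceAs (Module.Finite κ (κ ⊗[Γ(Y, V)] m.L.X (p : ℤ)))
  haveI := FlatCx.finite_homology (CohIII.bcCx ψ m.L) (p : ℤ)
  haveI : Subsingleton ((CohIII.bcCx ψ m.L).homology (p : ℤ)) :=
    Module.finrank_zero_iff.1 (l.finrank_eq.trans h)
  exact l.symm.toEquiv.subsingleton

end GrothLib.BCCoh
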