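import Groth.Agent.Lib.BCCoh.SecTensor
import Groth.Agent.Lib.FormalFun.HomLift
import Groth.Agent.Lib.QCoh.Extension
import Groth.Agent.Lib.QCoh.Filtration
import Mathlib.LinearAlgebra.TensorProduct.Quotient

/-! # `F/JF = f^*(A/J)~ ⊗ F` -/

set_option autoImplicit false
set_option linter.style.haveILetI false
set_option maxHeartbeats 800000
universe u

open CategoryTheory CategoryTheory.Limits AlgebraicGeometry Opposite TopologicalSpace TensorProduct
open GrothLib.OX (tmulSec)

namespace GrothLib.BCCoh

variable {A : Type u} [CommRing A] {X : Scheme.{u}}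

/-- `s ↦ m ⊗ s`. -/
noncomputable def elemHom (f : X ⟶ Spec (CommRingCat.of A)) (F : X.Modules) (M : ModuleCat.{u} A) (m : M) :
    F ⟶ (TF f F).obj M :=
  ⟨PresheafOfModules.homMk
    { app := fun U => AddCommGrpCat.ofHom
        { toFun := fun s => (tmulSec (PM f M) F (unop U) (pM f M (unop U) m) s : Γ((TF f F).obj M, unop U))
          map_zero' := left_eq_add.mp ((congrArg (tmulSec (PM f M) F (unop U) (pM f M (unop U) m))
            (add_zero _).symm).trans (OX.tmulSec_add_right (PM f M) F (unop U) _ 0 0))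
          map_add' := fun s s' => OX.tmulSec_add_right (PM f M) F (unop U) _ s s' }
      naturality := fun U V i => AddCommGrpCat.hom_ext (AddMonoidHom.ext fun s =>
        (secHom_res f F M (leOfHom i.unop) s m).symm) }
    fun U r s => OX.tmulSec_smul_right (PM f M) F (unop U) r (pM f M (unop U) m) s⟩

theorem elemHom_app (f : X ⟶ Spec (CommRingCat.of A)) (F : X.Modules) (M : ModuleCat.{u} A) (m : M)
    (U : X.Opens) (s : Γ(F, U)) :
    (elemHom f F M m).app U s = tmulSec (PM f M) F U (pM f M U m) s := rfl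

theorem elemHom_comp_map (f : X ⟶ Spec (CommRingCat.of A)) (F : X.Modules) {M N : ModuleCat.{u} A}
    (φ : M ⟶ N) (m : M) : elemHom f F M m ≫ (TF f F).map φ = elemHom f F N (φ m) := by
  apply Scheme.Modules.hom_ext
  intro U
  refine AddCommGrpCat.hom_ext (AddMonoidHom.ext fun s => ?_)
  exact secHom_map f F φ U s m

variable [X.Over (Spec (CommRingCat.of A))] [IsLocallyNoetherian X]

theorem smulMod_app (F : X.Modules) (a : A) (U : X.Opens) (s : Γ(F, U)) :
    (Formal.smulMod A F a).app U s = psi (X ↘ Spec (CommRingCat.of A)) U a • s :=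
  Coh.smulAb_app F _ (op U) s

/-- `F → f^*(A/J)~ ⊗ F` is the quotient by `J`. -/
theorem isQuot_elemHom (J : Ideal A) (F : X.Modules) (hF : Coh.IsCoh F) :
    FormalSys.IsQuot J (elemHom (X ↘ Spec (CommRingCat.of A)) F (ModuleCat.of A (A ⧸ J)) (Submodule.Quotient.mk 1)) := by
  haveI := hF.1
  set f := X ↘ Spec (CommRingCat.of A)
  let M := ModuleCat.of A (A ⧸ J)
  let π := elemHom f F M (Submodule.Quotient.mk 1)
  have h0 : ∀ a ∈ J, Formal.smulMod A F a ≫ π = 0 := fun a ha => by
    apply Scheme.Modules.hom_ext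
    intro U
    refine AddCommGrpCat.hom_ext (AddMonoidHom.ext fun s => ?_)
    show π.app U ((Formal.smulMod A F a).app U s) = 0
    rw [smulMod_app, elemHom_app]
    refine (OX.tmulSec_smul_right (PM f M) F U (psi f U a) _ s).trans ?_
    refine (OX.tmulSec_smul_left (PM f M) F U (psi f U a) (pM f M U (Submodule.Quotient.mk 1)) s).symm.trans ?_
    refine (congrArg (fun t => tmulSec (PM f M) F U t s) (pM_smul f M U a (Submodule.Quotient.mk 1)).symm).trans ?_
    have : (a • (Submodule.Quotient.mk 1 : A ⧸ J) : M) = 0 := by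
      rw [← Submodule.Quotient.mk_smul, smul_eq_mul, mul_one, (Submodule.Quotient.mk_eq_zero J).2 ha]
    refine (congrArg (fun t => tmulSec (PM f M) F U (pM f M U t) s) this).trans ?_
    letI := secModule f F U
    exact ((secHom_tmul f F M U s 0).symm).trans (by rw [TensorProduct.tmul_zero, map_zero])
  let q := Formal.modPowπ J 1 F
  have hq : FormalSys.IsQuot J q := by
    have := FormalSys.IsQuot.modPowπ J 1 F
    rwa [pow_one] at this
  obtain ⟨ψ, hψ⟩ := hq.exists_desc π h0
  have hQc : Coh.IsCoh (Formal.modPow J 1 F) := FormalFun.isCoh_modPow J 1 hF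
  haveI := hQc.1
  haveI := isQuasicoherent_TF f F M
  have hsurjq : ∀ U : X.Opens, IsAffineOpen U → Function.Surjective (q.app U) := fun U hU => by
    haveI : Epi q := hq.epi
    have hS : (ShortComplex.mk (kernel.ι q) q (kernel.condition q)).ShortExact :=
      ShortComplex.ShortExact.mk' (ShortComplex.exact_kernel q) inferInstance inferInstance
    haveI := (QCoh.isCoh_kernel q hF hQc).1
    exact QCoh.app_surjective_of_isAffineOpen hS hU
  have hbij : ∀ U : X.Opens, IsAffineOpen U → Function.Bijective (ψ.app U) := fun U hU => by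
    letI := secModule f F U
    have hb := bijective_secHom f F M hU
    have hψ' : ∀ s, ψ.app U (q.app U s) = π.app U s := fun s =>
      ConcreteCategory.congr_hom (congrArg (fun t => Scheme.Modules.Hom.app t U) hψ) s
    constructor
    · rw [injective_iff_map_eq_zero]
      intro z hz
      obtain ⟨s, rfl⟩ := hsurjq U hU z
      rw [hψ', elemHom_app] at hz
      have h1 : s ⊗ₜ[A] (Submodule.Quotient.mk 1 : A ⧸ J) = 0 :=
        hb.1 (((secHom_tmul f F M U s _).trans hz).trans (map_zero _).symm)
      have hs : s ∈ J • (⊤ : Submodule A Γ(F, U)) := by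
        have h2 := congrArg (TensorProduct.tensorQuotEquivQuotSMul Γ(F, U) J) h1
        erw [map_zero, TensorProduct.tensorQuotEquivQuotSMul_tmul_mk, one_smul] at h2
        exact (Submodule.Quotient.mk_eq_zero _).1 h2
      refine Submodule.smul_induction_on hs (fun a ha t _ => ?_) fun x y hx hy => by
        rw [map_add, hx, hy, add_zero]
      show q.app U (psi f U a • t) = 0
      rw [← smulMod_app]
      exact ConcreteCategory.congr_hom (congrArg (fun t => Scheme.Modules.Hom.app t U) (hq.comp_eq_zero a ha)) t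
    · intro w
      obtain ⟨z, rfl⟩ := hb.2 w
      refine TensorProduct.induction_on z ⟨0, (map_zero _).trans (map_zero _).symm⟩ (fun s m => ?_)
        fun z z' hz hz' => ?_
      · obtain ⟨a, rfl⟩ := Submodule.Quotient.mk_surjective J m
        refine ⟨q.app U (a • s), ?_⟩
        rw [hψ', elemHom_app, ← secHom_tmul f F M U, TensorProduct.smul_tmul, ← Submodule.Quotient.mk_smul,
          smul_eq_mul, mul_one]
      · obtain ⟨v, hv⟩ := hz
        obtain ⟨v', hv'⟩ := hz'
        exact ⟨v + v', by rw [map_add, map_add, hv, hv']⟩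
  haveI : IsIso ψ := QCoh.isIso_of_bijective_on_cover ψ (fun U : X.affineOpens => U.1)
    (iSup_affineOpens_eq_top X) (fun U => U.2) fun U => hbij U.1 U.2
  show FormalSys.IsQuot J π
  rw [← hψ]
  exact hq.comp_isIso ψ

/-- `F = f^* A~ ⊗ F`. -/
theorem isIso_elemHom_one (F : X.Modules) (hF : Coh.IsCoh F) :
    IsIso (elemHom (X ↘ Spec (CommRingCat.of A)) F (ModuleCat.of A A) 1) := by
  set f := X ↘ Spec (CommRingCat.of A)
  haveI := (isQuot_elemHom (⊥ : Ideal A) F hF).isIso_of_killedBy fun a ha => by
    apply Scheme.Modules.hom_ext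
    intro U
    refine AddCommGrpCat.hom_ext (AddMonoidHom.ext fun s => ?_)
    show (Formal.smulMod A F a).app U s = 0
    rw [smulMod_app, (Ideal.mem_bot.1 ha), map_zero, zero_smul]
  let e : ModuleCat.of A A ≅ ModuleCat.of A (A ⧸ (⊥ : Ideal A)) :=
    (Submodule.quotEquivOfEqBot (⊥ : Submodule A A) rfl).symm.toModuleIso
  have h : elemHom f F (ModuleCat.of A A) 1 ≫ (TF f F).map e.hom =
      elemHom f F _ (Submodule.Quotient.mk 1) := elemHom_comp_map f F e.hom 1
  haveI : IsIso (elemHom f F (ModuleCat.of A A) 1 ≫ (TF f F).map e.hom) := by rw [h]; infer_instance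
  exact IsIso.of_isIso_comp_right _ ((TF f F).map e.hom)

end GrothLib.BCCoh
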