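import Mathlib.Algebra.Homology.Embedding.Extend
import Mathlib.Algebra.Homology.Additive

/-! # Applying a functor commutes with extension of complexes -/

set_option autoImplicit false

open CategoryTheory CategoryTheory.Limits

namespace GrothLib.BCCoh

variable {ι ι' : Type*} {c : ComplexShape ι} {c' : ComplexShape ι'} (e : c.Embedding c') [e.IsRelIff]
  {V W : Type*} [Category V] [Category W] [Preadditive V] [Preadditive W] [HasZeroObject V]
  [HasZeroObject W] (F : V ⥤ W) [F.Additive] (K : HomologicalComplex V c)

/-- Componentwise comparison. -/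
noncomputable def mapExtendX (i' : ι') :
    F.obj ((K.extend e).X i') ≅
      (((F.mapHomologicalComplex c).obj K).extend e).X i' := by
  classical
  exact if h : ∃ i, e.f i = i' then
    F.mapIso (K.extendXIso e h.choose_spec) ≪≫
      (((F.mapHomologicalComplex c).obj K).extendXIso e h.choose_spec).symm
  else
    (F.map_isZero (K.isZero_extend_X e i' (fun i hi => h ⟨i, hi⟩))).iso
      (HomologicalComplex.isZero_extend_X _ e i' (fun i hi => h ⟨i, hi⟩))

/-- `extendXIso` of an image complex. -/
noncomputable def exI {i : ι} {i' : ι'} (h : e.f i = i') :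
    (((F.mapHomologicalComplex c).obj K).extend e).X i' ≅ F.obj (K.X i) :=
  ((F.mapHomologicalComplex c).obj K).extendXIso e h

theorem mapExtendX_hom {i : ι} {i' : ι'} (h : e.f i = i') :
    (mapExtendX e F K i').hom = F.map (K.extendXIso e h).hom ≫
      (exI e F K h).inv := by
  classical
  have hex : ∃ i, e.f i = i' := ⟨i, h⟩
  rw [mapExtendX, dif_pos hex]
  obtain rfl : hex.choose = i := e.injective_f (hex.choose_spec.trans h.symm)
  rfl

/-- `F(K.extend) = (F K).extend`. -/
noncomputable def mapExtendIso :
    (F.mapHomologicalComplex c').obj (K.extend e) ≅ ((F.mapHomologicalComplex c).obj K).extend e :=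
  HomologicalComplex.Hom.isoOfComponents (mapExtendX e F K) fun i' j' _ => by
    by_cases hi : ∃ i, e.f i = i'
    · obtain ⟨i, hi⟩ := hi
      by_cases hj : ∃ j, e.f j = j'
      · obtain ⟨j, hj⟩ := hj
        show (mapExtendX e F K i').hom ≫ _ = F.map ((K.extend e).d i' j') ≫ (mapExtendX e F K j').hom
        rw [mapExtendX_hom e F K hi, mapExtendX_hom e F K hj,
          show (((F.mapHomologicalComplex c).obj K).extend e).d i' j' =
            (exI e F K hi).hom ≫ F.map (K.d i j) ≫ (exI e F K hj).inv from
            HomologicalComplex.extend_d_eq _ e hi hj]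
        rw [HomologicalComplex.extend_d_eq _ e hi hj, F.map_comp, F.map_comp]
        simp only [Category.assoc, Functor.mapHomologicalComplex_obj_d]
        rw [Iso.inv_hom_id_assoc, ← F.map_comp_assoc (K.extendXIso e hj).inv, Iso.inv_hom_id, F.map_id,
          Category.id_comp]
      · exact (HomologicalComplex.isZero_extend_X _ e j' (fun j hj' => hj ⟨j, hj'⟩)).eq_of_tgt _ _
    · exact (F.map_isZero (K.isZero_extend_X e i' (fun i hi' => hi ⟨i, hi'⟩))).eq_of_src _ _

theorem mapExtendIso_natural {G : V ⥤ W} [G.Additive] (τ : F ⟶ G) :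
    (NatTrans.mapHomologicalComplex τ c').app (K.extend e) ≫ (mapExtendIso e G K).hom =
      (mapExtendIso e F K).hom ≫
        HomologicalComplex.extendMap ((NatTrans.mapHomologicalComplex τ c).app K) e := by
  refine HomologicalComplex.hom_ext _ _ fun i' => ?_
  by_cases hi : ∃ i, e.f i = i'
  · obtain ⟨i, hi⟩ := hi
    show τ.app ((K.extend e).X i') ≫ (mapExtendX e G K i').hom = (mapExtendX e F K i').hom ≫ _
    rw [mapExtendX_hom e G K hi, mapExtendX_hom e F K hi,
      show (HomologicalComplex.extendMap ((NatTrans.mapHomologicalComplex τ c).app K) e).f i' =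
        (exI e F K hi).hom ≫ τ.app (K.X i) ≫ (exI e G K hi).inv from
        HomologicalComplex.extendMap_f _ e hi]
    simp only [Category.assoc, NatTrans.mapHomologicalComplex_app_f]
    rw [← NatTrans.naturality_assoc, Iso.inv_hom_id_assoc]
  · exact (HomologicalComplex.isZero_extend_X _ e i' (fun i hi' => hi ⟨i, hi'⟩)).eq_of_tgt _ _

theorem mapExtendIso_natural' {L : HomologicalComplex V c} (φ : K ⟶ L) :
    (F.mapHomologicalComplex c').map (HomologicalComplex.extendMap φ e) ≫ (mapExtendIso e F L).hom =
      (mapExtendIso e F K).hom ≫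
        HomologicalComplex.extendMap ((F.mapHomologicalComplex c).map φ) e := by
  refine HomologicalComplex.hom_ext _ _ fun i' => ?_
  by_cases hi : ∃ i, e.f i = i'
  · obtain ⟨i, hi⟩ := hi
    show F.map ((HomologicalComplex.extendMap φ e).f i') ≫ (mapExtendX e F L i').hom =
      (mapExtendX e F K i').hom ≫ _
    rw [mapExtendX_hom e F L hi, mapExtendX_hom e F K hi, HomologicalComplex.extendMap_f φ e hi,
      show (HomologicalComplex.extendMap ((F.mapHomologicalComplex c).map φ) e).f i' =
        (exI e F K hi).hom ≫ F.map (φ.f i) ≫ (exI e F L hi).inv from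
        HomologicalComplex.extendMap_f _ e hi, F.map_comp, F.map_comp]
    simp only [Category.assoc, Functor.mapHomologicalComplex_map_f]
    rw [← F.map_comp_assoc (L.extendXIso e hi).inv, Iso.inv_hom_id, F.map_id, Category.id_comp,
      Iso.inv_hom_id_assoc]
  · exact (HomologicalComplex.isZero_extend_X _ e i' (fun i hi' => hi ⟨i, hi'⟩)).eq_of_tgt _ _

end GrothLib.BCCoh
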