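import Groth.Agent.Lib.BCCoh.BaseModel
import Groth.Agent.Lib.BCCoh.RpushAffine
import Groth.Agent.Lib.DCxRing.BC
import Groth.Agent.Lib.QCoh.SupportExact
import Groth.Agent.Lib.FormalFn.Push

/-! # Flat base change for quasi-coherent cohomology on separated schemes, and stalks of higher direct images -/

set_option autoImplicit false
set_option linter.style.haveILetI false
set_option maxHeartbeats 1000000
universe u

open CategoryTheory CategoryTheory.Limits AlgebraicGeometry Opposite TopologicalSpace TensorProduct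

namespace GrothLib.BCCoh

/-- **Flat base change over an affine base**, for a separated quasi-compact scheme. -/
theorem exists_flatBC {A B : Type u} [CommRing A] [CommRing B] (φ : A →+* B) (hφ : φ.Flat) {X X' : Scheme.{u}}
    (f : X ⟶ Spec (CommRingCat.of A)) (f' : X' ⟶ Spec (CommRingCat.of B)) (g : X' ⟶ X)
    (H : IsPullback g f' f (Spec.map (CommRingCat.ofHom φ))) [CompactSpace X] [X.IsSeparated]
    (F : X.Modules) [F.IsQuasicoherent] (p : ℕ) :
    letI := φ.toAlgebra
    letI := modHH f F p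
    letI := modHH f' ((Scheme.Modules.pullback g).obj F) p
    Nonempty (B ⊗[A] Coh.HH X F p ≃ₗ[B] Coh.HH X' ((Scheme.Modules.pullback g).obj F) p) := by
  letI := φ.toAlgebra
  letI := modHH f F p
  letI := modHH f' ((Scheme.Modules.pullback g).obj F) p
  haveI : QuasiSeparatedSpace X := inferInstance
  obtain ⟨κ, _, U, hU, -, hcov⟩ := QCoh.exists_finite_affine_cover (U := (⊤ : X.Opens))
    (by simpa using isCompact_univ)
  have hcov' : iSup U = ⊤ := top_le_iff.1 hcov
  have haff : ∀ (n : ℕ) (a : Fin (n + 1) → κ), IsAffineOpen (⨅ k, U (a k)) :=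
    fun n a => IsAffineOpen.iInf fun k => hU (a k)
  obtain ⟨e, he, -⟩ := exists_linearEquiv f U hcov' haff p
  obtain ⟨e', he', -⟩ := exists_linearEquiv f' (fun i => g ⁻¹ᵁ U i) (iSup_preimage_eq_top g U hcov')
    (isAffineOpen_preimage_iInf φ f' g H U haff) p
  haveI := DR.preservesFiniteLimits_extendScalars φ hφ
  haveI : (ModuleCat.extendScalars.{u, u, u} φ).PreservesHomology :=
    Functor.preservesHomology_of_preservesEpis_and_kernels _
  have hq' : ((Scheme.Modules.pullback g).obj F).IsQuasicoherent := FittSheaf.isQuasicoherent_pullback g F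
  let j : (ModuleCat.extendScalars φ).obj ((cx f U F).homology p) ≅
      (cx f' (fun i => g ⁻¹ᵁ U i) ((Scheme.Modules.pullback g).obj F)).homology p :=
    (((cx f U F).sc p).mapHomologyIso (ModuleCat.extendScalars φ)).symm ≪≫
      HomologicalComplex.homologyMapIso (bcIso φ f f' g H F U haff) p
  let E : Coh.HH X F p ≃ₗ[A] (cx f U F).homology p := (e F inferInstance).toLinearEquiv (he F inferInstance)
  let E' := (e' _ hq').toLinearEquiv (he' _ hq')
  exact ⟨(TensorProduct.AlgebraTensorModule.congr (LinearEquiv.refl B B) E).trans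
    (j.toLinearEquiv.trans E'.symm)⟩

/-- **The stalk of a higher direct image is the cohomology over the local ring.** -/
theorem exists_stalk_Rpush_equiv {X S : Scheme.{u}} (f : X ⟶ S) [IsProper f] [IsLocallyNoetherian S]
    [HasInjectiveResolutions X.Modules] (F : X.Modules) (hF : Coh.IsCoh F) (y : S) (p : ℕ)
    (X₁ : Scheme.{u}) [X₁.Over (Spec (CommRingCat.of (S.presheaf.stalk y)))] (g : X₁ ⟶ X)
    (hsq : IsPullback g (X₁ ↘ Spec (CommRingCat.of (S.presheaf.stalk y))) f (S.fromSpecStalk y)) :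
    Nonempty (((Coh.Rpush f p).obj F).presheaf.stalk y ≃ₗ[S.presheaf.stalk y]
      Coh.HH X₁ ((Scheme.Modules.pullback g).obj F) p) := by
  haveI := hF.1
  obtain ⟨V, hV, hyV, -⟩ := Opens.isBasis_iff_nbhd.1 S.isBasis_affineOpens (Opens.mem_top y)
  let R := Γ(S, V)
  let O := S.presheaf.stalk y
  let φ : R →+* O := (S.presheaf.germ V y hyV).hom
  let X₀ : Scheme.{u} := (f ⁻¹ᵁ V : X.Opens)
  let f₀ : X₀ ⟶ Spec (CommRingCat.of R) := affBase f hV
  let str : X₁ ⟶ Spec (CommRingCat.of O) := X₁ ↘ Spec (CommRingCat.of O)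
  have hbase : Spec.map (CommRingCat.ofHom φ) ≫ hV.fromSpec = S.fromSpecStalk y :=
    hV.fromSpecStalk_eq_fromSpecStalk hyV
  have hsq₀ : IsPullback (f ⁻¹ᵁ V).ι f₀ f hV.fromSpec :=
    (isPullback_morphismRestrict f V).flip.of_iso (Iso.refl _) (Iso.refl _) hV.isoSpec (Iso.refl _)
      ((Category.comp_id _).trans (Category.id_comp _).symm) (Category.id_comp _).symm
      ((Category.comp_id _).trans (Category.id_comp _).symm)
      (by rw [Iso.refl_hom, Category.comp_id, hV.isoSpec_hom, hV.toSpecΓ_fromSpec])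
  have w : g ≫ f = (str ≫ Spec.map (CommRingCat.ofHom φ)) ≫ hV.fromSpec := by
    rw [Category.assoc, hbase]; exact hsq.w
  let g₁ : X₁ ⟶ X₀ := hsq₀.lift g (str ≫ Spec.map (CommRingCat.ofHom φ)) w
  have hg₁ : g₁ ≫ (f ⁻¹ᵁ V).ι = g := hsq₀.lift_fst _ _ w
  have H : IsPullback g₁ str f₀ (Spec.map (CommRingCat.ofHom φ)) := by
    refine IsPullback.of_right ?_ (hsq₀.lift_snd _ _ w) hsq₀
    rw [hg₁, hbase]
    exact hsq
  letI : X₀.Over (Spec (CommRingCat.of R)) := ⟨f₀⟩
  haveI : IsProper f₀ := MorphismProperty.of_isPullback (P := @IsProper) hsq₀ ‹IsProper f›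
  haveI : CompactSpace X₀ := QuasiCompact.compactSpace_of_compactSpace f₀
  haveI : X₀.IsSeparated := ⟨by rw [← terminal.comp_from f₀]; infer_instance⟩
  letI : Algebra R O := φ.toAlgebra
  haveI : IsLocalization.AtPrime O (WeakAss.primeAt y hyV) := FlatFP.isLocalization_stalk_primeAt hV hyV
  have hφ : φ.Flat := IsLocalization.flat O (WeakAss.primeAt y hyV).primeCompl
  haveI : ((f ⁻¹ᵁ V).ι.isOpenEmbedding.isOpenMap.functor).IsContinuous
      (Opens.grothendieckTopology X₀) (Opens.grothendieckTopology X) :=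
    (f ⁻¹ᵁ V).ι.isOpenEmbedding.functor_isContinuous
  haveI : (F.restrict (f ⁻¹ᵁ V).ι).IsQuasicoherent := (Cohom.isCoh_restrict F hF _).1
  obtain ⟨eb⟩ := exists_flatBC φ hφ f₀ str g₁ H (F.restrict (f ⁻¹ᵁ V).ι) p
  obtain ⟨er, her⟩ := exists_Rpush_equiv f hV F p
  have hN := Cohom.isCoh_Rpush f F hF p
  haveI := hN.1
  let N := (Coh.Rpush f p).obj F
  letI : Module R (N.presheaf.stalk y) := Module.compHom _ φ
  haveI : IsScalarTower R O (N.presheaf.stalk y) := IsScalarTower.of_algebraMap_smul fun _ _ => rfl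
  obtain ⟨g₀, hg₀, -⟩ := FlatFP.isLocalizedModule_germ N hV hyV
  let g₀' : Γ(N, V) →ₗ[R] N.presheaf.stalk y :=
    { toFun := fun z => g₀ z, map_add' := map_add g₀, map_smul' := fun c z => g₀.map_smul c z }
  haveI : IsLocalizedModule (WeakAss.primeAt y hyV).primeCompl g₀' := hg₀
  have hbc : IsBaseChange O g₀' :=
    IsLocalizedModule.isBaseChange (WeakAss.primeAt y hyV).primeCompl O g₀'
  letI : Module R (Coh.HH X₀ (F.restrict (f ⁻¹ᵁ V).ι) p) := modHH f₀ (F.restrict (f ⁻¹ᵁ V).ι) p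
  letI : Module O (Coh.HH X₁ ((Scheme.Modules.pullback g₁).obj (F.restrict (f ⁻¹ᵁ V).ι)) p) :=
    modHH str ((Scheme.Modules.pullback g₁).obj (F.restrict (f ⁻¹ᵁ V).ι)) p
  let er' : Coh.HH X₀ (F.restrict (f ⁻¹ᵁ V).ι) p ≃ₗ[R] Γ(N, V) := er.toLinearEquiv her
  let η : (Scheme.Modules.pullback g₁).obj (F.restrict (f ⁻¹ᵁ V).ι) ≅ (Scheme.Modules.pullback g).obj F :=
    (Scheme.Modules.pullback g₁).mapIso ((Scheme.Modules.restrictFunctorIsoPullback (f ⁻¹ᵁ V).ι).app F) ≪≫
      (Scheme.Modules.pullbackComp g₁ (f ⁻¹ᵁ V).ι).app F ≪≫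
      eqToIso (congrArg (fun t => (Scheme.Modules.pullback t).obj F) hg₁)
  obtain ⟨eη, -⟩ := FormalFn.exists_hh_equiv (A := O) η p
  exact ⟨((hbc.equiv.symm.trans
    (TensorProduct.AlgebraTensorModule.congr (LinearEquiv.refl O O) er'.symm)).trans eb).trans eη⟩

end GrothLib.BCCoh
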