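import Groth.Agent.Lib.OX.PullbackTensor
import Groth.Agent.Lib.FlatFP.Sheaf
import Groth.Agent.Lib.FittSheaf.Pullback
import Mathlib.RingTheory.IsTensorProduct
import Mathlib.RingTheory.Localization.BaseChange

/-! # Sections of pullbacks on affine opens -/

set_option autoImplicit false
set_option linter.style.haveILetI false
set_option maxHeartbeats 1000000
universe u

open CategoryTheory AlgebraicGeometry Opposite TopologicalSpace TensorProduct
open GrothLib.OX (germ pullSec)

namespace GrothLib.BCCoh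

/-- The unit of extension of scalars, composed with an isomorphism, is a base change. -/
theorem isBaseChange_unit {B C : Type u} [CommRing B] [CommRing C] [Algebra B C] (b : B →+* C)
    (hb : algebraMap B C = b) (M : ModuleCat.{u} B) (P : ModuleCat.{u} C)
    (e : (ModuleCat.extendScalars b).obj M ≅ P) [Module B P] [IsScalarTower B C P] (p : M →ₗ[B] P)
    (hp : ∀ m : M, p m = e.hom ((ModuleCat.extendRestrictScalarsAdj b).unit.app M m)) :
    IsBaseChange C p := by
  obtain rfl := hb
  apply IsBaseChange.of_lift_unique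
  intro Q iQ _ iC _ g
  letI : AddCommGroup Q := Module.addCommMonoidToAddCommGroup C
  let adj := ModuleCat.extendRestrictScalarsAdj (algebraMap B C)
  let Q' : ModuleCat.{u} C := ModuleCat.of C Q
  let g' : M ⟶ (ModuleCat.restrictScalars (algebraMap B C)).obj Q' :=
    ConcreteCategory.ofHom
      { toFun := fun m => (g m : Q)
        map_add' := fun x y => map_add g x y
        map_smul' := fun r m => by
          refine (g.map_smul r m).trans ?_
          show r • g m = algebraMap B C r • g m
          rw [algebraMap_smul] }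
  let mk : (P →ₗ[C] Q) ≃ (M ⟶ (ModuleCat.restrictScalars (algebraMap B C)).obj Q') :=
    { toFun := fun k => adj.homEquiv M Q' (e.hom ≫ ConcreteCategory.ofHom k)
      invFun := fun h => (e.inv ≫ (adj.homEquiv M Q').symm h).hom
      left_inv := fun k => by
        dsimp only
        rw [Equiv.symm_apply_apply, Iso.inv_hom_id_assoc]
        rfl
      right_inv := fun h => by
        dsimp only
        have h1 : e.hom ≫ ConcreteCategory.ofHom (e.inv ≫ (adj.homEquiv M Q').symm h).hom =
            (adj.homEquiv M Q').symm h := by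
          show e.hom ≫ e.inv ≫ _ = _
          rw [Iso.hom_inv_id_assoc]
        rw [h1, Equiv.apply_symm_apply] }
  have hmk : ∀ (k : P →ₗ[C] Q) (m : M), mk k m = k (p m) := fun k m => by
    rw [hp]
    exact ConcreteCategory.congr_hom (adj.homEquiv_unit M Q' (e.hom ≫ ConcreteCategory.ofHom k)) m
  refine ⟨mk.symm g', LinearMap.ext fun m => ?_, fun k hk => ?_⟩
  · refine (hmk (mk.symm g') m).symm.trans ?_
    rw [Equiv.apply_symm_apply]
    rfl
  · rw [Equiv.eq_symm_apply]
    exact ConcreteCategory.hom_ext _ _ fun m => (hmk k m).trans (LinearMap.congr_fun hk m)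

variable {X X' : Scheme.{u}} (q : X' ⟶ X) (F : X.Modules)

/-- A section pulled back, restricted. -/
noncomputable def pullRes (V : X.Opens) (V' : X'.Opens) (e : V' ≤ q ⁻¹ᵁ V) (s : Γ(F, V)) :
    Γ((Scheme.Modules.pullback q).obj F, V') :=
  ((Scheme.Modules.pullback q).obj F).presheaf.map (homOfLE e).op
    (show Γ((Scheme.Modules.pullback q).obj F, q ⁻¹ᵁ V) from pullSec q F V s)

theorem pullRes_add (V : X.Opens) (V' : X'.Opens) (e : V' ≤ q ⁻¹ᵁ V) (s t : Γ(F, V)) :
    pullRes q F V V' e (s + t) = pullRes q F V V' e s + pullRes q F V V' e t :=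
  (congrArg (((Scheme.Modules.pullback q).obj F).presheaf.map (homOfLE e).op)
    (map_add ((DCoh.toP.map ((Scheme.Modules.pullbackPushforwardAdjunction q).unit.app F)).app (op V)).hom s t)).trans
    (map_add _ _ _)

theorem pullRes_smul (V : X.Opens) (V' : X'.Opens) (e : V' ≤ q ⁻¹ᵁ V) (r : Γ(X, V)) (s : Γ(F, V)) :
    pullRes q F V V' e (r • s) = q.appLE V V' e r • pullRes q F V V' e s := by
  refine (congrArg (((Scheme.Modules.pullback q).obj F).presheaf.map (homOfLE e).op)
    (map_smul ((DCoh.toP.map ((Scheme.Modules.pullbackPushforwardAdjunction q).unit.app F)).app (op V)).hom r s)).trans ?_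
  exact Scheme.Modules.map_smul _ _ _ _

theorem pullRes_res {V W : X.Opens} (h : W ≤ V) {V' W' : X'.Opens} (e : V' ≤ q ⁻¹ᵁ V)
    (e' : W' ≤ q ⁻¹ᵁ W) (h' : W' ≤ V') (s : Γ(F, V)) :
    ((Scheme.Modules.pullback q).obj F).presheaf.map (homOfLE h').op (pullRes q F V V' e s) =
      pullRes q F W W' e' (F.presheaf.map (homOfLE h).op s) := by
  have h1 : pullSec q F W (F.presheaf.map (homOfLE h).op s) =
      ((Scheme.Modules.pullback q).obj F).presheaf.map (homOfLE ((Opens.map q.base).map (homOfLE h)).le).op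
        (pullSec q F V s) :=
    PresheafOfModules.naturality_apply
      (DCoh.toP.map ((Scheme.Modules.pullbackPushforwardAdjunction q).unit.app F)) (homOfLE h).op s
  refine Eq.trans ?_ (congrArg (((Scheme.Modules.pullback q).obj F).presheaf.map (homOfLE e').op) h1).symm
  show (((Scheme.Modules.pullback q).obj F).presheaf.map _ ≫ ((Scheme.Modules.pullback q).obj F).presheaf.map _) _ =
    (((Scheme.Modules.pullback q).obj F).presheaf.map _ ≫ ((Scheme.Modules.pullback q).obj F).presheaf.map _) _
  rw [← Functor.map_comp, ← Functor.map_comp]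
  rfl

/-- **Sections of a pullback of a quasi-coherent module on affine opens are the base change.** -/
theorem isBaseChange_pullRes [F.IsQuasicoherent] {V : X.Opens} (hV : IsAffineOpen V) {V' : X'.Opens}
    (hV' : IsAffineOpen V') (e : V' ≤ q ⁻¹ᵁ V) :
    letI : Algebra Γ(X, V) Γ(X', V') := (q.appLE V V' e).hom.toAlgebra
    letI : Module Γ(X, V) Γ((Scheme.Modules.pullback q).obj F, V') := Module.compHom _ (q.appLE V V' e).hom
    haveI : IsScalarTower Γ(X, V) Γ(X', V') Γ((Scheme.Modules.pullback q).obj F, V') :=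
      IsScalarTower.of_algebraMap_smul fun _ _ => rfl
    ∃ p : Γ(F, V) →ₗ[Γ(X, V)] Γ((Scheme.Modules.pullback q).obj F, V'),
      IsBaseChange Γ(X', V') p ∧ ∀ s, p s = pullRes q F V V' e s := by
  letI : Algebra Γ(X, V) Γ(X', V') := (q.appLE V V' e).hom.toAlgebra
  letI : Module Γ(X, V) Γ((Scheme.Modules.pullback q).obj F, V') := Module.compHom _ (q.appLE V V' e).hom
  haveI : IsScalarTower Γ(X, V) Γ(X', V') Γ((Scheme.Modules.pullback q).obj F, V') :=
    IsScalarTower.of_algebraMap_smul fun _ _ => rfl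
  let T := (Scheme.Modules.pullback q).obj F
  haveI : T.IsQuasicoherent := FittSheaf.isQuasicoherent_pullback q F
  let p : Γ(F, V) →ₗ[Γ(X, V)] Γ(T, V') :=
    { toFun := pullRes q F V V' e, map_add' := pullRes_add q F V V' e, map_smul' := pullRes_smul q F V V' e }
  refine ⟨p, ?_, fun s => rfl⟩
  let θ := p.liftBaseChange Γ(X', V')
  suffices hθ : Function.Bijective θ from
    IsBaseChange.of_equiv (LinearEquiv.ofBijective θ hθ) fun s => by simp [θ]
  have key : ∀ (x : X') (hx : x ∈ V'),
      (∀ z, θ z = 0 → ∃ c, c ∉ WeakAss.primeAt x hx ∧ c • z = 0) ∧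
      (∀ t, ∃ c, c ∉ WeakAss.primeAt x hx ∧ c • t ∈ LinearMap.range θ) := by
    intro x hx
    have hqx : q x ∈ V := e hx
    letI := X'.presheaf.algebra_section_stalk ⟨x, hx⟩
    haveI := FlatFP.isLocalization_stalk_primeAt hV' hx
    letI := X.presheaf.algebra_section_stalk ⟨q x, hqx⟩
    haveI := FlatFP.isLocalization_stalk_primeAt hV hqx
    letI : Algebra (X.presheaf.stalk (q x)) (X'.presheaf.stalk x) := (q.stalkMap x).hom.toAlgebra
    letI : Algebra Γ(X, V) (X'.presheaf.stalk x) :=
      ((algebraMap Γ(X', V') (X'.presheaf.stalk x)).comp (algebraMap Γ(X, V) Γ(X', V'))).toAlgebra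
    haveI : IsScalarTower Γ(X, V) Γ(X', V') (X'.presheaf.stalk x) :=
      IsScalarTower.of_algebraMap_eq fun _ => rfl
    haveI : IsScalarTower Γ(X, V) (X.presheaf.stalk (q x)) (X'.presheaf.stalk x) :=
      IsScalarTower.of_algebraMap_eq fun a => by
        show X'.presheaf.germ V' x hx (q.appLE V V' e a) = (q.stalkMap x) (X.presheaf.germ V (q x) hqx a)
        rw [Scheme.Hom.germ_stalkMap_apply]
        exact TopCat.Presheaf.germ_res_apply X'.presheaf (homOfLE e) x hx _
    let Fy := (OX.stalk (q x)).obj F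
    let Tx := (OX.stalk x).obj T
    letI : Module Γ(X, V) (F.presheaf.stalk (q x)) := Module.compHom _ (X.presheaf.germ V (q x) hqx).hom
    letI : Module Γ(X, V) Fy := Module.compHom _ (algebraMap Γ(X, V) (X.presheaf.stalk (q x)))
    haveI : IsScalarTower Γ(X, V) (X.presheaf.stalk (q x)) Fy := IsScalarTower.of_algebraMap_smul fun _ _ => rfl
    obtain ⟨g₀, hg₀, hg₀z⟩ := FlatFP.isLocalizedModule_germ F hV hqx
    let g₀' : Γ(F, V) →ₗ[Γ(X, V)] Fy :=
      { toFun := fun z => g₀ z, map_add' := map_add g₀, map_smul' := fun c z => g₀.map_smul c z }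
    haveI : IsLocalizedModule (WeakAss.primeAt (q x) hqx).primeCompl g₀' := hg₀
    have hbc₀ : IsBaseChange (X.presheaf.stalk (q x)) g₀' :=
      IsLocalizedModule.isBaseChange (WeakAss.primeAt (q x) hqx).primeCompl _ g₀'
    letI : Module (X.presheaf.stalk (q x)) Tx := Module.compHom _ (q.stalkMap x).hom
    haveI : IsScalarTower (X.presheaf.stalk (q x)) (X'.presheaf.stalk x) Tx :=
      IsScalarTower.of_algebraMap_smul fun _ _ => rfl
    letI : Module Γ(X, V) Tx := Module.compHom _ (algebraMap Γ(X, V) (X'.presheaf.stalk x))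
    haveI : IsScalarTower Γ(X, V) (X'.presheaf.stalk x) Tx := IsScalarTower.of_algebraMap_smul fun _ _ => rfl
    haveI : IsScalarTower Γ(X, V) (X.presheaf.stalk (q x)) Tx := IsScalarTower.of_algebraMap_smul fun a n => by
      show algebraMap (X.presheaf.stalk (q x)) (X'.presheaf.stalk x) (algebraMap Γ(X, V) (X.presheaf.stalk (q x)) a) • n = _
      rw [← IsScalarTower.algebraMap_apply]
      rfl
    letI : Module Γ(X', V') Tx := Module.compHom _ (algebraMap Γ(X', V') (X'.presheaf.stalk x))
    haveI : IsScalarTower Γ(X', V') (X'.presheaf.stalk x) Tx := IsScalarTower.of_algebraMap_smul fun _ _ => rfl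
    haveI : IsScalarTower Γ(X, V) Γ(X', V') Tx := IsScalarTower.of_algebraMap_smul fun a n => rfl
    let ε : (ModuleCat.extendScalars (q.stalkMap x).hom).obj Fy ≅ Tx := ((OX.pullStalkIso q x).app F).symm
    let p₁ : Fy →ₗ[X.presheaf.stalk (q x)] Tx :=
      { toFun := fun w => ε.hom ((ModuleCat.extendRestrictScalarsAdj (q.stalkMap x).hom).unit.app Fy w)
        map_add' := fun a b => (congrArg ε.hom
          (map_add ((ModuleCat.extendRestrictScalarsAdj (q.stalkMap x).hom).unit.app Fy).hom a b)).trans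
          (ε.hom.hom.map_add _ _)
        map_smul' := fun c w => (congrArg ε.hom
          (map_smul ((ModuleCat.extendRestrictScalarsAdj (q.stalkMap x).hom).unit.app Fy).hom c w)).trans
          (ε.hom.hom.map_smul ((q.stalkMap x).hom c) _) }
    have hp₁ : IsBaseChange (X'.presheaf.stalk x) p₁ :=
      isBaseChange_unit (q.stalkMap x).hom rfl Fy Tx ε p₁ fun _ => rfl
    let j : Γ(F, V) →ₗ[Γ(X, V)] Tx := (p₁.restrictScalars Γ(X, V)).comp g₀'
    have hj : IsBaseChange (X'.presheaf.stalk x) j := hbc₀.comp hp₁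
    let R' := j.liftBaseChange Γ(X', V')
    haveI : IsLocalizedModule (WeakAss.primeAt x hx).primeCompl R' := by
      refine (isLocalizedModule_iff_isBaseChange _ (X'.presheaf.stalk x) _).mpr ?_
      refine IsBaseChange.of_comp (TensorProduct.isBaseChange Γ(X, V) Γ(F, V) Γ(X', V')) ?_
      convert hj using 1
      ext m
      simp [R']
    letI : Module Γ(X', V') (T.presheaf.stalk x) := Module.compHom _ (X'.presheaf.germ V' x hx).hom
    obtain ⟨gT, hgT, hgTz⟩ := FlatFP.isLocalizedModule_germ T hV' hx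
    let gT' : Γ(T, V') →ₗ[Γ(X', V')] Tx :=
      { toFun := fun z => gT z, map_add' := map_add gT, map_smul' := fun c z => gT.map_smul c z }
    haveI : IsLocalizedModule (WeakAss.primeAt x hx).primeCompl gT' := hgT
    have hp : ∀ s, gT' (p s) = j s := fun s => by
      show gT (pullRes q F V V' e s) = ε.hom ((ModuleCat.extendRestrictScalarsAdj (q.stalkMap x).hom).unit.app Fy (g₀ s))
      rw [hgTz, show g₀ s = germ (DCoh.toP.obj F) V hqx s from hg₀z s]
      refine Eq.trans ?_ (congrArg ε.hom (OX.pullStalkIso_germ q x F V hqx s))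
      refine (OX.germ_map (DCoh.toP.obj T) (homOfLE e) hx _).trans ?_
      exact (Iso.hom_inv_id_apply ((OX.pullStalkIso q x).app F) _).symm
    have hRθ : gT' ∘ₗ θ = R' := by
      refine (IsBaseChange.algHom_ext (TensorProduct.isBaseChange Γ(X, V) Γ(F, V) Γ(X', V'))) _ _ fun s => ?_
      show gT' (θ (1 ⊗ₜ s)) = R' (1 ⊗ₜ s)
      simp only [θ, R', LinearMap.liftBaseChange_tmul, one_smul]
      exact hp s
    constructor
    · intro z hz
      have h1 : R' z = 0 := by rw [← hRθ, LinearMap.comp_apply, hz, map_zero]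
      obtain ⟨⟨c, hc⟩, hcz⟩ := (IsLocalizedModule.eq_zero_iff (WeakAss.primeAt x hx).primeCompl R').1 h1
      exact ⟨c, hc, hcz⟩
    · intro t
      obtain ⟨⟨z, ⟨c, hc⟩⟩, hzc⟩ := IsLocalizedModule.surj (WeakAss.primeAt x hx).primeCompl R' (gT' t)
      have h1 : gT' (c • t) = gT' (θ z) := by
        rw [map_smul, show gT' (θ z) = R' z from LinearMap.congr_fun hRθ z, ← hzc]
        rfl
      obtain ⟨⟨d, hd⟩, hdd⟩ := IsLocalizedModule.exists_of_eq (S := (WeakAss.primeAt x hx).primeCompl) (f := gT') h1
      refine ⟨d * c, fun h => ((WeakAss.primeAt x hx).primeCompl.mul_mem hd hc) h, d • z, ?_⟩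
      rw [mul_smul, map_smul]
      exact hdd.symm
  constructor
  · rw [injective_iff_map_eq_zero]
    intro z hz
    have h1 : (1 : Γ(X', V')) ∈ LinearMap.ker (LinearMap.toSpanSingleton Γ(X', V') _ z) :=
      FlatFP.one_mem_of_forall_point hV' _ fun y hy => by
        obtain ⟨c, hc, hcz⟩ := (key y hy).1 z hz
        exact ⟨c, hcz, hc⟩
    simpa using h1
  · intro t
    have h1 : (1 : Γ(X', V')) ∈ (LinearMap.range θ).comap (LinearMap.toSpanSingleton Γ(X', V') _ t) :=
      FlatFP.one_mem_of_forall_point hV' _ fun y hy => by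
        obtain ⟨c, hc, hct⟩ := (key y hy).2 t
        exact ⟨c, hct, hc⟩
    simpa using h1

end GrothLib.BCCoh
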