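import Groth.Agent.Lib.BCCoh.BaseModel
import Groth.Agent.Lib.FlatCx.Coker

/-! # Models base change -/

set_option autoImplicit false
set_option linter.style.haveILetI false
set_option maxHeartbeats 1000000
universe u

open CategoryTheory CategoryTheory.Limits AlgebraicGeometry Opposite TopologicalSpace MonoidalCategory

namespace GrothLib.BCCoh

variable {A B : Type u} [CommRing A] [CommRing B] (φ : A →+* B) {X X' : Scheme.{u}}
  {f : X ⟶ Spec (CommRingCat.of A)} {F : X.Modules}
  (f' : X' ⟶ Spec (CommRingCat.of B)) (g : X' ⟶ X) (H : IsPullback g f' f (Spec.map (CommRingCat.ofHom φ)))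

/-- The Cech complex after base change, in integer degrees. -/
noncomputable def cxZIso [F.IsQuasicoherent] {ι : Type u} [Finite ι] (U : ι → X.Opens)
    (haff : ∀ (n : ℕ) (a : Fin (n + 1) → ι), IsAffineOpen (⨅ k, U (a k))) :
    CohIII.bcCx φ (cxZ f U F) ≅ cxZ f' (fun i => g ⁻¹ᵁ U i) ((Scheme.Modules.pullback g).obj F) :=
  mapExtendIso ComplexShape.embeddingUpNat (ModuleCat.extendScalars φ) (cx f U F) ≪≫
    (ComplexShape.embeddingUpNat.extendFunctor (ModuleCat.{u} B)).mapIso (bcIso φ f f' g H F U haff)

include H in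
/-- **A model gives a model after any base change.** -/
theorem Model.exists_baseChange [IsProper f] (hF : F.IsQuasicoherent) (m : Model f F) :
    ∃ m' : Model f' ((Scheme.Modules.pullback g).obj F), m'.L = CohIII.bcCx φ m.L := by
  haveI := hF
  haveI : IsProper f' := MorphismProperty.of_isPullback (P := @IsProper) H ‹IsProper f›
  haveI : CompactSpace X' := QuasiCompact.compactSpace_of_compactSpace f'
  haveI : X'.IsSeparated := ⟨by rw [← terminal.comp_from f']; infer_instance⟩
  haveI : QuasiSeparatedSpace X' := inferInstance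
  obtain ⟨d, hd⟩ := Cohom.exists_vanishFrom_of_isCompact (X := X') (V := ⊤) (by simpa using isCompact_univ)
  let G := (Scheme.Modules.pullback g).obj F
  let U : m.ι → X'.Opens := fun i => g ⁻¹ᵁ m.U i
  haveI : G.IsQuasicoherent := FittSheaf.isQuasicoherent_pullback g F
  have hcov : iSup U = ⊤ := iSup_preimage_eq_top g m.U m.cover
  have haff := isAffineOpen_preimage_iInf φ f' g H m.U m.aff
  let e := cxZIso φ f' g H (F := F) m.U m.aff
  refine ⟨⟨m.ι, m.fin, U, hcov, haff, CohIII.bcCx φ m.L,
    ((ModuleCat.extendScalars φ).mapHomologicalComplex (ComplexShape.up ℤ)).map m.u ≫ e.hom,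
    ?_, max m.bound d, ?_, ?_, ?_, ?_⟩, rfl⟩
  · intro i
    letI := φ.toAlgebra
    haveI := (m.finFree i).1
    haveI := (m.finFree i).2
    exact ⟨inferInstanceAs (Module.Finite B (TensorProduct A B (m.L.X i))),
      inferInstanceAs (Module.Free B (TensorProduct A B (m.L.X i)))⟩
  · exact fun i hi => (ModuleCat.extendScalars φ).map_isZero (m.zero i ((le_max_left _ _).trans hi))
  · haveI := m.qis
    haveI := m.flatL
    haveI := m.flatC
    haveI := quasiIso_bcMap m.u m.bound m.zero m.high φ
    infer_instance
  · intro i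
    haveI := m.flatC
    haveI := FlatCx.flat_bcCx_X (cxZ f m.U F) φ i
    exact Module.Flat.of_linearEquiv (M := (CohIII.bcCx φ (cxZ f m.U F)).X i)
      (HomologicalComplex.Hom.isoApp e i).toLinearEquiv.symm
  · intro M i hi
    obtain ⟨p, rfl⟩ := Int.eq_ofNat_of_zero_le (a := i)
      (le_trans (Int.natCast_nonneg d) ((le_max_right _ _).trans hi))
    have hp : d ≤ p := by exact_mod_cast (le_max_right _ _).trans hi
    obtain ⟨e', -, -⟩ := exists_linearEquiv f' U hcov haff p
    haveI := isQuasicoherent_TF f' G M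
    haveI := (hd ((TF f' G).obj M)).subsingleton_HH (n := p) hp
    haveI : Subsingleton ((cx f' U ((TF f' G).obj M)).homology p) :=
      (e' ((TF f' G).obj M) inferInstance).toEquiv.symm.subsingleton
    exact (ModuleCat.isZero_of_subsingleton _).of_iso (tensorHIso f' G U haff p M)

end GrothLib.BCCoh
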