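import Groth.Agent.Lib.FlatCx.Bc
import Groth.Agent.Lib.FlatCx.Local
import Mathlib.RingTheory.LocalProperties.Submodule

/-! # Vanishing of the functor from vanishing of the fibre ranks -/

set_option autoImplicit false
set_option linter.style.haveILetI false
universe u

open CategoryTheory CategoryTheory.Limits TensorProduct

namespace GrothLib.BCCoh

variable {A : Type u} [CommRing A] {ι : Type} {c : ComplexShape ι}
  (P : HomologicalComplex (ModuleCat.{u} A) c)

/-- If `H_i(P ⊗ κ) = 0` at all maximal ideals then `T_i = 0`. -/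
theorem isZero_T_of_dRank_zero (i : ι) [Module.Finite A (P.X i)] [Module.Finite A (P.X (c.next i))]
    [Module.Flat A (P.X (c.next i))]
    (h : ∀ x : PrimeSpectrum A, x.asIdeal.IsMaximal → CohIII.dRank P i x = 0) (M : ModuleCat.{u} A) :
    IsZero ((CohIII.TFun P i).obj M) := by
  rw [FlatCx.isZero_T_iff]
  set δ := FlatCx.dBar P i
  rw [injective_iff_map_eq_zero]
  intro z hz
  refine Module.eq_of_localization_maximal
    (fun (p : Ideal A) (_ : p.IsMaximal) => Localization.AtPrime p ⊗[A] _)
    (fun p _ => TensorProduct.mk A (Localization.AtPrime p) _ 1) z 0 fun p hp => ?_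
  let R := Localization.AtPrime p
  let κ := p.ResidueField
  haveI : Module.Flat R (R ⊗[A] P.X (c.next i)) := inferInstance
  haveI : Module.Free R (R ⊗[A] P.X (c.next i)) := Module.free_of_flat_of_isLocalRing
  have hκ : Function.Injective (δ.baseChange κ) := by
    rw [← LinearMap.ker_eq_bot]
    obtain ⟨e⟩ := FlatCx.nonempty_homology_bcCx_equiv P (B := κ) i
    have h0 : Module.finrank κ (LinearMap.ker (δ.baseChange κ)) = 0 := by
      rw [← e.finrank_eq]
      exact h ⟨p, hp.isPrime⟩ hp
    exact Submodule.finrank_eq_zero.1 h0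
  have hres : Function.Injective ((δ.baseChange R).lTensor (IsLocalRing.ResidueField R)) := by
    have hsq : (AlgebraTensorModule.cancelBaseChange A R κ κ (P.X (c.next i))).toLinearMap ∘ₗ
        AlgebraTensorModule.lTensor κ κ (δ.baseChange R) =
        (δ.baseChange κ) ∘ₗ (AlgebraTensorModule.cancelBaseChange A R κ κ _).toLinearMap := by
      ext w
      simp
    intro a b hab
    apply (AlgebraTensorModule.cancelBaseChange A R κ κ _).injective
    apply hκ
    have h1 := LinearMap.congr_fun hsq a
    have h2 := LinearMap.congr_fun hsq b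
    simp only [LinearMap.comp_apply, LinearEquiv.coe_coe] at h1 h2
    rw [← h1, ← h2]
    exact congrArg _ hab
  obtain ⟨l, hl⟩ := (IsLocalRing.split_injective_iff_lTensor_residueField_injective (δ.baseChange R)).2 hres
  have hinj : Function.Injective ((δ.rTensor M).lTensor R) := by
    let lA : R ⊗[A] P.X (c.next i) →ₗ[A] R ⊗[A] _ := l.restrictScalars A
    have hlA : lA ∘ₗ δ.lTensor R = LinearMap.id := LinearMap.ext fun w => LinearMap.congr_fun hl w
    have hsq : (TensorProduct.assoc A R _ M).toLinearMap ∘ₗ (δ.lTensor R).rTensor M =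
        (δ.rTensor M).lTensor R ∘ₗ (TensorProduct.assoc A R _ M).toLinearMap :=
      TensorProduct.ext_threefold fun r w m => rfl
    intro a b hab
    obtain ⟨a, rfl⟩ := (TensorProduct.assoc A R _ M).surjective a
    obtain ⟨b, rfl⟩ := (TensorProduct.assoc A R _ M).surjective b
    have h1 := (LinearMap.congr_fun hsq a).trans (hab.trans (LinearMap.congr_fun hsq b).symm)
    have h2 := congrArg (lA.rTensor M) ((TensorProduct.assoc A R _ M).injective h1)
    rw [← LinearMap.rTensor_comp_apply, ← LinearMap.rTensor_comp_apply, hlA, LinearMap.rTensor_id] at h2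
    exact congrArg _ h2
  refine hinj ?_
  show (δ.rTensor M).lTensor R ((1 : R) ⊗ₜ[A] z) = (δ.rTensor M).lTensor R ((1 : R) ⊗ₜ[A] 0)
  rw [LinearMap.lTensor_tmul, hz, LinearMap.lTensor_tmul, map_zero]

end GrothLib.BCCoh
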