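import Groth.Agent.Lib.BCCoh.ModelAffine
import Groth.Agent.Lib.BCCoh.ZeroRank
import Groth.Agent.Lib.Euler.LocFree
import Groth.Agent.Lib.FinCov.FrameFree
import Groth.Agent.Lib.QCoh.Support
import Groth.Agent.Lib.FlatCx.Rank

/-! # Higher direct images near a point, from a model -/

set_option autoImplicit false
set_option linter.style.haveILetI false
set_option maxHeartbeats 1000000
universe u

open CategoryTheory CategoryTheory.Limits AlgebraicGeometry Opposite TopologicalSpace TensorProduct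

namespace GrothLib.BCCoh

/-- A coherent sheaf with flat sections on an affine open is free near each of its points. -/
theorem exists_free_near {Y : Scheme.{u}} [IsLocallyNoetherian Y] (N : Y.Modules) (hN : Coh.IsCoh N)
    {V : Y.Opens} (hV : IsAffineOpen V) [Module.Flat Γ(Y, V) Γ(N, V)] (y : Y) (hy : y ∈ V) :
    ∃ U : Y.Opens, y ∈ U ∧ Nonempty (N.restrict U.ι ≅ FlatMod.freeMod (↑U)
      (Module.rankAtStalk (R := Γ(Y, V)) Γ(N, V) (hV.primeIdealOf ⟨y, hy⟩))) := by
  haveI := hN.1
  haveI : IsNoetherianRing Γ(Y, V) := IsLocallyNoetherian.component_noetherian ⟨V, hV⟩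
  haveI : Module.Finite Γ(Y, V) Γ(N, V) := QCoh.moduleFinite_of_isFiniteType N hN.2 hV
  let O := Y.presheaf.stalk y
  letI := Y.presheaf.algebra_section_stalk ⟨y, hy⟩
  haveI := FlatFP.isLocalization_stalk_primeAt hV hy
  letI : Module Γ(Y, V) (N.presheaf.stalk y) := Module.compHom _ (Y.presheaf.germ V y hy).hom
  haveI : IsScalarTower Γ(Y, V) O (N.presheaf.stalk y) := IsScalarTower.of_algebraMap_smul fun _ _ => rfl
  obtain ⟨g, hg, -⟩ := FlatFP.isLocalizedModule_germ N hV hy
  haveI := hg
  have hbc : IsBaseChange O g := IsLocalizedModule.isBaseChange (WeakAss.primeAt y hy).primeCompl _ g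
  haveI : Module.Finite O (N.presheaf.stalk y) := Module.Finite.equiv hbc.equiv
  haveI : Module.Flat O (N.presheaf.stalk y) := Module.Flat.of_linearEquiv hbc.equiv.symm
  haveI : Module.Free O (N.presheaf.stalk y) := Module.free_of_flat_of_isLocalRing
  have hr : Module.finrank O (N.presheaf.stalk y) =
      Module.rankAtStalk (R := Γ(Y, V)) Γ(N, V) (hV.primeIdealOf ⟨y, hy⟩) := by
    rw [← QCoh.primeAt_eq_primeIdealOf hV hy]
    have h1 := Module.rankAtStalk_isBaseChange hbc (IsLocalRing.closedPoint O)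
    rw [Module.rankAtStalk_eq_finrank_of_free] at h1
    exact h1
  obtain ⟨D, e, hyD, he⟩ := Euler.exists_frame_of_stalk_basis hN
    (Module.finBasisOfFinrankEq O (N.presheaf.stalk y) hr)
  exact ⟨D, hyD, FinCov.exists_iso_of_frame he⟩

variable {A : Type u} [CommRing A]

/-- When `T_i` preserves epimorphisms the fibre rank of `T_i(A)` is `d_i`. -/
theorem finrank_fiber_T_eq_dRank {ι : Type} {c : ComplexShape ι} (P : HomologicalComplex (ModuleCat.{u} A) c)
    [∀ i, Module.Flat A (P.X i)] (i : ι) (he : (CohIII.TFun P i).PreservesEpimorphisms) (x : PrimeSpectrum A) :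
    Module.finrank x.asIdeal.ResidueField (x.asIdeal.ResidueField ⊗[A] CohIII.T P i (ModuleCat.of A A)) =
      CohIII.dRank P i x := by
  let κ := x.asIdeal.ResidueField
  let δ := FlatCx.dBar P i
  haveI := FlatCx.flat_range_of_epi P i he
  let ν := (LinearMap.ker δ).subtype.baseChange κ
  have hex : Function.Exact (LinearMap.ker δ).subtype δ.rangeRestrict := fun z => by simp [Subtype.ext_iff]
  have hinj : Function.Injective ν :=
    LinearMap.lTensor_injective_of_exact_of_flat _ δ.surjective_rangeRestrict _ Subtype.val_injective hex κ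
  have hrange : LinearMap.range ν = LinearMap.ker (δ.baseChange κ) := by
    ext z
    haveI := (FlatCx.preservesEpi_iff P i).1 he
    have hq : Module.Flat A (P.X (c.next i) ⧸ LinearMap.range δ) :=
      Module.Flat.of_linearEquiv (Submodule.quotEquivOfEq _ _ (FlatCx.range_dBar P i))
    have hinj' := LinearMap.lTensor_injective_of_exact_of_flat (LinearMap.range δ).mkQ
      (Submodule.mkQ_surjective _) (LinearMap.range δ).subtype Subtype.val_injective
      (LinearMap.exact_subtype_mkQ _) κ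
    have hcomp : δ.lTensor κ z = (LinearMap.range δ).subtype.lTensor κ (δ.rangeRestrict.lTensor κ z) := by
      rw [← LinearMap.lTensor_comp_apply]
      rfl
    rw [LinearMap.mem_ker, show δ.baseChange κ z = δ.lTensor κ z from rfl, hcomp,
      LinearMap.map_eq_zero_iff _ hinj', (lTensor_exact κ hex δ.surjective_rangeRestrict z)]
    rfl
  obtain ⟨e⟩ := FlatCx.nonempty_homology_bcCx_equiv P (B := κ) i
  rw [CohIII.dRank, e.finrank_eq, ← hrange, LinearMap.finrank_range_of_inj hinj]
  exact (TensorProduct.AlgebraTensorModule.congr (LinearEquiv.refl κ κ) (FlatCx.TUnitKerEquiv P i)).finrank_eq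

variable {X Y : Scheme.{u}} (f : X ⟶ Y) {V : Y.Opens} (hV : IsAffineOpen V) (F : X.Modules)

/-- The value at `A` of the functor is the module of sections of the higher direct image. -/
theorem Model.nonempty_T_equiv_Rpush [HasInjectiveResolutions X.Modules] [QuasiCompact f] [QuasiSeparated f]
    [F.IsQuasicoherent] (m : Model (affBase f hV) (F.restrict (f ⁻¹ᵁ V).ι)) (p : ℕ) :
    Nonempty (CohIII.T m.L (p : ℤ) (ModuleCat.of Γ(Y, V) Γ(Y, V)) ≃ₗ[Γ(Y, V)] Γ((Coh.Rpush f p).obj F, V)) := by
  obtain ⟨e, he⟩ := exists_Rpush_equiv f hV F p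
  obtain ⟨ec, hec, -⟩ := exists_linearEquiv (affBase f hV) m.U m.cover m.aff p
  have hq : (F.restrict (f ⁻¹ᵁ V).ι).IsQuasicoherent := inferInstance
  letI := modHH (A := Γ(Y, V)) (affBase f hV) (F.restrict (f ⁻¹ᵁ V).ι) p
  haveI := m.qis
  exact ⟨(FlatCx.TUnitIso m.L (p : ℤ)).toLinearEquiv ≪≫ₗ
    (asIso (HomologicalComplex.homologyMap m.u (p : ℤ))).toLinearEquiv ≪≫ₗ
    ((cx (affBase f hV) m.U (F.restrict (f ⁻¹ᵁ V).ι)).extendHomologyIso ComplexShape.embeddingUpNat
        (show ComplexShape.embeddingUpNat.f p = (p : ℤ) from rfl)).toLinearEquiv ≪≫ₗ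
    ((ec _ hq).toLinearEquiv (hec _ hq)).symm ≪≫ₗ e.toLinearEquiv he⟩

variable [IsProper f] [IsLocallyNoetherian Y] [HasInjectiveResolutions X.Modules]

/-- Exactness of the functor on an affine open gives local freeness of the right rank. -/
theorem Model.exists_Rpush_free (hF : Coh.IsCoh F) (m : Model (affBase f hV) (F.restrict (f ⁻¹ᵁ V).ι)) (p : ℕ)
    (hm : (CohIII.TFun m.L (p : ℤ)).PreservesMonomorphisms)
    (he : (CohIII.TFun m.L (p : ℤ)).PreservesEpimorphisms) (y : Y) (hy : y ∈ V) :
    ∃ U : Y.Opens, y ∈ U ∧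
      Nonempty (((Coh.Rpush f p).obj F).restrict U.ι ≅ FlatMod.freeMod (↑U) (CohIII.fiberRank f F p y)) := by
  haveI := hF.1
  haveI := m.flatL
  haveI : IsNoetherianRing Γ(Y, V) := IsLocallyNoetherian.component_noetherian ⟨V, hV⟩
  have hN := Cohom.isCoh_Rpush f F hF p
  haveI := hN.1
  obtain ⟨e⟩ := m.nonempty_T_equiv_Rpush f hV F p
  haveI := FlatCx.flat_T_self m.L (p : ℤ) hm he
  haveI : Module.Flat Γ(Y, V) Γ((Coh.Rpush f p).obj F, V) := Module.Flat.of_linearEquiv e.symm
  haveI : Module.Finite Γ(Y, V) Γ((Coh.Rpush f p).obj F, V) := QCoh.moduleFinite_of_isFiniteType _ hN.2 hV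
  obtain ⟨U, hyU, hU⟩ := exists_free_near ((Coh.Rpush f p).obj F) hN hV y hy
  refine ⟨U, hyU, ?_⟩
  convert hU using 4
  rw [m.fiberRank_affine f hV F p y hy, ← finrank_fiber_T_eq_dRank m.L (p : ℤ) he, Module.rankAtStalk_eq]
  exact (TensorProduct.AlgebraTensorModule.congr (LinearEquiv.refl _ _) e).finrank_eq

end GrothLib.BCCoh
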