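import Groth.Agent.Lib.BCCoh.CohFlatZero
import Groth.Agent.Lib.BCCoh.BaseTransfer
import Groth.Agent.Lib.BCCoh.Grauert
import Groth.Agent.Lib.AssPts.Flat
import Groth.Agent.Lib.HomSh.Coherent

/-! # Freeness of `f_* O` near a point with etale fibre functions -/

set_option autoImplicit false
set_option linter.style.haveILetI false
set_option maxHeartbeats 1000000
universe u

open CategoryTheory CategoryTheory.Limits AlgebraicGeometry Opposite TopologicalSpace TensorProduct MonoidalCategory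

namespace GrothLib.BCCoh

/-- Models pass along isomorphisms of the sheaf. -/
theorem Model.exists_ofIso {A : Type u} [CommRing A] {X : Scheme.{u}} {f : X ⟶ Spec (CommRingCat.of A)}
    {F G : X.Modules} [F.IsQuasicoherent] [G.IsQuasicoherent] (i : F ≅ G) (m : Model f F) :
    ∃ m' : Model f G, m'.L = m.L := by
  have hc : ∀ (G₁ G₂ : X.Modules) (a : G₁ ⟶ G₂) (b : G₂ ⟶ G₁), a ≫ b = 𝟙 _ →
      cxMap f m.U a ≫ cxMap f m.U b = 𝟙 _ := fun G₁ G₂ a b hab => by
    ext n x
    refine funext fun c => ?_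
    show (b.app _) (a.app _ (x c)) = x c
    exact ConcreteCategory.congr_hom (congrArg (fun t => Scheme.Modules.Hom.app t (W m.U c)) hab) (x c)
  let e : cxZ f m.U F ≅ cxZ f m.U G :=
    (ComplexShape.embeddingUpNat.extendFunctor (ModuleCat.{u} A)).mapIso
      ⟨cxMap f m.U i.hom, cxMap f m.U i.inv, hc _ _ _ _ i.hom_inv_id, hc _ _ _ _ i.inv_hom_id⟩
  refine ⟨⟨m.ι, m.fin, m.U, m.cover, m.aff, m.L, m.u ≫ e.hom, m.finFree, m.bound, m.zero, ?_, ?_, ?_⟩, rfl⟩
  · haveI := m.qis; infer_instance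
  · intro k
    haveI := m.flatC k
    exact Module.Flat.of_linearEquiv (M := (cxZ f m.U F).X k) (HomologicalComplex.Hom.isoApp e k).toLinearEquiv.symm
  · intro M k hk
    exact (m.high M k hk).of_iso ((HomologicalComplex.homologyFunctor _ _ k).mapIso
      (((tensorRight M).mapHomologicalComplex (ComplexShape.up ℤ)).mapIso e)).symm

/-- Kernels commute with flat base change. -/
theorem nonempty_ker_baseChange {A B : Type u} [CommRing A] [CommRing B] [Algebra A B] [Module.Flat A B]
    {C E : Type u} [AddCommGroup C] [Module A C] [AddCommGroup E] [Module A E] (δ : C →ₗ[A] E) :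
    Nonempty (B ⊗[A] LinearMap.ker δ ≃ₗ[B] LinearMap.ker (δ.baseChange B)) := by
  let ν : B ⊗[A] LinearMap.ker δ →ₗ[B] LinearMap.ker (δ.baseChange B) :=
    LinearMap.codRestrict _ ((LinearMap.ker δ).subtype.baseChange B) fun z => by
      rw [LinearMap.mem_ker, ← LinearMap.comp_apply, ← LinearMap.baseChange_comp,
        LinearMap.comp_ker_subtype, LinearMap.baseChange_zero, LinearMap.zero_apply]
  refine ⟨LinearEquiv.ofBijective ν ⟨fun a b hab => ?_, fun z => ?_⟩⟩
  · exact Module.Flat.lTensor_preserves_injective_linearMap (LinearMap.ker δ).subtype Subtype.val_injective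
      (congrArg Subtype.val hab)
  · obtain ⟨w, hw⟩ := (Module.Flat.lTensor_exact B (f := (LinearMap.ker δ).subtype) (g := δ)
      (LinearMap.exact_subtype_ker_map δ) z.1).1 z.2
    exact ⟨w, Subtype.ext hw⟩

variable {X Y : Scheme.{u}} (f : X ⟶ Y) [IsProper f] [Flat f] [IsLocallyNoetherian Y] (y : Y)

/-- **The stalk of `f_* O` at a point with etale fibre functions is free, of rank `d_0`.** -/
theorem exists_stalk_free_push_structure (het : Algebra.Etale (Y.residueField y) Γ(f.fiber y, ⊤)) :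
    Coh.IsCoh ((Scheme.Modules.pushforward f).obj (Coh.structureModule X)) ∧
    ∃ (r : ℕ) (_b : Module.Basis (Fin r) (Y.presheaf.stalk y)
        (((Scheme.Modules.pushforward f).obj (Coh.structureModule X)).presheaf.stalk y)),
      r = CohIII.fiberRank f (Coh.structureModule X) 0 y := by
  classical
  let F := Coh.structureModule X
  haveI : IsLocallyNoetherian X := LocallyOfFiniteType.isLocallyNoetherian f
  have hF : Coh.IsCoh F := HomSh.isCoh_structureModule X
  haveI := hF.1
  obtain ⟨V, hV, hy, -⟩ := exists_isAffineOpen_mem_and_subset (show y ∈ (⊤ : Y.Opens) from trivial)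
  let A := Γ(Y, V)
  haveI : IsNoetherianRing A := IsLocallyNoetherian.component_noetherian ⟨V, hV⟩
  obtain ⟨m⟩ := nonempty_model_affine f hV F hF (fun x => AssPts.isFlatOverAt_structure f x)
  haveI := m.flatL
  haveI := fun i => (m.finFree i).1
  let B := Y.presheaf.stalk y
  let κ := Y.residueField y
  letI algB : Algebra A B := Y.presheaf.algebra_section_stalk ⟨y, hy⟩
  haveI hloc := FlatFP.isLocalization_stalk_primeAt hV hy
  haveI : IsNoetherianRing B := IsLocalization.isNoetherianRing (WeakAss.primeAt y hy).primeCompl _ inferInstance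
  haveI : Module.Flat A B := IsLocalization.flat B (WeakAss.primeAt y hy).primeCompl
  let φ : A →+* B := algebraMap A B
  let ψ : B →+* κ := (Y.residue y).hom
  have hψ : Function.Surjective ψ := Ideal.Quotient.mk_surjective
  -- the base change to the local ring
  let XB := pullback (affBase f hV) (Spec.map (CommRingCat.ofHom φ))
  let gB : XB ⟶ _ := pullback.fst (affBase f hV) (Spec.map (CommRingCat.ofHom φ))
  let fB : XB ⟶ Spec (CommRingCat.of B) := pullback.snd (affBase f hV) (Spec.map (CommRingCat.ofHom φ))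
  have HB : IsPullback gB fB (affBase f hV) (Spec.map (CommRingCat.ofHom φ)) := IsPullback.of_hasPullback _ _
  haveI : IsProper (affBase f hV) :=
    inferInstanceAs (IsProper ((f ∣_ V) ≫ hV.isoSpec.hom))
  haveI : IsProper fB := MorphismProperty.of_isPullback (P := @IsProper) HB ‹IsProper (affBase f hV)›
  have hFq : (F.restrict (f ⁻¹ᵁ V).ι).IsQuasicoherent := inferInstance
  obtain ⟨m1, hm1⟩ := m.exists_baseChange φ fB gB HB hFq
  haveI : IsLocallyNoetherian XB := LocallyOfFiniteType.isLocallyNoetherian fB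
  haveI hO : (Coh.structureModule XB).IsQuasicoherent := (HomSh.isCoh_structureModule XB).1
  haveI : ((Scheme.Modules.pullback gB).obj (F.restrict (f ⁻¹ᵁ V).ι)).IsQuasicoherent :=
    FittSheaf.isQuasicoherent_pullback gB _
  let iO : (Scheme.Modules.pullback gB).obj (F.restrict (f ⁻¹ᵁ V).ι) ≅ Coh.structureModule XB :=
    (Scheme.Modules.pullback gB).mapIso ((Scheme.Modules.restrictFunctorIsoPullback (f ⁻¹ᵁ V).ι).app F ≪≫
      OX.pullUnitIso (f ⁻¹ᵁ V).ι) ≪≫ OX.pullUnitIso gB
  obtain ⟨m2, hm2⟩ := m1.exists_ofIso iO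
  -- the closed fibre
  let q := Y.fromSpecResidueField y
  obtain ⟨-, k, hk, -, -⟩ := exists_field_map f hV y hy
  have hq : q = Spec.map (CommRingCat.ofHom (ψ.comp φ)) ≫ hV.fromSpec := by
    show q = Spec.map (CommRingCat.ofHom φ ≫ Y.residue y) ≫ _
    rw [Spec.map_comp, Category.assoc]
    show _ = _ ≫ hV.fromSpecStalk hy
    rw [hV.fromSpecStalk_eq_fromSpecStalk hy]
    rfl
  have Hr : IsPullback (f ⁻¹ᵁ V).ι (affBase f hV) f hV.fromSpec := by
    refine (isPullback_morphismRestrict f V).flip.of_iso (Iso.refl _) (Iso.refl _) hV.isoSpec (Iso.refl _)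
      (by simp) (by simp [affBase]) (by simp) ?_
    simp [IsAffineOpen.isoSpec_hom, hV.toSpecΓ_fromSpec]
  have Hk : IsPullback k (f.fiberToSpecResidueField y) (affBase f hV) (Spec.map (CommRingCat.ofHom (ψ.comp φ))) := by
    refine IsPullback.of_right ?_ ?_ Hr
    · rw [hk]
      erw [← hq]
      exact IsPullback.of_hasPullback _ _
    · rw [← cancel_mono hV.fromSpec, Category.assoc (f.fiberToSpecResidueField y)]
      erw [← hq]
      rw [Category.assoc, ← Hr.w, ← Category.assoc, hk]
      exact f.fiber_fac y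
  have w1 : k ≫ affBase f hV = (f.fiberToSpecResidueField y ≫ Spec.map (CommRingCat.ofHom ψ)) ≫
      Spec.map (CommRingCat.ofHom φ) := by
    rw [Category.assoc, ← Spec.map_comp]
    exact Hk.w
  let k' : f.fiber y ⟶ XB := HB.lift k (f.fiberToSpecResidueField y ≫ Spec.map (CommRingCat.ofHom ψ)) w1
  have Hk' : IsPullback k' (f.fiberToSpecResidueField y) fB (Spec.map (CommRingCat.ofHom ψ)) := by
    have h0 : IsPullback (k' ≫ gB) (f.fiberToSpecResidueField y) (affBase f hV)
        (Spec.map (CommRingCat.ofHom ψ) ≫ Spec.map (CommRingCat.ofHom φ)) := by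
      rw [HB.lift_fst, ← Spec.map_comp]
      exact Hk
    exact IsPullback.of_right h0 (HB.lift_snd _ _ _) HB
  letI : XB.Over (Spec (CommRingCat.of B)) := ⟨fB⟩
  haveI : IsProper (XB ↘ Spec (CommRingCat.of B)) := ‹IsProper fB›
  have hepi : (CohIII.TFun m2.L ((0 : ℕ) : ℤ)).PreservesEpimorphisms :=
    m2.preservesEpi_zero_of_etale hO ψ hψ (f.fiberToSpecResidueField y) k' Hk' (by
      convert! het using 1
      exact Algebra.algebra_ext _ _ fun r => by
        show (f.fiberToSpecResidueField y).appLE ⊤ ⊤ le_top _ = (f.fiberToSpecResidueField y).appTop _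
        simp [Scheme.Hom.appTop, Scheme.Hom.app_eq_appLE]
        rfl)
  haveI := m2.flatL
  haveI := fun i => (m2.finFree i).1
  have hmono : (CohIII.TFun m2.L ((0 : ℕ) : ℤ)).PreservesMonomorphisms :=
    (preservesMono_iff_preservesEpi_pred m2.L (i := -1) (by simp)).2
      (preservesEpi_of_isZero fun M => m2.isZero_T_neg (by norm_num) M)
  have hL : m2.L = CohIII.bcCx φ m.L := hm2.trans hm1
  rw [hL] at hepi hmono
  haveI : ∀ i, Module.Flat B ((CohIII.bcCx φ m.L).X i) := fun i => hL ▸ m2.flatL i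
  -- sections and stalk
  let N := (Scheme.Modules.pushforward f).obj F
  haveI : PreservesFiniteLimits (Scheme.Modules.pushforward f) := by
    haveI : PreservesLimitsOfSize.{0, 0} (Scheme.Modules.pushforward f) :=
      (Scheme.Modules.pullbackPushforwardAdjunction f).rightAdjoint_preservesLimits
    exact PreservesLimitsOfSize.preservesFiniteLimits.{0, 0} _
  let iN : (Coh.Rpush f 0).obj F ≅ N := (Scheme.Modules.pushforward f).rightDerivedZeroIsoSelf.app F
  have hN : Coh.IsCoh N := QCoh.isCoh_of_iso iN (Cohom.isCoh_Rpush f F hF 0)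
  haveI := hN.1
  obtain ⟨eR⟩ := m.nonempty_T_equiv_Rpush f hV F 0
  let eN : Γ((Coh.Rpush f 0).obj F, V) ≃ₗ[A] Γ(N, V) :=
    { (asIso (iN.hom.app V)).addCommGroupIsoToAddEquiv with
      map_smul' := fun a s => (iN.hom.val.app (op V)).hom.map_smul a s }
  let eT : CohIII.T m.L ((0 : ℕ) : ℤ) (ModuleCat.of A A) ≃ₗ[A] Γ(N, V) := eR ≪≫ₗ eN
  letI : Module A (N.presheaf.stalk y) := Module.compHom _ (Y.presheaf.germ V y hy).hom
  haveI : IsScalarTower A B (N.presheaf.stalk y) := IsScalarTower.of_algebraMap_smul fun _ _ => rfl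
  obtain ⟨g, hg, -⟩ := FlatFP.isLocalizedModule_germ N hV hy
  haveI := hg
  have hbc : IsBaseChange B g := IsLocalizedModule.isBaseChange (WeakAss.primeAt y hy).primeCompl _ g
  obtain ⟨eK⟩ := nonempty_ker_baseChange (B := B) (FlatCx.dBar m.L ((0 : ℕ) : ℤ))
  obtain ⟨eH⟩ := FlatCx.nonempty_homology_bcCx_equiv m.L (B := B) ((0 : ℕ) : ℤ)
  let eS : CohIII.T (CohIII.bcCx φ m.L) ((0 : ℕ) : ℤ) (ModuleCat.of B B) ≃ₗ[B] N.presheaf.stalk y :=
    (FlatCx.TUnitIso (CohIII.bcCx φ m.L) ((0 : ℕ) : ℤ)).toLinearEquiv ≪≫ₗ eH ≪≫ₗ eK.symm ≪≫ₗ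
      TensorProduct.AlgebraTensorModule.congr (LinearEquiv.refl B B)
        ((FlatCx.TUnitKerEquiv m.L ((0 : ℕ) : ℤ)).symm ≪≫ₗ eT) ≪≫ₗ hbc.equiv
  haveI := FlatCx.flat_T_self (CohIII.bcCx φ m.L) ((0 : ℕ) : ℤ) hmono hepi
  haveI : Module.Flat B (N.presheaf.stalk y) := Module.Flat.of_linearEquiv eS.symm
  haveI : Module.Finite A Γ(N, V) := QCoh.moduleFinite_of_isFiniteType N hN.2 hV
  haveI : Module.Finite B (N.presheaf.stalk y) := Module.Finite.equiv hbc.equiv
  haveI : Module.Free B (N.presheaf.stalk y) := Module.free_of_flat_of_isLocalRing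
  refine ⟨hN, _, Module.finBasis B (N.presheaf.stalk y), ?_⟩
  let z : PrimeSpectrum B := IsLocalRing.closedPoint B
  have h4 := finrank_fiber_T_eq_dRank (CohIII.bcCx φ m.L) ((0 : ℕ) : ℤ) hepi z
  haveI : Module.Free B (CohIII.T (CohIII.bcCx φ m.L) ((0 : ℕ) : ℤ) (ModuleCat.of B B)) :=
    Module.Free.of_equiv eS.symm
  rw [← eS.finrank_eq, ← Module.finrank_baseChange (R := z.asIdeal.ResidueField), h4]
  rw [m.fiberRank_affine f hV F 0 y hy]
  let θ := algebraMap B z.asIdeal.ResidueField
  have hθ : RingHom.ker (θ.comp φ) = (hV.primeIdealOf ⟨y, hy⟩).asIdeal := by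
    rw [← RingHom.comap_ker, ← QCoh.primeAt_eq_primeIdealOf hV hy]
    have : RingHom.ker θ = IsLocalRing.maximalIdeal B := by
      rw [Ideal.ker_algebraMap_residueField]
      rfl
    rw [this]
    exact IsLocalization.AtPrime.comap_maximalIdeal B (WeakAss.primeAt y hy)
  let x := hV.primeIdealOf ⟨y, hy⟩
  have hun : x.asIdeal.primeCompl ≤ (IsUnit.submonoid z.asIdeal.ResidueField).comap (θ.comp φ) := fun a ha =>
    isUnit_iff_ne_zero.2 fun h => ha (hθ.le h)
  let ρ : x.asIdeal.ResidueField →+* z.asIdeal.ResidueField :=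
    Ideal.ResidueField.lift x.asIdeal (θ.comp φ) hθ.ge hun
  have hρ : ρ.comp (algebraMap A x.asIdeal.ResidueField) = θ.comp φ :=
    RingHom.ext fun a => Ideal.ResidueField.lift_algebraMap x.asIdeal (θ.comp φ) hθ.ge hun a
  show Module.finrank _ ((CohIII.bcCx θ (CohIII.bcCx φ m.L)).homology _) = _
  rw [← (HomologicalComplex.homologyMapIso (FlatCx.bcCxCompIso φ θ m.L) ((0 : ℕ) : ℤ)).toLinearEquiv.finrank_eq,
    ← hρ, FlatCx.finrank_homology_bcCx_field]
  rfl

end GrothLib.BCCoh
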