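import Groth.Prelude.Def_ega3
import Mathlib.Algebra.Homology.CochainComplexOpposite
import Mathlib.Algebra.Homology.Embedding.RestrictionHomology

/-! # Cochain complexes as chain complexes, for the functors `TFun` -/

set_option autoImplicit false
set_option linter.style.haveILetI false
universe u

open CategoryTheory CategoryTheory.Limits ComplexShape

namespace GrothLib.BCCoh

variable {A : Type u} [CommRing A]

/-- A cochain complex, read as a chain complex. -/
noncomputable abbrev chn (L : CochainComplex (ModuleCat.{u} A) ℤ) : ChainComplex (ModuleCat.{u} A) ℤ :=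
  L.restriction embeddingDownIntUpInt

/-- `H_i(chn L ⊗ M) = H^j(L ⊗ M)` for `j = -i`. -/
noncomputable def chTApp (L : CochainComplex (ModuleCat.{u} A) ℤ) (i j : ℤ) (h : -i = j) (M : ModuleCat.{u} A) :
    CohIII.T (chn L) i M ≅ CohIII.T L j M :=
  (CohIII.tensorObj L M).restrictionHomologyIso embeddingDownIntUpInt (i + 1) i (i - 1) (by simp) (by simp)
    (show embeddingDownIntUpInt.f (i + 1) = j - 1 by simp; omega) (show embeddingDownIntUpInt.f i = j from h)
    (show embeddingDownIntUpInt.f (i - 1) = j + 1 by simp; omega) (by simp) (by simp)

theorem restrictionHomology_natural {K K' : CochainComplex (ModuleCat.{u} A) ℤ} (φ : K ⟶ K') (i : ℤ) :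
    HomologicalComplex.homologyMap (HomologicalComplex.restrictionMap φ embeddingDownIntUpInt) i ≫
      (K'.restrictionHomologyIso embeddingDownIntUpInt (i + 1) i (i - 1) (by simp) (by simp)
        (show embeddingDownIntUpInt.f (i + 1) = -i - 1 by simp; omega) (show embeddingDownIntUpInt.f i = -i from rfl)
        (show embeddingDownIntUpInt.f (i - 1) = -i + 1 by simp; omega) (by simp) (by simp)).hom =
    (K.restrictionHomologyIso embeddingDownIntUpInt (i + 1) i (i - 1) (by simp) (by simp)
        (show embeddingDownIntUpInt.f (i + 1) = -i - 1 by simp; omega) (show embeddingDownIntUpInt.f i = -i from rfl)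
        (show embeddingDownIntUpInt.f (i - 1) = -i + 1 by simp; omega) (by simp) (by simp)).hom ≫
      HomologicalComplex.homologyMap φ (-i) := by
  rw [← cancel_epi ((K.restriction embeddingDownIntUpInt).homologyπ i),
    HomologicalComplex.homologyπ_naturality_assoc,
    HomologicalComplex.homologyπ_restrictionHomologyIso_hom,
    HomologicalComplex.homologyπ_restrictionHomologyIso_hom_assoc,
    HomologicalComplex.homologyπ_naturality, ← Category.assoc, ← Category.assoc]
  refine congrArg (· ≫ _) ?_
  rw [← cancel_mono (HomologicalComplex.iCycles _ _)]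
  simp only [Category.assoc, HomologicalComplex.restrictionCyclesIso_hom_iCycles,
    HomologicalComplex.cyclesMap_i, HomologicalComplex.cyclesMap_i_assoc,
    HomologicalComplex.restrictionCyclesIso_hom_iCycles_assoc]
  rw [HomologicalComplex.restrictionMap_f' φ embeddingDownIntUpInt (i' := -i) rfl]
  simp

/-- Natural form. -/
noncomputable def chT (L : CochainComplex (ModuleCat.{u} A) ℤ) (i j : ℤ) (h : -i = j) :
    CohIII.TFun (chn L) i ≅ CohIII.TFun L j :=
  NatIso.ofComponents (chTApp L i j h) fun {M N} g => by
    subst h
    exact restrictionHomology_natural (CohIII.tensorMap L g) i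

end GrothLib.BCCoh
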