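import Groth.Agent.Lib.BCCoh.Core
import Groth.Agent.Lib.FlatCx.Local
import Groth.Prelude.Def_ega3
import Groth.Prelude.Def_DDual2
import Groth.Agent.Lib.BCCoh.Chain

/-! # The functors `M ↦ H^p(X, f^* M~ ⊗ F)` as `TFun` of a finite free complex -/

set_option autoImplicit false
set_option linter.style.haveILetI false
universe u

open CategoryTheory CategoryTheory.Limits AlgebraicGeometry Opposite

namespace GrothLib.BCCoh

variable {A : Type u} [CommRing A] {X : Scheme.{u}} [X.Over (Spec (CommRingCat.of A))]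

theorem tensorAFunctor_eq (F : X.Modules) :
    CohIII.tensorAFunctor A F = TF (X ↘ Spec (CommRingCat.of A)) F := rfl

/-- `tensorA` is the value of the tensor functor. -/
noncomputable def tensorAIso (F : X.Modules) (M : Type u) [AddCommGroup M] [Module A M] :
    CohIII.tensorA A F M ≅ (CohIII.tensorAFunctor A F).obj (ModuleCat.of A M) :=
  ((OX.tensorBraiding (X := X)).app F).symm.app
    ((Scheme.Modules.pullback (X ↘ Spec (CommRingCat.of A))).obj (tilde (R := CommRingCat.of A) (ModuleCat.of A M)))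

namespace Model

variable {F : X.Modules} (m : Model (X ↘ Spec (CommRingCat.of A)) F)

/-- `H^p(X, f^* M~ ⊗ F) = H^p(L ⊗ M)`, naturally. -/
theorem nonempty_natIso (hF : F.IsQuasicoherent) (p : ℕ) :
    Nonempty (CohIII.TFun m.L (p : ℤ) ⋙ forget₂ (ModuleCat.{u} A) AddCommGrpCat.{u} ≅
      CohIII.tensorAFunctor A F ⋙ CohIII.HAb X p) := by
  haveI := hF
  obtain ⟨e, -, he⟩ := m.exists_equiv p
  exact ⟨NatIso.ofComponents (fun M => (e M).toAddCommGrpIso)
    fun {M M'} φ => ConcreteCategory.hom_ext _ _ fun x => he φ x⟩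

theorem preservesEpi_iff (hF : F.IsQuasicoherent) (p : ℕ) :
    (CohIII.tensorAFunctor A F ⋙ CohIII.HAb X p).PreservesEpimorphisms ↔
      (CohIII.TFun m.L (p : ℤ)).PreservesEpimorphisms := by
  obtain ⟨i⟩ := m.nonempty_natIso hF p
  rw [← Functor.preservesEpimorphisms.iso_iff i]
  constructor
  · intro h
    refine ⟨fun {M N} g _ => ?_⟩
    exact (forget₂ (ModuleCat.{u} A) AddCommGrpCat.{u}).epi_of_epi_map
      (h.preserves g)
  · intro h
    refine ⟨fun {M N} g _ => ?_⟩
    haveI := h.preserves g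
    exact inferInstanceAs (Epi ((forget₂ (ModuleCat.{u} A) AddCommGrpCat.{u}).map _))

theorem preservesMono_iff (hF : F.IsQuasicoherent) (p : ℕ) :
    (CohIII.tensorAFunctor A F ⋙ CohIII.HAb X p).PreservesMonomorphisms ↔
      (CohIII.TFun m.L (p : ℤ)).PreservesMonomorphisms := by
  obtain ⟨i⟩ := m.nonempty_natIso hF p
  rw [← Functor.preservesMonomorphisms.iso_iff i]
  constructor
  · intro h
    refine ⟨fun {M N} g _ => ?_⟩
    exact (forget₂ (ModuleCat.{u} A) AddCommGrpCat.{u}).mono_of_mono_map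
      (h.preserves g)
  · intro h
    refine ⟨fun {M N} g _ => ?_⟩
    haveI := h.preserves g
    exact inferInstanceAs (Mono ((forget₂ (ModuleCat.{u} A) AddCommGrpCat.{u}).map _))

theorem surjective_map_iff (hF : F.IsQuasicoherent) (p : ℕ) {M N : ModuleCat.{u} A} (g : M ⟶ N) :
    Function.Surjective ((CohIII.tensorAFunctor A F ⋙ CohIII.HAb X p).map g).hom ↔
      Function.Surjective ((CohIII.TFun m.L (p : ℤ)).map g).hom := by
  haveI := hF
  obtain ⟨e, -, he⟩ := m.exists_equiv p
  constructor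
  · intro h y
    obtain ⟨x, hx⟩ := h (e N y)
    refine ⟨(e M).symm x, (e N).injective ?_⟩
    rw [he g ((e M).symm x), AddEquiv.apply_symm_apply]
    exact hx
  · intro h y
    obtain ⟨x, hx⟩ := h ((e N).symm y)
    exact ⟨e M x, (he g x).symm.trans ((congrArg (e N) hx).trans ((e N).apply_symm_apply y))⟩

theorem finite_flat_chn (i : ℤ) : Module.Finite A ((chn m.L).X i) ∧ Module.Flat A ((chn m.L).X i) :=
  ⟨(m.finFree (-i)).1, m.flatL (-i)⟩

/-- `H^p(X, f^* M~ ⊗ F) = H^p(L ⊗ M)`, linearly. -/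
theorem nonempty_linearEquiv (hF : F.IsQuasicoherent) (p : ℕ) (M : ModuleCat.{u} A) :
    Nonempty (CohIII.T m.L (p : ℤ) M ≃ₗ[A] Coh.HH X ((CohIII.tensorAFunctor A F).obj M) p) := by
  haveI := hF
  obtain ⟨e, he, -⟩ := m.exists_equiv p
  exact ⟨(e M).toLinearEquiv (he M)⟩

end Model

end GrothLib.BCCoh
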