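import Groth.Agent.Lib.BCCoh.BaseChange
import Groth.Agent.Lib.BCCoh.Bridge
import Groth.Agent.Lib.FlatCx.BaseChange
import Mathlib.AlgebraicGeometry.Fiber

/-! # Cohomology after base change, and on the fibres, from a finite free model -/

set_option autoImplicit false
set_option linter.style.haveILetI false
set_option maxHeartbeats 1000000
universe u

open CategoryTheory CategoryTheory.Limits AlgebraicGeometry Opposite TopologicalSpace TensorProduct MonoidalCategory

namespace GrothLib.BCCoh

variable {A B : Type u} [CommRing A] [CommRing B] (φ : A →+* B)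

theorem smul_algMap {M : Type u} [AddCommGroup M] [Module A M] (a : A) :
    letI := φ.toAlgebra
    ∀ z : B ⊗[A] M, φ a • z = a • z := by
  letI := φ.toAlgebra
  intro z
  exact algebraMap_smul B a z

/-- Extension of scalars, restricted back, is the tensor product. -/
noncomputable def restrictExtendApp (M : ModuleCat.{u} A) :
    (ModuleCat.restrictScalars φ).obj ((ModuleCat.extendScalars φ).obj M) ≅
      (letI := φ.toAlgebra; M ⊗ ModuleCat.of A B) :=
  letI := φ.toAlgebra
  ({ (TensorProduct.comm A B M).toAddEquiv with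
      map_smul' := fun a z => by
        show TensorProduct.comm A B M (φ a • z) = a • TensorProduct.comm A B M z
        exact (congrArg (TensorProduct.comm A B M) (smul_algMap φ a z)).trans (map_smul _ a z) } :
    (ModuleCat.restrictScalars φ).obj ((ModuleCat.extendScalars φ).obj M) ≃ₗ[A] M ⊗[A] B).toModuleIso

/-- The same, for complexes. -/
noncomputable def bcTensorIso {ι : Type} {c : ComplexShape ι} (P : HomologicalComplex (ModuleCat.{u} A) c) :
    ((ModuleCat.restrictScalars φ).mapHomologicalComplex c).obj (CohIII.bcCx φ P) ≅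
      (letI := φ.toAlgebra; CohIII.tensorObj P (ModuleCat.of A B)) :=
  letI := φ.toAlgebra
  HomologicalComplex.Hom.isoOfComponents (fun i => restrictExtendApp φ (P.X i)) fun i j _ =>
    ConcreteCategory.hom_ext _ _ fun z => by
      show (P.d i j).hom.rTensor B (TensorProduct.comm A B (P.X i) z) =
        TensorProduct.comm A B (P.X j) ((P.d i j).hom.lTensor B z)
      exact (LinearMap.congr_fun
        (TensorProduct.ext' (fun b x => rfl) :
          (TensorProduct.comm A B _).toLinearMap ∘ₗ (P.d i j).hom.lTensor B =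
            (P.d i j).hom.rTensor B ∘ₗ (TensorProduct.comm A B _).toLinearMap) z).symm

/-- Homology of a base change is homology of the tensor product. -/
noncomputable def bcTensorH {ι : Type} {c : ComplexShape ι} (P : HomologicalComplex (ModuleCat.{u} A) c) (i : ι) :
    (CohIII.bcCx φ P).homology i ≃+ (letI := φ.toAlgebra; CohIII.T P i (ModuleCat.of A B)) :=
  letI := φ.toAlgebra
  ((((CohIII.bcCx φ P).sc i).mapHomologyIso (ModuleCat.restrictScalars φ)).symm ≪≫
    HomologicalComplex.homologyMapIso (bcTensorIso φ P) i).toLinearEquiv.toAddEquiv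

variable {X X' : Scheme.{u}} {f : X ⟶ Spec (CommRingCat.of A)} {F : X.Modules}
  (f' : X' ⟶ Spec (CommRingCat.of B)) (g : X' ⟶ X) (H : IsPullback g f' f (Spec.map (CommRingCat.ofHom φ)))

theorem iSup_preimage_eq_top {ι : Type u} (U : ι → X.Opens) (h : iSup U = ⊤) :
    (⨆ i, g ⁻¹ᵁ U i) = ⊤ := by
  rw [← Scheme.Hom.preimage_iSup, h]
  rfl

include H in
theorem isAffineOpen_preimage_iInf {ι : Type u} (U : ι → X.Opens)
    (haff : ∀ (n : ℕ) (a : Fin (n + 1) → ι), IsAffineOpen (⨅ k, U (a k))) (n : ℕ) (a : Fin (n + 1) → ι) :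
    IsAffineOpen (⨅ k, g ⁻¹ᵁ U (a k)) := by
  haveI := isAffineHom_bc φ f f' g H
  rw [← Cech.obj_eq_iInf (fun i => g ⁻¹ᵁ U i)]
  show IsAffineOpen (W (fun i => g ⁻¹ᵁ U i) a)
  rw [preimage_W g U a]
  refine IsAffineOpen.preimage ?_ g
  rw [W, Cech.obj_eq_iInf]
  exact haff n a

namespace Model

variable (m : Model f F)

/-- The Cech complex after base change, from the model. -/
noncomputable def bcHIso [F.IsQuasicoherent] (p : ℕ) :
    (CohIII.bcCx φ m.L).homology (p : ℤ) ≅
      (cx f' (fun i => g ⁻¹ᵁ m.U i) ((Scheme.Modules.pullback g).obj F)).homology p :=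
  haveI : QuasiIso (((ModuleCat.extendScalars φ).mapHomologicalComplex (ComplexShape.up ℤ)).map m.u) :=
    haveI := m.qis
    haveI := m.flatL
    haveI := m.flatC
    quasiIso_bcMap m.u m.bound m.zero m.high φ
  haveI : IsIso (HomologicalComplex.homologyMap
      (((ModuleCat.extendScalars φ).mapHomologicalComplex (ComplexShape.up ℤ)).map m.u) (p : ℤ)) :=
    (quasiIsoAt_iff_isIso_homologyMap _ _).1 inferInstance
  asIso (HomologicalComplex.homologyMap
      (((ModuleCat.extendScalars φ).mapHomologicalComplex (ComplexShape.up ℤ)).map m.u) (p : ℤ)) ≪≫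
    HomologicalComplex.homologyMapIso
      (mapExtendIso ComplexShape.embeddingUpNat (ModuleCat.extendScalars φ) (cx f m.U F)) (p : ℤ) ≪≫
    (CohIII.bcCx φ (cx f m.U F)).extendHomologyIso ComplexShape.embeddingUpNat
      (show ComplexShape.embeddingUpNat.f p = (p : ℤ) from rfl) ≪≫
    HomologicalComplex.homologyMapIso (bcIso φ f f' g H F m.U m.aff) p

include H in
/-- **Cohomology commutes with base change at the level of complexes.** -/
theorem exists_bcEquiv (hF : F.IsQuasicoherent) (p : ℕ) :
    ∃ e : (CohIII.bcCx φ m.L).homology (p : ℤ) ≃+ Coh.HH X' ((Scheme.Modules.pullback g).obj F) p,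
      ∀ (b : B) (x : (CohIII.bcCx φ m.L).homology (p : ℤ)),
        letI := modHH f' ((Scheme.Modules.pullback g).obj F) p; e (b • x) = b • e x := by
  haveI := hF
  have hq : ((Scheme.Modules.pullback g).obj F).IsQuasicoherent := FittSheaf.isQuasicoherent_pullback g F
  obtain ⟨e, he, -⟩ := exists_linearEquiv f' (fun i => g ⁻¹ᵁ m.U i) (iSup_preimage_eq_top g m.U m.cover)
    (isAffineOpen_preimage_iInf φ f' g H m.U m.aff) p
  let j := (m.bcHIso φ f' g H p).toLinearEquiv
  refine ⟨j.toAddEquiv.trans (e _ hq).symm, fun b x => ?_⟩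
  letI := modHH f' ((Scheme.Modules.pullback g).obj F) p
  apply (e _ hq).injective
  show e _ hq ((e _ hq).symm (j (b • x))) = e _ hq (b • (e _ hq).symm (j x))
  rw [AddEquiv.apply_symm_apply, he, AddEquiv.apply_symm_apply, map_smul]

/-- `dim H^p` on a fibre is `dim H^p(L ⊗ κ)`. -/
theorem fiberRank_eq (hF : F.IsQuasicoherent) (p : ℕ) (y : Spec (CommRingCat.of A)) :
    CohIII.fiberRank f F p y = CohIII.dRank m.L (p : ℤ) y := by
  let κ := (Spec (CommRingCat.of A)).residueField y
  let ψ : CommRingCat.of A ⟶ κ := Spec.preimage ((Spec (CommRingCat.of A)).fromSpecResidueField y)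
  have hψ : Spec.map ψ = (Spec (CommRingCat.of A)).fromSpecResidueField y := Spec.map_preimage _
  have H : IsPullback (f.fiberι y) (f.fiberToSpecResidueField y) f (Spec.map (CommRingCat.ofHom ψ.hom)) := by
    have h0 : IsPullback (f.fiberι y) (f.fiberToSpecResidueField y) f
        ((Spec (CommRingCat.of A)).fromSpecResidueField y) := IsPullback.of_hasPullback _ _
    rwa [← hψ] at h0
  let φ := ψ.hom
  obtain ⟨e, he⟩ := m.exists_bcEquiv φ (f.fiberToSpecResidueField y) (f.fiberι y) H hF p
  letI : Module κ (Coh.HH (f.fiber y) ((Scheme.Modules.pullback (f.fiberι y)).obj F) p) :=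
    modHH (A := κ) (f.fiberToSpecResidueField y) _ p
  have hfr : Module.finrank κ ((CohIII.bcCx φ m.L).homology (p : ℤ)) = CohIII.fiberRank f F p y :=
    (e.toLinearEquiv he).finrank_eq
  have hker : RingHom.ker φ = y.asIdeal := by
    let x : Spec κ := IsLocalRing.closedPoint κ
    have h1 : (Spec.map ψ) x = y := by
      rw [hψ]
      exact Scheme.fromSpecResidueField_apply y x
    have h2 : x.asIdeal = ⊥ := (Ideal.eq_bot_or_top x.asIdeal).resolve_right x.isPrime.ne_top
    refine Eq.trans ?_ (congrArg PrimeSpectrum.asIdeal h1)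
    show Ideal.comap φ ⊥ = Ideal.comap φ x.asIdeal
    rw [h2]
  let g : y.asIdeal.ResidueField →+* κ := Ideal.ResidueField.lift y.asIdeal φ hker.ge
    (fun a ha => isUnit_iff_ne_zero.2 fun h0 => ha (hker.le h0))
  have hg : g.comp (algebraMap A y.asIdeal.ResidueField) = φ :=
    RingHom.ext fun a => Ideal.ResidueField.lift_algebraMap y.asIdeal φ hker.ge
      (fun a ha => isUnit_iff_ne_zero.2 fun h0 => ha (hker.le h0)) a
  rw [← hfr, ← hg]
  exact FlatCx.finrank_homology_bcCx_field _ g m.L p

end Model

end GrothLib.BCCoh
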