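import Groth.Agent.Lib.BCCoh.Bridge
import Mathlib.AlgebraicGeometry.Modules.Tilde

/-! # Global sections over an affine base as degree zero cohomology -/

set_option autoImplicit false
set_option linter.style.haveILetI false
set_option maxHeartbeats 400000
universe u

open CategoryTheory CategoryTheory.Limits AlgebraicGeometry Opposite TopologicalSpace

namespace GrothLib.BCCoh

variable {A : Type u} [CommRing A] {X : Scheme.{u}} [X.Over (Spec (CommRingCat.of A))]

/-- Sections read in `globalSectionsA`. -/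
noncomputable def gsEquiv (G : X.Modules) : Γ(G, ⊤) ≃+ (CohIII.globalSectionsA A).obj G where
  toFun s := (show Γ((Scheme.Modules.pushforward (X ↘ Spec (CommRingCat.of A))).obj G, ⊤) from s)
  invFun s := (show Γ((Scheme.Modules.pushforward (X ↘ Spec (CommRingCat.of A))).obj G, ⊤) from s)
  left_inv _ := rfl
  right_inv _ := rfl
  map_add' _ _ := rfl

theorem gsEquiv_map {G G' : X.Modules} (g : G ⟶ G') (s : Γ(G, ⊤)) :
    gsEquiv (A := A) G' (g.app ⊤ s) = ((CohIII.globalSectionsA A).map g).hom (gsEquiv G s) := rfl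

theorem gsEquiv_smul (G : X.Modules) (a : A) (s : Γ(G, ⊤)) :
    gsEquiv (A := A) G (Coh.toGlobal (X ↘ Spec (CommRingCat.of A)) a •
      (show G.val.obj (op ⊤) from s)) = a • gsEquiv (A := A) G s := by
  let S := Spec (CommRingCat.of A)
  let f : X ⟶ S := X ↘ S
  let P := (Scheme.Modules.pushforward f).obj G
  have e1 : S.presheaf.map (⊤ : S.Opens).leTop.op ((Scheme.ΓSpecIso (CommRingCat.of A)).inv a) =
      (Scheme.ΓSpecIso (CommRingCat.of A)).inv a := by
    show S.presheaf.map (𝟙 _) _ = _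
    rw [CategoryTheory.Functor.map_id]; rfl
  refine Eq.trans ?_ (Scheme.Modules.smul_Spec_def (M := P) (U := ⊤) a (show Γ(P, ⊤) from s)).symm
  rw [e1]
  rfl

/-- `H^0(X, G) = Γ(X, G)` over `A`. -/
noncomputable def h0Equiv (G : X.Modules) : Coh.HH X G 0 ≃+ (CohIII.globalSectionsA A).obj G :=
  (show Coh.HH X G 0 ≃+ Γ(G, ⊤) from Sheaf.H.equiv₀ (Coh.toAb G) (T := (⊤ : X.Opens)) isTerminalTop).trans
    (gsEquiv G)

theorem h0Equiv_map {G G' : X.Modules} (g : G ⟶ G') (x : Coh.HH X G 0) :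
    h0Equiv (A := A) G' (Sheaf.H.map ((SheafOfModules.toSheaf X.ringCatSheaf).map g) 0 x) =
      ((CohIII.globalSectionsA A).map g).hom (h0Equiv G x) := by
  refine Eq.trans ?_ (gsEquiv_map g _)
  exact congrArg (gsEquiv G') (Sheaf.H.equiv₀_naturality isTerminalTop
    ((SheafOfModules.toSheaf X.ringCatSheaf).map g) x).symm

theorem h0Equiv_smul (G : X.Modules) (a : A) (x : Coh.HH X G 0) :
    h0Equiv (A := A) G (a • x) = a • h0Equiv (A := A) G x := by
  refine Eq.trans ?_ (gsEquiv_smul G a _)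
  refine congrArg (gsEquiv G) ((Sheaf.H.equiv₀_naturality isTerminalTop
    (Coh.smulAb G (Coh.toGlobal (X ↘ Spec (CommRingCat.of A)) a)) x).symm.trans ?_)
  have e2 : Coh.resTop X (op ⊤) (Coh.toGlobal (X ↘ Spec (CommRingCat.of A)) a) =
      Coh.toGlobal (X ↘ Spec (CommRingCat.of A)) a := by
    show (X.ringCatSheaf.obj.map (𝟙 _)).hom _ = _
    rw [CategoryTheory.Functor.map_id]; rfl
  refine (Coh.smulAb_app G _ (op ⊤) _).trans ?_
  rw [e2]
  rfl

end GrothLib.BCCoh
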