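import Groth.Agent.Lib.FlatFP.SheafFlat
import Groth.Agent.Lib.AssPts.Points
import Groth.Agent.Lib.FlatModel.Descent
import Mathlib.RingTheory.Flat.Localization

/-! # Flatness over the base, on sections over affine opens -/

set_option autoImplicit false
set_option linter.style.haveILetI false
universe u

open CategoryTheory AlgebraicGeometry Opposite

namespace GrothLib.BCCoh

variable {X Y : Scheme.{u}} (f : X ⟶ Y) (F : X.Modules) [F.IsQuasicoherent]

/-- A sheaf flat over the base has flat sections on affine opens over affine opens. -/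
theorem flat_sections (hF : FlatMod.IsFlatOver f F) {U : X.Opens} (hU : IsAffineOpen U) {V : Y.Opens}
    (hV : IsAffineOpen V) (e : U ≤ f ⁻¹ᵁ V) :
    letI : Module Γ(Y, V) Γ(F, U) := Module.compHom _ (f.appLE V U e).hom
    Module.Flat Γ(Y, V) Γ(F, U) := by
  letI : Algebra Γ(Y, V) Γ(X, U) := (f.appLE V U e).hom.toAlgebra
  letI : Module Γ(Y, V) Γ(F, U) := Module.compHom _ (f.appLE V U e).hom
  haveI : IsScalarTower Γ(Y, V) Γ(X, U) Γ(F, U) := IsScalarTower.of_algebraMap_smul fun _ _ => rfl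
  refine Module.flat_of_isLocalized_maximal Γ(X, U) Γ(F, U)
    (fun P _ => LocalizedModule P.primeCompl Γ(F, U)) (fun P _ => LocalizedModule.mkLinearMap _ _)
    fun P hP => ?_
  obtain ⟨x, hx, hxP⟩ := AssPts.exists_point hU P hP.isPrime
  exact FlatFP.flat_localized_prime_congr hxP
    ((FlatFP.isFlatOverAt_iff f F hV hU e hx rfl).mp (hF x))

/-- The converse. -/
theorem isFlatOver_of_flat_sections
    (h : ∀ (U : X.Opens) (V : Y.Opens) (e : U ≤ f ⁻¹ᵁ V), IsAffineOpen U → IsAffineOpen V →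
      letI : Module Γ(Y, V) Γ(F, U) := Module.compHom _ (f.appLE V U e).hom
      Module.Flat Γ(Y, V) Γ(F, U)) : FlatMod.IsFlatOver f F := by
  intro x
  obtain ⟨V, hV, hxV, -⟩ := exists_isAffineOpen_mem_and_subset (show f.base x ∈ (⊤ : Y.Opens) from trivial)
  obtain ⟨U, hU, hxU, e⟩ := exists_isAffineOpen_mem_and_subset (show x ∈ f ⁻¹ᵁ V from hxV)
  letI : Algebra Γ(Y, V) Γ(X, U) := (f.appLE V U e).hom.toAlgebra
  letI : Module Γ(Y, V) Γ(F, U) := Module.compHom _ (f.appLE V U e).hom
  haveI : IsScalarTower Γ(Y, V) Γ(X, U) Γ(F, U) := IsScalarTower.of_algebraMap_smul fun _ _ => rfl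
  haveI : Module.Flat Γ(Y, V) Γ(F, U) := h U V e hU hV
  rw [FlatFP.isFlatOverAt_iff f F hV hU e hxU rfl]
  exact FlatModel.flat_localizedModule _

end GrothLib.BCCoh
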