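import Groth.Agent.Lib.FlatCx.ArtinLen
import Groth.Agent.Lib.FlatCx.LES
import Groth.Agent.S2409
import Groth.Agent.S4490
import Mathlib.RingTheory.HopkinsLevitzki
import Mathlib.RingTheory.LocalRing.Quotient

/-! # Exactness of `T_p` over a Noetherian local ring from lengths on `A / m^n` -/

set_option autoImplicit false
set_option linter.style.haveILetI false
universe u

open CategoryTheory IsLocalRing

namespace GrothLib.BCCoh

variable {A : Type u} [CommRing A] [IsNoetherianRing A] [IsLocalRing A]

theorem isFiniteLength_quotient_pow (n : ℕ) : IsFiniteLength A (A ⧸ maximalIdeal A ^ (n + 1)) := by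
  let J : Ideal A := maximalIdeal A ^ (n + 1)
  have hJ : J ≤ maximalIdeal A := Ideal.pow_le_self (Nat.succ_ne_zero n)
  haveI : Nontrivial (A ⧸ J) := Ideal.Quotient.nontrivial_iff.2 fun h =>
    (maximalIdeal.isMaximal A).ne_top (top_le_iff.1 (h.ge.trans hJ))
  haveI : IsLocalRing (A ⧸ J) := IsLocalRing.of_surjective' _ Ideal.Quotient.mk_surjective
  have hart : IsArtinianRing (A ⧸ J) := by
    rw [isArtinianRing_iff_isNilpotent_maximalIdeal]
    refine ⟨n + 1, ?_⟩
    rw [← IsLocalRing.map_maximalIdeal_of_surjective (Ideal.Quotient.mk J) Ideal.Quotient.mk_surjective,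
      ← Ideal.map_pow]
    exact Ideal.map_quotient_self J
  rw [← Module.length_ne_top_iff,
    Module.length_eq_of_surjective (M := A ⧸ J) (Ideal.Quotient.mk_surjective : Function.Surjective (algebraMap A (A ⧸ J))),
    Module.length_ne_top_iff]
  exact (isArtinianRing_iff_isFiniteLength (A ⧸ J)).mp hart

/-- `T_p` is exact iff its lengths on `A / m^(n+1)` are those predicted by `T_p(k)`, for large `n`. -/
theorem exact_iff_eventually_length (P : ChainComplex (ModuleCat.{u} A) ℤ)
    (hP : ∀ i, Module.Finite A (P.X i) ∧ Module.Flat A (P.X i)) (p : ℤ) :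
    ((CohIII.TFun P p).PreservesMonomorphisms ∧ (CohIII.TFun P p).PreservesEpimorphisms) ↔
      ∃ n₀ : ℕ, ∀ n : ℕ, n₀ ≤ n →
        Module.length A (CohIII.T P p (ModuleCat.of A (A ⧸ maximalIdeal A ^ (n + 1)))) =
          Module.length A (CohIII.T P p (ModuleCat.of A (ResidueField A))) *
            Module.length A (A ⧸ maximalIdeal A ^ (n + 1)) := by
  haveI : ∀ i, Module.Flat A (P.X i) := fun i => (hP i).2
  constructor
  · exact fun h => ⟨0, fun n _ => FlatCx.length_T_eq P p h.1 h.2 _
      (Module.length_ne_top_iff.2 (isFiniteLength_quotient_pow n))⟩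
  rintro ⟨n₀, hn₀⟩
  have hk : Module.length A (CohIII.T P p (ModuleCat.of A (ResidueField A))) ≠ ⊤ := by
    haveI := (hP p).1
    haveI : Module.Finite A (ResidueField A) :=
      Module.Finite.of_surjective (Algebra.linearMap A (ResidueField A)) IsLocalRing.residue_surjective
    haveI : Module.Finite A (CohIII.T P p (ModuleCat.of A (ResidueField A))) :=
      Module.Finite.equiv (FlatCx.TKerEquiv P p (ModuleCat.of A (ResidueField A))).symm
    have ha : ∀ (a : A) (_ : a ∈ maximalIdeal A) (y : CohIII.T P p (ModuleCat.of A (ResidueField A))), a • y = 0 :=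
      fun a ha y => by
        have h0 : ModuleCat.ofHom (a • LinearMap.id : ResidueField A →ₗ[A] ResidueField A) = 0 := by
          refine ModuleCat.hom_ext (LinearMap.ext fun z => ?_)
          show a • z = 0
          obtain ⟨r, rfl⟩ := IsLocalRing.residue_surjective z
          show residue A a * residue A r = 0
          rw [(IsLocalRing.residue_eq_zero_iff a).2 ha, zero_mul]
        have h1 := FlatCx.map_smul_id P p (ModuleCat.of A (ResidueField A)) a y
        rw [h0, Functor.map_zero] at h1
        exact h1.symm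
    let T := CohIII.T P p (ModuleCat.of A (ResidueField A))
    letI : Module (A ⧸ maximalIdeal A) T :=
      Module.IsTorsionBySet.module (fun y a => ha a a.2 y)
    haveI : IsScalarTower A (A ⧸ maximalIdeal A) T := Module.IsTorsionBySet.isScalarTower _
    letI := Ideal.Quotient.field (maximalIdeal A)
    haveI : Module.Finite (A ⧸ maximalIdeal A) T := Module.Finite.of_restrictScalars_finite A _ _
    rw [Module.length_eq_of_surjective (M := T)
      (Ideal.Quotient.mk_surjective : Function.Surjective (algebraMap A (A ⧸ maximalIdeal A)))]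
    exact Module.length_ne_top
  -- the short exact sequences `m/m^(n+1) → A/m^(n+1) → k`
  have key : ∀ n, n₀ ≤ n →
      Function.Surjective ((CohIII.TFun P p).map (ModuleCat.ofHom (Ideal.Quotient.factorₐ A
        (Ideal.pow_le_self (I := maximalIdeal A) (Nat.succ_ne_zero n))).toLinearMap :
        ModuleCat.of A (A ⧸ maximalIdeal A ^ (n + 1)) ⟶ ModuleCat.of A (A ⧸ maximalIdeal A))).hom ∧
      Function.Surjective ((CohIII.TFun P (p + 1)).map (ModuleCat.ofHom (Ideal.Quotient.factorₐ A
        (Ideal.pow_le_self (I := maximalIdeal A) (Nat.succ_ne_zero n))).toLinearMap :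
        ModuleCat.of A (A ⧸ maximalIdeal A ^ (n + 1)) ⟶ ModuleCat.of A (A ⧸ maximalIdeal A))).hom := by
    intro n hn
    let π : (A ⧸ maximalIdeal A ^ (n + 1)) →ₗ[A] A ⧸ maximalIdeal A :=
      (Ideal.Quotient.factorₐ A (Ideal.pow_le_self (I := maximalIdeal A) (Nat.succ_ne_zero n))).toLinearMap
    have hπ : Function.Surjective π := Ideal.Quotient.factor_surjective (Ideal.pow_le_self (Nat.succ_ne_zero n))
    let S : ShortComplex (ModuleCat.{u} A) := ShortComplex.mk
      (ModuleCat.ofHom (LinearMap.ker π).subtype) (ModuleCat.ofHom π)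
      (ModuleCat.hom_ext (LinearMap.ext fun x : LinearMap.ker π => x.2))
    have hS : S.ShortExact :=
      { exact := (ShortComplex.ShortExact.moduleCat_exact_iff_function_exact _).2
          (LinearMap.exact_subtype_ker_map π)
        mono_f := (ModuleCat.mono_iff_injective _).2 Subtype.val_injective
        epi_g := (ModuleCat.epi_iff_surjective _).2 hπ }
    have hflA := isFiniteLength_quotient_pow (A := A) n
    haveI hsimple : IsSimpleModule A (A ⧸ maximalIdeal A) :=
      isSimpleModule_iff_quot_maximal.2 ⟨maximalIdeal A, inferInstance, ⟨LinearEquiv.refl A _⟩⟩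
    have hfl : IsFiniteLength A (LinearMap.ker π) :=
      Module.length_ne_top_iff.1 (ne_top_of_le_ne_top (Module.length_ne_top_iff.2 hflA)
        (Module.length_le_of_injective (LinearMap.ker π).subtype Subtype.val_injective))
    have hlen : Module.length A (A ⧸ maximalIdeal A ^ (n + 1)) = Module.length A (LinearMap.ker π) + 1 := by
      rw [Module.length_eq_add_of_exact (LinearMap.ker π).subtype π Subtype.val_injective hπ
        (LinearMap.exact_subtype_ker_map π), Module.length_eq_one (R := A) (M := A ⧸ maximalIdeal A)]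
    have hle := FlatCx.length_obj_le (CohIII.TFun P p) (FlatCx.T_mapExact P p)
      (fun N hN => (FlatCx.length_T_simple P p N hN).le) hfl
    have hX := ne_top_of_le_ne_top (WithTop.mul_ne_top hk (Module.length_ne_top_iff.2 hfl)) hle
    have hsim := FlatCx.length_T_simple P p (ModuleCat.of A (A ⧸ maximalIdeal A)) hsimple
    obtain ⟨hinj, hsurj⟩ := (FlatCx.length_eq_add_iff (FlatCx.T_mid_exact P p S hS) hX
      (hsim.trans_ne hk)).1 (le_antisymm (FlatCx.length_le_add_of_exact (FlatCx.T_mid_exact P p S hS)) (by
        refine le_trans (add_le_add hle hsim.le) (le_of_eq ?_)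
        refine Eq.trans ?_ (hn₀ n hn).symm
        rw [hlen, mul_add, mul_one]))
    refine ⟨hsurj, fun x => (FlatCx.T_exact₃ P hS (p + 1) p (by simp) x).1 (hinj ?_)⟩
    rw [map_zero]
    exact (FlatCx.T_exact₁ P hS (p + 1) p (by simp)).apply_apply_eq_zero x
  rw [Groth.Agent.S2409.result P hP p (p + 1) rfl,
    ← (Groth.Agent.S4490.result P hP (p + 1)).1, ← (Groth.Agent.S4490.result P hP p).1,
    (Groth.Agent.S4490.result P hP (p + 1)).2, (Groth.Agent.S4490.result P hP p).2]
  exact ⟨⟨n₀, fun n hn => (key n hn).2⟩, ⟨n₀, fun n hn => (key n hn).1⟩⟩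

end GrothLib.BCCoh
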