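import Groth.Agent.Lib.BCCoh.FibreAffine
import Groth.Agent.Lib.FlatFP.SheafFlat

/-! # Models over the affine opens of the base -/

set_option autoImplicit false
set_option linter.style.haveILetI false
set_option maxHeartbeats 1000000
universe u

open CategoryTheory CategoryTheory.Limits AlgebraicGeometry Opposite TopologicalSpace

namespace GrothLib.BCCoh

variable {X Y : Scheme.{u}} (f : X ⟶ Y) {V : Y.Opens} (hV : IsAffineOpen V) (F : X.Modules)

theorem appIso_inv_appLE (U : ((f ⁻¹ᵁ V : X.Opens) : Scheme.{u}).Opens) (a : Γ(Y, V)) :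
    ((f ⁻¹ᵁ V).ι.appIso U).inv ((affBase f hV).appLE ⊤ U le_top ((Scheme.ΓSpecIso Γ(Y, V)).inv a)) =
      f.appLE V ((f ⁻¹ᵁ V).ι ''ᵁ U) ((f ⁻¹ᵁ V).ι_image_le U) a := by
  let X' : Scheme.{u} := (f ⁻¹ᵁ V : X.Opens)
  let j : X' ⟶ X := (f ⁻¹ᵁ V).ι
  have h1 : (affBase f hV).appLE ⊤ U le_top ((Scheme.ΓSpecIso Γ(Y, V)).inv a) =
      X'.presheaf.map (homOfLE (le_top : U ≤ ⊤)).op (show Γ(X', ⊤) from Coh.toGlobal (affBase f hV) a) := rfl
  rw [h1]
  refine (ConcreteCategory.congr_hom (Scheme.Hom.appIso_inv_naturality j (homOfLE (le_top : U ≤ ⊤)).op)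
    (show Γ(X', ⊤) from Coh.toGlobal (affBase f hV) a)).trans ?_
  refine (congrArg (X.presheaf.map _) (toGlobal_affBase f hV a)).trans ?_
  show (X.presheaf.map _ ≫ X.presheaf.map _) (f.app V a) = (f.app V ≫ X.presheaf.map _) a
  rw [← Functor.map_comp]
  rfl

/-- Flatness passes to the preimage of an affine open. -/
theorem isFlatOver_affBase [F.IsQuasicoherent] (hfl : FlatMod.IsFlatOver f F) :
    FlatMod.IsFlatOver (affBase f hV) (F.restrict (f ⁻¹ᵁ V).ι) := by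
  let X' : Scheme.{u} := (f ⁻¹ᵁ V : X.Opens)
  let j : X' ⟶ X := (f ⁻¹ᵁ V).ι
  let g : X' ⟶ Spec (CommRingCat.of Γ(Y, V)) := affBase f hV
  let G := F.restrict j
  intro x
  have htop : IsAffineOpen (⊤ : (Spec (CommRingCat.of Γ(Y, V))).Opens) := isAffineOpen_top _
  obtain ⟨U, hU, hxU, -⟩ := exists_isAffineOpen_mem_and_subset (show x ∈ (⊤ : X'.Opens) from trivial)
  let W := j ''ᵁ U
  letI : Algebra Γ(Spec (CommRingCat.of Γ(Y, V)), ⊤) Γ(X', U) := (g.appLE ⊤ U le_top).hom.toAlgebra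
  letI : Module Γ(Spec (CommRingCat.of Γ(Y, V)), ⊤) Γ(G, U) := Module.compHom _ (g.appLE ⊤ U le_top).hom
  haveI : IsScalarTower Γ(Spec (CommRingCat.of Γ(Y, V)), ⊤) Γ(X', U) Γ(G, U) :=
    IsScalarTower.of_algebraMap_smul fun _ _ => rfl
  haveI : Module.Flat Γ(Spec (CommRingCat.of Γ(Y, V)), ⊤) Γ(G, U) := by
    let e : CommRingCat.of Γ(Y, V) ≅ Γ(Spec (CommRingCat.of Γ(Y, V)), ⊤) := (Scheme.ΓSpecIso _).symm
    letI : Algebra Γ(Y, V) Γ(Spec (CommRingCat.of Γ(Y, V)), ⊤) := e.hom.hom.toAlgebra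
    letI : Module Γ(Y, V) Γ(G, U) := Module.compHom _ ((g.appLE ⊤ U le_top).hom.comp e.hom.hom)
    haveI : IsScalarTower Γ(Y, V) Γ(Spec (CommRingCat.of Γ(Y, V)), ⊤) Γ(G, U) :=
      IsScalarTower.of_algebraMap_smul fun _ _ => rfl
    letI : Module Γ(Y, V) Γ(F, W) := Module.compHom _ (f.appLE V W ((f ⁻¹ᵁ V).ι_image_le U)).hom
    haveI : Module.Flat Γ(Y, V) Γ(F, W) :=
      flat_sections f F hfl (hU.image_of_isOpenImmersion j) hV ((f ⁻¹ᵁ V).ι_image_le U)
    let i : Γ(G, U) ≃ₗ[Γ(Y, V)] Γ(F, W) :=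
      { toFun := fun s => (show Γ(F, W) from s)
        invFun := fun s => (show Γ(G, U) from s)
        left_inv := fun _ => rfl
        right_inv := fun _ => rfl
        map_add' := fun _ _ => rfl
        map_smul' := fun a s => by
          show (j.appIso U).inv (g.appLE ⊤ U le_top (e.hom a)) • (show Γ(F, W) from s) =
            f.appLE V W ((f ⁻¹ᵁ V).ι_image_le U) a • (show Γ(F, W) from s)
          exact congrArg (fun r => r • (show Γ(F, W) from s)) (appIso_inv_appLE f hV U a) }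
    haveI : Module.Flat Γ(Y, V) Γ(G, U) := Module.Flat.of_linearEquiv i
    have hb : Function.Bijective (algebraMap Γ(Y, V) Γ(Spec (CommRingCat.of Γ(Y, V)), ⊤)) :=
      ConcreteCategory.bijective_of_isIso e.hom
    haveI : IsLocalization (⊥ : Submonoid Γ(Y, V)) Γ(Spec (CommRingCat.of Γ(Y, V)), ⊤) :=
      IsLocalization.isLocalization_of_algEquiv _ ((IsLocalization.atUnits Γ(Y, V) (⊥ : Submonoid Γ(Y, V))
        (S := Localization (⊥ : Submonoid Γ(Y, V))) (by simp)).symm.trans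
        (AlgEquiv.ofBijective (Algebra.ofId _ _) hb))
    haveI : IsLocalizedModule (⊥ : Submonoid Γ(Y, V)) (LinearMap.id : Γ(G, U) →ₗ[Γ(Y, V)] Γ(G, U)) :=
      ⟨fun m => by rw [(Submonoid.mem_bot.1 m.2 : (m : Γ(Y, V)) = 1), map_one]; exact isUnit_one,
        fun y => ⟨(y, 1), by simp⟩, fun h => ⟨1, by simpa using h⟩⟩
    have hl : Function.Bijective (Algebra.linearMap Γ(Y, V) Γ(Spec (CommRingCat.of Γ(Y, V)), ⊤)) := hb
    exact Module.Flat.of_isLocalizedModule (R := Γ(Y, V)) Γ(Spec (CommRingCat.of Γ(Y, V)), ⊤) (⊥ : Submonoid Γ(Y, V))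
      (LinearMap.id : Γ(G, U) →ₗ[Γ(Y, V)] Γ(G, U))
  rw [FlatFP.isFlatOverAt_iff g G htop hU (le_top : U ≤ g ⁻¹ᵁ ⊤) hxU rfl]
  exact FlatModel.flat_localizedModule _

/-- Models exist over affine opens of a locally Noetherian base. -/
theorem nonempty_model_affine [IsProper f] [IsLocallyNoetherian Y] (hF : Coh.IsCoh F)
    (hfl : FlatMod.IsFlatOver f F) : Nonempty (Model (affBase f hV) (F.restrict (f ⁻¹ᵁ V).ι)) := by
  haveI := hF.1
  haveI : IsNoetherianRing Γ(Y, V) := IsLocallyNoetherian.component_noetherian ⟨V, hV⟩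
  haveI : IsProper (f ∣_ V) := IsZariskiLocalAtTarget.restrict ‹IsProper f› V
  exact nonempty_model (affBase f hV) (F.restrict (f ⁻¹ᵁ V).ι) (Cohom.isCoh_restrict F hF _)
    (isFlatOver_affBase f hV F hfl)

end GrothLib.BCCoh
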