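import Groth.Agent.Lib.PC.Consequences
import Groth.Agent.Lib.FlatCx.LES
import Groth.Agent.Lib.FlatCx.FlatSES
import Mathlib.Algebra.Category.ModuleCat.Biproducts
import Mathlib.Algebra.Homology.Embedding.Basic
import Mathlib.Algebra.Homology.Embedding.ExtendHomology
import Mathlib.Algebra.Category.ModuleCat.Abelian
import Mathlib.Algebra.Category.ModuleCat.Projective
import Mathlib.RingTheory.Flat.Basic
import Mathlib.RingTheory.Noetherian.Basic

/-! # Finite free complexes quasi-isomorphic to complexes of flat modules -/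

set_option autoImplicit false
set_option linter.style.haveILetI false
universe u

open TensorProduct
open CategoryTheory CategoryTheory.Limits MonoidalCategory DerivedCategory CochainComplex

namespace GrothLib.BCCoh

variable {A : Type u} [CommRing A]

/-- Finite free modules. -/
def finFree : ObjectProperty (ModuleCat.{u} A) := fun M => Module.Finite A M ∧ Module.Free A M

instance : (finFree (A := A)).IsClosedUnderIsomorphisms :=
  ⟨fun {_ _} e h => ⟨@Module.Finite.equiv _ _ _ _ _ _ _ _ h.1 e.toLinearEquiv,
    Module.Free.of_equiv' h.2 e.toLinearEquiv⟩⟩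

theorem finFree_of_isZero {M : ModuleCat.{u} A} (h : IsZero M) : finFree M := by
  haveI : Subsingleton M := ModuleCat.subsingleton_of_isZero h
  exact ⟨inferInstance, Module.Free.of_subsingleton A M⟩

instance : (finFree (A := A)).ContainsZero :=
  ⟨⟨ModuleCat.of A PUnit.{u+1}, ModuleCat.isZero_of_subsingleton _, finFree_of_isZero (ModuleCat.isZero_of_subsingleton _)⟩⟩

theorem finFree_prod (X Y : ModuleCat.{u} A) (hX : finFree X) (hY : finFree Y) : finFree (X ⨯ Y) := by
  obtain ⟨_, _⟩ := hX
  obtain ⟨_, _⟩ := hY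
  exact finFree.prop_of_iso ((ModuleCat.biprodIsoProd X Y).symm ≪≫ biprod.isoProd X Y)
    (⟨inferInstance, inferInstance⟩ : finFree (ModuleCat.of A (X × Y)))

theorem isQuasiLiftable_finFree : PCoh.IsQuasiLiftable (finFree (A := A)) := by
  intro E F u hu hF
  obtain ⟨hfin, hfree⟩ := hF
  haveI : Module.Projective A F := (haveI := hfree; Module.Projective.of_free)
  haveI : Projective F := (IsProjective.iff_projective (R := A) F).1 ‹_›
  refine ⟨F, Projective.factorThru (𝟙 F) u, ⟨hfin, hfree⟩, ?_⟩
  rw [Projective.factorThru_comp]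
  infer_instance

theorem exists_finFree_epi [IsNoetherianRing A] (M : ModuleCat.{u} A) [Module.Finite A M] :
    PCoh.IsOfFiniteType finFree M := by
  obtain ⟨r, π, hπ⟩ := Module.Finite.exists_fin' A M
  exact ⟨ModuleCat.of A (Fin r → A), ModuleCat.ofHom π, ⟨inferInstance, inferInstance⟩,
    (ModuleCat.epi_iff_surjective _).2 hπ⟩

theorem finite_kernel [IsNoetherianRing A] {M N : ModuleCat.{u} A} (g : M ⟶ N) [Module.Finite A M] :
    Module.Finite A (kernel g : ModuleCat.{u} A) :=
  Module.Finite.equiv (ModuleCat.kernelIsoKer g).symm.toLinearEquiv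

theorem coherent_of_finite [IsNoetherianRing A] (M : ModuleCat.{u} A) [Module.Finite A M] :
    PC.Coherent finFree M :=
  ⟨exists_finFree_epi M, fun _ g hE => by
    obtain ⟨_, -⟩ := hE
    have := finite_kernel g
    exact exists_finFree_epi _⟩

/-- A complex with finite homology, bounded above, has a finite free resolution. -/
theorem exists_finite_free_resolution [IsNoetherianRing A] (K : CochainComplex (ModuleCat.{u} A) ℤ)
    (hfin : ∀ i, Module.Finite A (K.homology i)) (b : ℤ) (hb : ∀ i, b ≤ i → IsZero (K.homology i)) :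
    ∃ (L : CochainComplex (ModuleCat.{u} A) ℤ) (u : L ⟶ K),
      (∀ i, Module.Finite A (L.X i) ∧ Module.Free A (L.X i)) ∧
        (∀ i, b ≤ i → IsZero (L.X i)) ∧ QuasiIso u := by
  letI : HasDerivedCategory.{u + 1} (ModuleCat.{u} A) := HasDerivedCategory.standard _
  have hcoh : ∀ (X E : ModuleCat.{u} A) (g : E ⟶ X), finFree X → finFree E →
      PCoh.IsOfFiniteType finFree (kernel g) := fun _ _ g _ hE => by
    obtain ⟨_, -⟩ := hE
    have := finite_kernel g
    exact exists_finFree_epi _
  let hiso : ∀ i, (homologyFunctor (ModuleCat.{u} A) i).obj (Q.obj K) ≅ K.homology i :=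
    fun i => (homologyFunctorFactors _ i).app K
  have hb' : ∀ i, b < i → IsZero ((homologyFunctor (ModuleCat.{u} A) i).obj (Q.obj K)) :=
    fun i hi => (hb i hi.le).of_iso (hiso i)
  have hF : ∀ m, PC.PCn finFree m (Q.obj K) := fun m =>
    (PC.pcn_iff_coherent_homology finFree finFree_prod isQuasiLiftable_finFree hcoh hb').2
      ⟨PC.isOfFiniteType_of_iso finFree (hiso m).symm (@exists_finFree_epi A _ _ _ (hfin m)),
        fun i _ => PC.coherent_of_iso finFree (hiso i).symm (@coherent_of_finite A _ _ _ (hfin i))⟩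
  obtain ⟨L, u, hL, hu, hz⟩ := PC.exists_strictAll_resolution finFree finFree_prod
    (PC.isQuasiStable_of_coherent finFree hcoh) isQuasiLiftable_finFree hF b
    (fun i hi => (hb i hi).of_iso (hiso i))
  exact ⟨L, u, hL.2, hz, hu⟩

section Exact

variable (K : CochainComplex (ModuleCat.{u} A) ℤ)

theorem exact_tensor_of_flat (h : ∀ i, K.ExactAt i) (M : ModuleCat.{u} A) [Module.Flat A M] (i : ℤ) :
    (CohIII.tensorObj K M).ExactAt i := by
  have h' := h i
  rw [HomologicalComplex.exactAt_iff' _ (i - 1) i (i + 1) (by simp) (by simp),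
    ShortComplex.ShortExact.moduleCat_exact_iff_function_exact] at h' ⊢
  exact Module.Flat.rTensor_exact M h'

/-- An exact complex of flat modules which stays exact after any tensor product in high degrees
stays exact after any tensor product. -/
theorem exactAt_tensor [∀ i, Module.Flat A (K.X i)] (h : ∀ i, K.ExactAt i) (N : ℤ)
    (hN : ∀ (M : ModuleCat.{u} A) (i : ℤ), N ≤ i → (CohIII.tensorObj K M).ExactAt i)
    (M : ModuleCat.{u} A) (i : ℤ) : (CohIII.tensorObj K M).ExactAt i := by
  suffices H : ∀ (n : ℕ) (i : ℤ), N ≤ i + n → ∀ M : ModuleCat.{u} A, (CohIII.tensorObj K M).ExactAt i from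
    H (N - i).toNat i (by omega) M
  intro n
  induction n with
  | zero => intro i hi M; exact hN M i (by omega)
  | succ n ih =>
    intro i hi M
    let π : (M →₀ A) →ₗ[A] M := Finsupp.linearCombination A id
    have hπ : Function.Surjective π := fun m => ⟨Finsupp.single m 1, by simp [π]⟩
    let S : ShortComplex (ModuleCat.{u} A) := ShortComplex.mk
      (ModuleCat.ofHom (X := LinearMap.ker π) (Y := M →₀ A) (LinearMap.ker π).subtype) (ModuleCat.ofHom π)
      (ModuleCat.hom_ext (LinearMap.ext fun x : LinearMap.ker π => x.2))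
    have hS : S.ShortExact :=
      { exact := (ShortComplex.ShortExact.moduleCat_exact_iff_function_exact _).2
          (LinearMap.exact_subtype_ker_map π)
        mono_f := (ModuleCat.mono_iff_injective _).2 Subtype.val_injective
        epi_g := (ModuleCat.epi_iff_surjective _).2 hπ }
    haveI : Module.Flat A S.X₂ := inferInstanceAs (Module.Flat A (M →₀ A))
    rw [HomologicalComplex.exactAt_iff_isZero_homology]
    exact ((FlatCx.tensorSC_shortExact K hS).homology_exact₃ i (i + 1) (by simp)).isZero_X₂
      ((exact_tensor_of_flat K h S.X₂ i).isZero_homology.eq_of_src _ _)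
      ((ih (i + 1) (by omega) S.X₁).isZero_homology.eq_of_tgt _ _)

end Exact

/-- A quasi-isomorphism from a bounded above complex of flat modules to a complex of flat modules with
universally vanishing homology in high degrees is universal. -/
theorem quasiIso_tensorMap {L K : CochainComplex (ModuleCat.{u} A) ℤ} (u : L ⟶ K) [QuasiIso u]
    [∀ i, Module.Flat A (L.X i)] [∀ i, Module.Flat A (K.X i)] (b : ℤ) (hL : ∀ i, b ≤ i → IsZero (L.X i))
    (hK : ∀ (M : ModuleCat.{u} A) (i : ℤ), b ≤ i → IsZero ((CohIII.tensorObj K M).homology i))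
    (M : ModuleCat.{u} A) :
    QuasiIso (((tensorRight M).mapHomologicalComplex (ComplexShape.up ℤ)).map u) := by
  haveI : ∀ i, Module.Flat A ((mappingCone u).X i) := fun i => by
    haveI : Module.Flat A (L.X (i + 1) × K.X i) :=
      FlatCx.flat_of_exact_mid (g := LinearMap.inl A _ _) (f := LinearMap.snd A _ _)
        LinearMap.inl_injective LinearMap.snd_surjective Function.Exact.inl_snd
    exact Module.Flat.of_linearEquiv
      (HomologicalComplex.homotopyCofiber.XIsoBiprod u i (i + 1) (by simp) ≪≫
        ModuleCat.biprodIsoProd _ _).toLinearEquiv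
  have hex : ∀ i, (mappingCone u).ExactAt i := (PC.quasiIso_iff_forall_exactAt u).1 inferInstance
  have hz : ∀ (M : ModuleCat.{u} A) (i : ℤ), b ≤ i → IsZero ((CohIII.tensorObj L M).homology i) :=
    fun M i hi => by
      rw [← HomologicalComplex.exactAt_iff_isZero_homology]
      exact HomologicalComplex.ExactAt.of_isZero ((tensorRight M).map_isZero (hL i hi))
  have e : ∀ M : ModuleCat.{u} A, CohIII.tensorObj (mappingCone u) M ≅
      mappingCone (((tensorRight M).mapHomologicalComplex (ComplexShape.up ℤ)).map u) :=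
    fun M => mappingCone.mapHomologicalComplexIso u (tensorRight M)
  have hN : ∀ (M : ModuleCat.{u} A) (i : ℤ), b ≤ i →
      (CohIII.tensorObj (mappingCone u) M).ExactAt i := fun M i hi => by
    refine HomologicalComplex.ExactAt.of_iso ?_ (e M).symm
    exact PC.exactAt_cone_of_mono_epi _ rfl
      ⟨fun g g' _ => (hz M (i + 1) (by omega)).eq_of_tgt g g'⟩
      ⟨fun g g' _ => (hK M i hi).eq_of_src g g'⟩
  rw [PC.quasiIso_iff_forall_exactAt]
  exact fun i => HomologicalComplex.ExactAt.of_iso (exactAt_tensor _ hex b hN M i) (e M)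

/-- Exactness of a base change is exactness of the tensor product. -/
theorem exactAt_bcCx (K : CochainComplex (ModuleCat.{u} A) ℤ) {B : Type u} [CommRing B] (φ : A →+* B)
    (i : ℤ) (h : letI := φ.toAlgebra; (CohIII.tensorObj K (ModuleCat.of A B)).ExactAt i) :
    (CohIII.bcCx φ K).ExactAt i := by
  letI := φ.toAlgebra
  rw [HomologicalComplex.exactAt_iff' _ (i - 1) i (i + 1) (by simp) (by simp),
    ShortComplex.ShortExact.moduleCat_exact_iff_function_exact] at h ⊢
  have hc : ∀ {P Q : ModuleCat.{u} A} (g : P ⟶ Q) (z : B ⊗[A] P),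
      TensorProduct.comm A B Q (g.hom.lTensor B z) = g.hom.rTensor B (TensorProduct.comm A B P z) :=
    fun g z => LinearMap.congr_fun
      (TensorProduct.ext' (fun b x => rfl) :
        (TensorProduct.comm A B _).toLinearMap ∘ₗ g.hom.lTensor B = g.hom.rTensor B ∘ₗ (TensorProduct.comm A B _).toLinearMap) z
  intro z
  show (K.d i (i + 1)).hom.lTensor B z = 0 ↔ z ∈ Set.range ((K.d (i - 1) i).hom.lTensor B)
  rw [← (TensorProduct.comm A B _).map_eq_zero_iff, hc]
  refine (h (TensorProduct.comm A B _ z)).trans ⟨?_, ?_⟩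
  · rintro ⟨w, hw⟩
    refine ⟨(TensorProduct.comm A B _).symm w, (TensorProduct.comm A B _).injective ?_⟩
    rw [hc, LinearEquiv.apply_symm_apply]
    exact hw
  · rintro ⟨w, hw⟩
    exact ⟨TensorProduct.comm A B _ w, (hc _ w).symm.trans (congrArg _ hw)⟩

/-- Such a quasi-isomorphism survives base change. -/
theorem quasiIso_bcMap {L K : CochainComplex (ModuleCat.{u} A) ℤ} (u : L ⟶ K) [QuasiIso u]
    [∀ i, Module.Flat A (L.X i)] [∀ i, Module.Flat A (K.X i)] (b : ℤ) (hL : ∀ i, b ≤ i → IsZero (L.X i))
    (hK : ∀ (M : ModuleCat.{u} A) (i : ℤ), b ≤ i → IsZero ((CohIII.tensorObj K M).homology i))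
    {B : Type u} [CommRing B] (φ : A →+* B) :
    QuasiIso (((ModuleCat.extendScalars φ).mapHomologicalComplex (ComplexShape.up ℤ)).map u) := by
  letI := φ.toAlgebra
  haveI := quasiIso_tensorMap u b hL hK (ModuleCat.of A B)
  rw [PC.quasiIso_iff_forall_exactAt]
  intro i
  refine HomologicalComplex.ExactAt.of_iso (exactAt_bcCx (mappingCone u) φ i ?_)
    (mappingCone.mapHomologicalComplexIso u (ModuleCat.extendScalars φ))
  exact HomologicalComplex.ExactAt.of_iso ((PC.quasiIso_iff_forall_exactAt _).1 inferInstance i)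
    (mappingCone.mapHomologicalComplexIso u (tensorRight (ModuleCat.of A B))).symm

end GrothLib.BCCoh
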