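import Groth.Agent.Lib.BCCoh.CechTensor
import Groth.Agent.Lib.BCCoh.FiniteFree
import Groth.Agent.Lib.BCCoh.MapExtend
import Groth.Agent.Lib.BCCoh.Flat
import Groth.Agent.Lib.ProjCoh.Finite
import Groth.Agent.Lib.QCoh.Qcqs
import Groth.Agent.Lib.Rigidity.Relative.Sections

/-! # A finite free complex computing `H^p(X, f^* M~ ⊗ F)` -/

set_option autoImplicit false
set_option linter.style.haveILetI false
set_option maxHeartbeats 1000000
universe u

open CategoryTheory CategoryTheory.Limits AlgebraicGeometry Opposite TopologicalSpace MonoidalCategory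

namespace GrothLib.BCCoh

variable {A : Type u} [CommRing A] {X : Scheme.{u}} (f : X ⟶ Spec (CommRingCat.of A)) (F : X.Modules)

theorem psiR_eq (V : X.Opens) :
    psiR f V = (f.appLE ⊤ V le_top).hom.comp (Scheme.ΓSpecIso (CommRingCat.of A)).inv.hom := rfl

/-- Sections of a flat quasi-coherent sheaf on affine opens are flat over the base ring. -/
theorem flat_secA [F.IsQuasicoherent] (hfl : FlatMod.IsFlatOver f F) {V : X.Opens} (hV : IsAffineOpen V) :
    Module.Flat A (secA f F V) := by
  let e : CommRingCat.of A ≅ Γ(Spec (CommRingCat.of A), ⊤) := (Scheme.ΓSpecIso _).symm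
  letI : Algebra A Γ(Spec (CommRingCat.of A), ⊤) := e.hom.hom.toAlgebra
  letI : Module Γ(Spec (CommRingCat.of A), ⊤) (secA f F V) :=
    Module.compHom Γ(F, V) (f.appLE ⊤ V le_top).hom
  haveI : IsScalarTower A Γ(Spec (CommRingCat.of A), ⊤) (secA f F V) :=
    IsScalarTower.of_algebraMap_smul fun _ _ => rfl
  haveI : Module.Flat A Γ(Spec (CommRingCat.of A), ⊤) :=
    Module.Flat.of_linearEquiv (LinearEquiv.ofBijective (Algebra.linearMap A Γ(Spec (CommRingCat.of A), ⊤))
      (ConcreteCategory.bijective_of_isIso e.hom)).symm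
  haveI : Module.Flat Γ(Spec (CommRingCat.of A), ⊤) (secA f F V) :=
    flat_sections f F hfl hV (isAffineOpen_top _) le_top
  exact Module.Flat.trans A Γ(Spec (CommRingCat.of A), ⊤) (secA f F V)

variable {ι : Type u} (U : ι → X.Opens)

theorem isAffineOpen_W (haff : ∀ (n : ℕ) (a : Fin (n + 1) → ι), IsAffineOpen (⨅ k, U (a k))) {n : ℕ}
    (a : Fin (n + 1) → ι) : IsAffineOpen (W U a) := by
  have := haff n a
  rwa [← Cech.obj_eq_iInf] at this

theorem flat_cx [Finite ι] [F.IsQuasicoherent] (hfl : FlatMod.IsFlatOver f F)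
    (haff : ∀ (n : ℕ) (a : Fin (n + 1) → ι), IsAffineOpen (⨅ k, U (a k))) (n : ℕ) :
    Module.Flat A ((cx f U F).X n) := by
  haveI := Fintype.ofFinite (Fin (n + 1) → ι)
  haveI : ∀ a : Fin (n + 1) → ι, Module.Flat A (secA f F (W U a)) :=
    fun a => flat_secA f F hfl (isAffineOpen_W U haff a)
  exact GrothLib.Rigidity.flat_pi _

/-- The complex in integer degrees. -/
noncomputable abbrev cxZ (G : X.Modules) : CochainComplex (ModuleCat.{u} A) ℤ :=
  (cx f U G).extend ComplexShape.embeddingUpNat

theorem flat_cxZ [Finite ι] [F.IsQuasicoherent] (hfl : FlatMod.IsFlatOver f F)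
    (haff : ∀ (n : ℕ) (a : Fin (n + 1) → ι), IsAffineOpen (⨅ k, U (a k))) (i : ℤ) :
    Module.Flat A ((cxZ f U F).X i) := by
  by_cases h : ∃ n : ℕ, ComplexShape.embeddingUpNat.f n = i
  · obtain ⟨n, hn⟩ := h
    haveI := flat_cx f F U hfl haff n
    exact Module.Flat.of_linearEquiv ((cx f U F).extendXIso ComplexShape.embeddingUpNat hn).toLinearEquiv
  · haveI : Subsingleton ((cxZ f U F).X i) := ModuleCat.subsingleton_of_isZero
      ((cx f U F).isZero_extend_X _ i fun n hn => h ⟨n, hn⟩)
    infer_instance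

theorem isZero_tensor_cxZ_neg (M : ModuleCat.{u} A) {q : ℤ} (hq : q < 0) :
    IsZero ((CohIII.tensorObj (cxZ f U F) M).homology q) := by
  rw [← HomologicalComplex.exactAt_iff_isZero_homology]
  refine HomologicalComplex.ExactAt.of_isZero ((tensorRight M).map_isZero
    ((cx f U F).isZero_extend_X _ q fun n hn => ?_))
  have : (n : ℤ) = q := hn
  omega

variable [Finite ι]

/-- `H^p(C ⊗ M)` as homology of the Cech complex of `f^* M~ ⊗ F`. -/
noncomputable def tensorHIso [F.IsQuasicoherent]
    (haff : ∀ (n : ℕ) (a : Fin (n + 1) → ι), IsAffineOpen (⨅ k, U (a k))) (p : ℕ) (M : ModuleCat.{u} A) :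
    CohIII.T (cxZ f U F) (p : ℤ) M ≅ (cx f U ((TF f F).obj M)).homology p :=
  HomologicalComplex.homologyMapIso
      (mapExtendIso ComplexShape.embeddingUpNat (tensorRight M) (cx f U F)) (p : ℤ) ≪≫
    (((tensorRight M).mapHomologicalComplex (ComplexShape.up ℕ)).obj (cx f U F)).extendHomologyIso
      ComplexShape.embeddingUpNat (show ComplexShape.embeddingUpNat.f p = (p : ℤ) from rfl) ≪≫
    HomologicalComplex.homologyMapIso (tensorIso f F U haff M) p

theorem tensorHIso_natural [F.IsQuasicoherent]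
    (haff : ∀ (n : ℕ) (a : Fin (n + 1) → ι), IsAffineOpen (⨅ k, U (a k))) (p : ℕ)
    {M M' : ModuleCat.{u} A} (φ : M ⟶ M') :
    (CohIII.TFun (cxZ f U F) (p : ℤ)).map φ ≫ (tensorHIso f F U haff p M').hom =
      (tensorHIso f F U haff p M).hom ≫
        HomologicalComplex.homologyMap (cxMap f U ((TF f F).map φ)) p := by
  show HomologicalComplex.homologyMap (CohIII.tensorMap (cxZ f U F) φ) (p : ℤ) ≫ _ = _
  simp only [tensorHIso, Iso.trans_hom, HomologicalComplex.homologyMapIso_hom, Category.assoc]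
  rw [← HomologicalComplex.homologyMap_comp_assoc,
    mapExtendIso_natural ComplexShape.embeddingUpNat (tensorRight M) (cx f U F)
      ((tensoringRight (ModuleCat.{u} A)).map φ),
    HomologicalComplex.homologyMap_comp_assoc, HomologicalComplex.extendHomologyIso_hom_naturality_assoc,
    ← HomologicalComplex.homologyMap_comp, tensorIso_natural f F U haff φ,
    HomologicalComplex.homologyMap_comp]

/-- A finite affine cover together with a finite free model of its Cech complex. -/
structure Model where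
  /-- The index type. -/
  ι : Type u
  fin : Finite ι
  /-- The cover. -/
  U : ι → X.Opens
  cover : iSup U = ⊤
  aff : ∀ (n : ℕ) (a : Fin (n + 1) → ι), IsAffineOpen (⨅ k, U (a k))
  /-- The finite free complex. -/
  L : CochainComplex (ModuleCat.{u} A) ℤ
  /-- The quasi-isomorphism. -/
  u : L ⟶ cxZ f U F
  finFree : ∀ i, Module.Finite A (L.X i) ∧ Module.Free A (L.X i)
  bound : ℤ
  zero : ∀ i, bound ≤ i → IsZero (L.X i)
  qis : QuasiIso u
  flatC : ∀ i, Module.Flat A ((cxZ f U F).X i)
  high : ∀ (M : ModuleCat.{u} A) (i : ℤ), bound ≤ i →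
    IsZero ((CohIII.tensorObj (cxZ f U F) M).homology i)

attribute [instance] Model.fin

/-- Models exist. -/
theorem nonempty_model [IsNoetherianRing A] [IsProper f] (hF : Coh.IsCoh F)
    (hfl : FlatMod.IsFlatOver f F) : Nonempty (Model f F) := by
  haveI : F.IsQuasicoherent := hF.1
  letI : X.Over (Spec (CommRingCat.of A)) := ⟨f⟩
  haveI : IsProper (X ↘ Spec (CommRingCat.of A)) := ‹IsProper f›
  haveI : CompactSpace X := QuasiCompact.compactSpace_of_compactSpace f
  haveI : X.IsSeparated := ⟨by rw [← terminal.comp_from f]; infer_instance⟩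
  haveI : QuasiSeparatedSpace X := inferInstance
  obtain ⟨κ, _, V, hV, -, hcov⟩ := QCoh.exists_finite_affine_cover (U := (⊤ : X.Opens))
    (by simpa using isCompact_univ)
  have hcov' : iSup V = ⊤ := top_le_iff.1 hcov
  have haff : ∀ (n : ℕ) (a : Fin (n + 1) → κ), IsAffineOpen (⨅ k, V (a k)) :=
    fun n a => IsAffineOpen.iInf fun k => hV (a k)
  obtain ⟨d, hd⟩ := Cohom.exists_vanishFrom_of_isCompact (X := X) (V := ⊤) (by simpa using isCompact_univ)
  have hfl' := flat_cxZ f F V hfl haff
  have hhigh : ∀ (M : ModuleCat.{u} A) (i : ℤ), (d : ℤ) ≤ i →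
      IsZero ((CohIII.tensorObj (cxZ f V F) M).homology i) := by
    intro M i hi
    obtain ⟨p, rfl⟩ := Int.eq_ofNat_of_zero_le (le_trans (Int.natCast_nonneg d) hi)
    obtain ⟨e, -, -⟩ := exists_linearEquiv f V hcov' haff p
    haveI := isQuasicoherent_TF f F M
    haveI := (hd ((TF f F).obj M)).subsingleton_HH (n := p) (by omega)
    haveI : Subsingleton ((cx f V ((TF f F).obj M)).homology p) :=
      (e ((TF f F).obj M) inferInstance).toEquiv.symm.subsingleton
    exact (ModuleCat.isZero_of_subsingleton _).of_iso (tensorHIso f F V haff p M)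
  have hH : ∀ (p : ℕ), Nonempty (Coh.HH X F p ≃ₗ[A] (cxZ f V F).homology (p : ℤ)) := fun p => by
    obtain ⟨e, he, -⟩ := exists_linearEquiv f V hcov' haff p
    exact ⟨((e F hF.1).toLinearEquiv (he F hF.1)).trans
      ((cx f V F).extendHomologyIso ComplexShape.embeddingUpNat
        (show ComplexShape.embeddingUpNat.f p = (p : ℤ) from rfl)).symm.toLinearEquiv⟩
  have hfin : ∀ i, Module.Finite A ((cxZ f V F).homology i) := by
    intro i
    by_cases hi : 0 ≤ i
    · obtain ⟨p, rfl⟩ := Int.eq_ofNat_of_zero_le hi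
      obtain ⟨e⟩ := hH p
      haveI := ProjCoh.moduleFinite_HH A F hF p
      exact Module.Finite.equiv e
    · haveI : Subsingleton ((cxZ f V F).homology i) := ModuleCat.subsingleton_of_isZero (by
        rw [← HomologicalComplex.exactAt_iff_isZero_homology]
        exact HomologicalComplex.ExactAt.of_isZero ((cx f V F).isZero_extend_X _ i fun n hn => by
          have : (n : ℤ) = i := hn
          omega))
      infer_instance
  have hzero : ∀ i, (d : ℤ) ≤ i → IsZero ((cxZ f V F).homology i) := fun i hi => by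
    obtain ⟨p, rfl⟩ := Int.eq_ofNat_of_zero_le (le_trans (Int.natCast_nonneg d) hi)
    obtain ⟨e⟩ := hH p
    haveI := (hd F).subsingleton_HH (n := p) (by omega)
    haveI := e.toEquiv.symm.subsingleton
    exact ModuleCat.isZero_of_subsingleton _
  obtain ⟨L, u, hL, hz, hu⟩ := exists_finite_free_resolution (cxZ f V F) hfin d hzero
  exact ⟨⟨κ, inferInstance, V, hcov', haff, L, u, hL, d, hz, hu, hfl', hhigh⟩⟩

namespace Model

variable {f F} (m : Model f F)

theorem flatL (i : ℤ) : Module.Flat A (m.L.X i) := by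
  haveI := (m.finFree i).2
  infer_instance

theorem quasiIso_tensor (M : ModuleCat.{u} A) :
    QuasiIso (((tensorRight M).mapHomologicalComplex (ComplexShape.up ℤ)).map m.u) := by
  haveI := m.qis
  haveI := m.flatL
  haveI := m.flatC
  exact quasiIso_tensorMap m.u m.bound m.zero m.high M

/-- `H^q(L ⊗ M) = H^q(C ⊗ M)`. -/
noncomputable def toCech (q : ℤ) : CohIII.TFun m.L q ≅ CohIII.TFun (cxZ f m.U F) q :=
  NatIso.ofComponents (fun M =>
    @asIso _ _ _ _ (HomologicalComplex.homologyMap
        (((tensorRight M).mapHomologicalComplex (ComplexShape.up ℤ)).map m.u) q)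
      ((quasiIsoAt_iff_isIso_homologyMap
        (((tensorRight M).mapHomologicalComplex (ComplexShape.up ℤ)).map m.u) q).1
        ((m.quasiIso_tensor M).quasiIsoAt q))) fun {M M'} φ => by
    show HomologicalComplex.homologyMap (CohIII.tensorMap m.L φ) q ≫ HomologicalComplex.homologyMap _ q =
      HomologicalComplex.homologyMap _ q ≫ HomologicalComplex.homologyMap (CohIII.tensorMap _ φ) q
    rw [← HomologicalComplex.homologyMap_comp, ← HomologicalComplex.homologyMap_comp,
      (NatTrans.mapHomologicalComplex ((tensoringRight (ModuleCat.{u} A)).map φ) _).naturality m.u]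

theorem isZero_T_neg {q : ℤ} (hq : q < 0) (M : ModuleCat.{u} A) : IsZero (CohIII.T m.L q M) :=
  (isZero_tensor_cxZ_neg f F m.U M hq).of_iso ((m.toCech q).app M)

/-- **The complex computes `H^p(X, f^* M~ ⊗ F)`**, linearly and naturally in `M`. -/
theorem exists_equiv [F.IsQuasicoherent] (p : ℕ) :
    ∃ e : ∀ M : ModuleCat.{u} A, CohIII.T m.L (p : ℤ) M ≃+ Coh.HH X ((TF f F).obj M) p,
      (∀ (M : ModuleCat.{u} A) (a : A) (x : CohIII.T m.L (p : ℤ) M),
        letI := modHH f ((TF f F).obj M) p; e M (a • x) = a • e M x) ∧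
      ∀ {M M' : ModuleCat.{u} A} (φ : M ⟶ M') (x : CohIII.T m.L (p : ℤ) M),
        e M' ((CohIII.TFun m.L (p : ℤ)).map φ x) =
          Sheaf.H.map ((SheafOfModules.toSheaf X.ringCatSheaf).map ((TF f F).map φ)) p (e M x) := by
  obtain ⟨e, he, hnat⟩ := exists_linearEquiv f m.U m.cover m.aff p
  have hq : ∀ M : ModuleCat.{u} A, ((TF f F).obj M).IsQuasicoherent := isQuasicoherent_TF f F
  let j : ∀ M : ModuleCat.{u} A, CohIII.T m.L (p : ℤ) M ≅ (cx f m.U ((TF f F).obj M)).homology p :=
    fun M => (m.toCech p).app M ≪≫ tensorHIso f F m.U m.aff p M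
  refine ⟨fun M => (j M).toLinearEquiv.toAddEquiv.trans (e _ (hq M)).symm, ?_, ?_⟩
  · intro M a x
    letI := modHH f ((TF f F).obj M) p
    apply (e _ (hq M)).injective
    show e _ (hq M) ((e _ (hq M)).symm ((j M).toLinearEquiv (a • x))) =
      e _ (hq M) (a • ((e _ (hq M)).symm ((j M).toLinearEquiv x)))
    rw [AddEquiv.apply_symm_apply, he, AddEquiv.apply_symm_apply, map_smul]
  · intro M M' φ x
    apply (e _ (hq M')).injective
    show e _ (hq M') ((e _ (hq M')).symm ((j M').hom ((CohIII.TFun m.L (p : ℤ)).map φ x))) = _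
    rw [hnat ((TF f F).map φ) (hq M) (hq M'), AddEquiv.apply_symm_apply]
    refine Eq.trans ?_ (congrArg (HomologicalComplex.homologyMap (cxMap f m.U ((TF f F).map φ)) p)
      (AddEquiv.apply_symm_apply (e _ (hq M)) ((j M).hom x))).symm
    refine ConcreteCategory.congr_hom (?_ : (CohIII.TFun m.L (p : ℤ)).map φ ≫ (j M').hom =
      (j M).hom ≫ HomologicalComplex.homologyMap (cxMap f m.U ((TF f F).map φ)) p) x
    simp only [j, Iso.trans_hom, Iso.app_hom, Category.assoc]
    exact ((m.toCech (p : ℤ)).hom.naturality_assoc φ _).trans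
      (congrArg (fun t => (m.toCech (p : ℤ)).hom.app M ≫ t) (tensorHIso_natural f F m.U m.aff p φ))

end Model

end GrothLib.BCCoh
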