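import Groth.Agent.Lib.BCCoh.PullSec
import Groth.Agent.Lib.BCCoh.CechA
import Groth.Prelude.Def_ega3
import Mathlib.RingTheory.TensorProduct.IsBaseChangePi
import Mathlib.AlgebraicGeometry.Morphisms.Flat

/-! # Base change of the Cech complex of a quasi-coherent module -/

set_option autoImplicit false
set_option linter.style.haveILetI false
set_option maxHeartbeats 1000000
universe u

open CategoryTheory CategoryTheory.Limits AlgebraicGeometry Opposite TopologicalSpace TensorProduct

namespace GrothLib.BCCoh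

variable {A B : Type u} [CommRing A] [CommRing B] (φ : A →+* B) {X X' : Scheme.{u}}
  (f : X ⟶ Spec (CommRingCat.of A)) (f' : X' ⟶ Spec (CommRingCat.of B)) (g : X' ⟶ X)
  (H : IsPullback g f' f (Spec.map (CommRingCat.ofHom φ))) (F : X.Modules)

/-- The base ring mapped to functions on an open. -/
noncomputable def psiS (V : X.Opens) : A →+* Γ(X, V) :=
  (f.appLE ⊤ V le_top).hom.comp (Scheme.ΓSpecIso (CommRingCat.of A)).inv.hom

theorem psiR_apply (V : X.Opens) (a : A) : psiR f V a = psiS f V a := rfl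

theorem secA_smul (G : X.Modules) (V : X.Opens) (a : A) (s : secA f G V) :
    a • s = (psiS f V a • (show Γ(G, V) from s) : Γ(G, V)) := rfl

include H in
theorem appLE_psiS (V : X.Opens) (V' : X'.Opens) (e : V' ≤ g ⁻¹ᵁ V) (a : A) :
    g.appLE V V' e (psiS f V a) = psiS f' V' (φ a) := by
  show ((Scheme.ΓSpecIso (CommRingCat.of A)).inv ≫ f.appLE ⊤ V le_top ≫ g.appLE V V' e).hom a =
    ((CommRingCat.ofHom φ ≫ (Scheme.ΓSpecIso (CommRingCat.of B)).inv) ≫ f'.appLE ⊤ V' le_top).hom a
  rw [Scheme.ΓSpecIso_inv_naturality, Category.assoc]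
  simp only [Scheme.Hom.appTop, Scheme.Hom.app_eq_appLE, Scheme.Hom.appLE_comp_appLE, H.w]
  rfl

include H in
theorem isAffineHom_bc : IsAffineHom g := by
  haveI : IsAffineHom (Spec.map (CommRingCat.ofHom φ)) := inferInstance
  exact MorphismProperty.of_isPullback (P := @IsAffineHom) H.flip this

/-- Pulling back sections, linearly. -/
noncomputable def bcHom (V : X.Opens) (V' : X'.Opens) (e : V' ≤ g ⁻¹ᵁ V) :
    secA f F V ⟶ (ModuleCat.restrictScalars φ).obj (secA f' ((Scheme.Modules.pullback g).obj F) V') :=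
  ConcreteCategory.ofHom
    { toFun := fun s => (show Γ((Scheme.Modules.pullback g).obj F, V') from pullRes g F V V' e s)
      map_add' := fun s t => pullRes_add g F V V' e s t
      map_smul' := fun a s => by
        refine (pullRes_smul g F V V' e (psiS f V a) s).trans ?_
        rw [appLE_psiS φ f f' g H V V' e a]
        rfl }

theorem bcHom_apply (V : X.Opens) (V' : X'.Opens) (e : V' ≤ g ⁻¹ᵁ V) (s : secA f F V) :
    bcHom φ f f' g H F V V' e s = (show Γ((Scheme.Modules.pullback g).obj F, V') from pullRes g F V V' e s) :=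
  rfl

/-- The `A`-linear form of a map into a restriction of scalars. -/
noncomputable def linOf {M : ModuleCat.{u} A} {N : ModuleCat.{u} B}
    (h : M ⟶ (ModuleCat.restrictScalars φ).obj N) :
    letI : Module A N := Module.compHom N φ
    M →ₗ[A] N :=
  letI : Module A N := Module.compHom N φ
  { toFun := fun m => h m
    map_add' := fun x y => map_add h.hom x y
    map_smul' := fun a m => h.hom.map_smul a m }

/-- The predicate: a map into a restriction of scalars is a base change. -/
def IsBC {M : ModuleCat.{u} A} {N : ModuleCat.{u} B}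
    (h : M ⟶ (ModuleCat.restrictScalars φ).obj N) : Prop :=
  letI : Algebra A B := φ.toAlgebra
  letI : Module A N := Module.compHom N φ
  haveI : IsScalarTower A B N := IsScalarTower.of_algebraMap_smul fun _ _ => rfl
  IsBaseChange B (linOf φ h)

/-- The map out of the extension of scalars is an isomorphism exactly for base changes. -/
theorem isIso_of_isBC {M : ModuleCat.{u} A} {N : ModuleCat.{u} B}
    {h : M ⟶ (ModuleCat.restrictScalars φ).obj N} (hh : IsBC φ h) :
    IsIso (((ModuleCat.extendRestrictScalarsAdj φ).homEquiv M N).symm h) := by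
  letI : Algebra A B := φ.toAlgebra
  letI : Module A N := Module.compHom N φ
  haveI : IsScalarTower A B N := IsScalarTower.of_algebraMap_smul fun _ _ => rfl
  have hh' : IsBaseChange B (linOf φ h) := hh
  rw [ConcreteCategory.isIso_iff_bijective]
  have h1 : ∀ z : B ⊗[A] M,
      (((ModuleCat.extendRestrictScalarsAdj φ).homEquiv M N).symm h) z = hh'.equiv z := fun z => by
    induction z using TensorProduct.induction_on with
    | zero => exact (map_zero _).trans (map_zero _).symm
    | add x y hx hy => exact (map_add _ x y).trans ((congrArg₂ (· + ·) hx hy).trans (map_add _ x y).symm)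
    | tmul b m => exact (hh'.equiv_tmul b m).symm
  exact (funext h1 : _ = ⇑hh'.equiv) ▸ hh'.equiv.bijective

theorem isBC_bcHom [F.IsQuasicoherent] {V : X.Opens} (hV : IsAffineOpen V) {V' : X'.Opens}
    (hV' : V' = g ⁻¹ᵁ V) : IsBC φ (bcHom φ f f' g H F V V' hV'.le) := by
  subst hV'
  haveI := isAffineHom_bc φ f f' g H
  have hV' : IsAffineOpen (g ⁻¹ᵁ V) := hV.preimage g
  let G' := (Scheme.Modules.pullback g).obj F
  let S := Γ(X, V)
  let S' := Γ(X', g ⁻¹ᵁ V)
  letI : Algebra A B := φ.toAlgebra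
  letI : Algebra A S := (psiS f V).toAlgebra
  letI : Algebra B S' := (psiS f' (g ⁻¹ᵁ V)).toAlgebra
  letI : Algebra S S' := (g.appLE V (g ⁻¹ᵁ V) le_rfl).hom.toAlgebra
  letI : Algebra A S' := ((psiS f' (g ⁻¹ᵁ V)).comp φ).toAlgebra
  haveI : IsScalarTower A B S' := IsScalarTower.of_algebraMap_eq fun _ => rfl
  haveI : IsScalarTower A S S' :=
    IsScalarTower.of_algebraMap_eq fun a => (appLE_psiS φ f f' g H V _ le_rfl a).symm
  have hP : IsPushout (f.appLE ⊤ V le_top) ((Spec.map (CommRingCat.ofHom φ)).appLE ⊤ ⊤ le_top)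
      (g.appLE V (g ⁻¹ᵁ V) le_rfl) (f'.appLE ⊤ (g ⁻¹ᵁ V) le_top) :=
    (AlgebraicGeometry.isIso_pushoutSection_iff H (US := ⊤) (UT := ⊤) (UX := V) (UY := g ⁻¹ᵁ V)
      le_top le_top (by simp)).1
      (AlgebraicGeometry.isIso_pushoutSection_of_isAffineOpen H le_top le_top (by simp)
        (isAffineOpen_top _) (isAffineOpen_top _) hV)
  have hP' : IsPushout (CommRingCat.ofHom (algebraMap A B)) (CommRingCat.ofHom (algebraMap A S))
      (CommRingCat.ofHom (algebraMap B S')) (CommRingCat.ofHom (algebraMap S S')) := by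
    refine hP.flip.of_iso (Scheme.ΓSpecIso (CommRingCat.of A)) (Scheme.ΓSpecIso (CommRingCat.of B))
      (Iso.refl _) (Iso.refl _) ?_ ?_ ?_ ?_
    · have e1 : (Spec.map (CommRingCat.ofHom φ)).appLE ⊤ ⊤ le_top = (Spec.map (CommRingCat.ofHom φ)).appTop :=
        Scheme.Hom.appLE_eq_app _
      rw [e1]
      exact Scheme.ΓSpecIso_naturality (CommRingCat.ofHom φ)
    · rw [← Iso.inv_comp_eq]
      rfl
    · rw [← Iso.inv_comp_eq]
      rfl
    · rw [Iso.refl_hom, Iso.refl_hom, Category.comp_id]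
      exact (Category.id_comp _).symm
  haveI : Algebra.IsPushout A B S S' := CommRingCat.isPushout_iff_isPushout.1 hP'
  letI : Module S Γ(G', g ⁻¹ᵁ V) := Module.compHom _ (g.appLE V (g ⁻¹ᵁ V) le_rfl).hom
  haveI : IsScalarTower S S' Γ(G', g ⁻¹ᵁ V) := IsScalarTower.of_algebraMap_smul fun _ _ => rfl
  obtain ⟨p, hp, hpv⟩ := isBaseChange_pullRes g F hV hV' le_rfl
  letI : Module A Γ(F, V) := Module.compHom _ (psiS f V)
  haveI : IsScalarTower A S Γ(F, V) := IsScalarTower.of_algebraMap_smul fun _ _ => rfl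
  letI : Module B Γ(G', g ⁻¹ᵁ V) := Module.compHom _ (psiS f' (g ⁻¹ᵁ V))
  haveI : IsScalarTower B S' Γ(G', g ⁻¹ᵁ V) := IsScalarTower.of_algebraMap_smul fun _ _ => rfl
  letI : Module A Γ(G', g ⁻¹ᵁ V) := Module.compHom _ ((psiS f' (g ⁻¹ᵁ V)).comp φ)
  haveI : IsScalarTower A B Γ(G', g ⁻¹ᵁ V) := IsScalarTower.of_algebraMap_smul fun _ _ => rfl
  haveI : IsScalarTower A S Γ(G', g ⁻¹ᵁ V) := IsScalarTower.of_algebraMap_smul fun a x => by
    show g.appLE V (g ⁻¹ᵁ V) le_rfl (psiS f V a) • x = psiS f' (g ⁻¹ᵁ V) (φ a) • x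
    rw [appLE_psiS φ f f' g H V _ le_rfl a]
  have key : IsBaseChange B (p.restrictScalars A) := by
    refine IsBaseChange.of_equiv ((Algebra.IsPushout.cancelBaseChange A B S S' Γ(F, V)).symm.trans
      (hp.equiv.restrictScalars B)) fun x => ?_
    simp only [LinearEquiv.trans_apply, LinearEquiv.restrictScalars_apply,
      Algebra.IsPushout.cancelBaseChange_symm_tmul, map_one]
    exact (hp.equiv_tmul 1 x).trans (one_smul _ _)
  have heq : ∀ s : Γ(F, V), bcHom φ f f' g H F V (g ⁻¹ᵁ V) le_rfl s = p s := fun s => (hpv s).symm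
  unfold IsBC
  letI : Module A (secA f' G' (g ⁻¹ᵁ V)) := Module.compHom _ φ
  haveI : IsScalarTower A B (secA f' G' (g ⁻¹ᵁ V)) := IsScalarTower.of_algebraMap_smul fun _ _ => rfl
  exact IsBaseChange.of_equiv key.equiv fun x =>
    ((key.equiv_tmul 1 x).trans (one_smul _ _)).trans (heq x).symm

variable {ι : Type u} (U : ι → X.Opens)

theorem preimage_W {n : ℕ} (a : Fin (n + 1) → ι) :
    W (fun i => g ⁻¹ᵁ U i) a = g ⁻¹ᵁ W U a := by
  rw [W, W, Cech.obj_eq_iInf, Cech.obj_eq_iInf]
  ext x
  simp [Opens.coe_iInf, ← SetLike.mem_coe]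

/-- The comparison of cochains. -/
noncomputable def bcX (n : ℕ) :
    cxX f U F n ⟶ (ModuleCat.restrictScalars φ).obj
      (cxX f' (fun i => g ⁻¹ᵁ U i) ((Scheme.Modules.pullback g).obj F) n) :=
  ConcreteCategory.ofHom
    { toFun := fun y a => bcHom φ f f' g H F (W U a) (W (fun i => g ⁻¹ᵁ U i) a) (preimage_W g U a).le (y a)
      map_add' := fun x y => funext fun a => map_add (bcHom φ f f' g H F _ _ _).hom (x a) (y a)
      map_smul' := fun r y => funext fun a => (bcHom φ f f' g H F _ _ _).hom.map_smul r (y a) }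

theorem isBC_bcX [F.IsQuasicoherent] [Finite ι]
    (haff : ∀ (n : ℕ) (a : Fin (n + 1) → ι), IsAffineOpen (⨅ k, U (a k))) (n : ℕ) :
    IsBC φ (bcX φ f f' g H F U n) := by
  letI : Algebra A B := φ.toAlgebra
  let U' := fun i => g ⁻¹ᵁ U i
  let G' := (Scheme.Modules.pullback g).obj F
  letI : ∀ a : Fin (n + 1) → ι, Module A (secA f' G' (W U' a)) := fun a => Module.compHom _ φ
  haveI : ∀ a : Fin (n + 1) → ι, IsScalarTower A B (secA f' G' (W U' a)) :=
    fun a => IsScalarTower.of_algebraMap_smul fun _ _ => rfl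
  have hW : ∀ a : Fin (n + 1) → ι, IsAffineOpen (W U a) := fun a => by
    have := haff n a
    rwa [← Cech.obj_eq_iInf] at this
  exact IsBaseChange.pi (f := fun a => linOf φ (bcHom φ f f' g H F (W U a) (W U' a) (preimage_W g U a).le))
    fun a => isBC_bcHom φ f f' g H F (hW a) (preimage_W g U a)

theorem bcX_d (n : ℕ) :
    cxd f U F n ≫ bcX φ f f' g H F U (n + 1) = bcX φ f f' g H F U n ≫
      (ModuleCat.restrictScalars φ).map (cxd f' (fun i => g ⁻¹ᵁ U i) ((Scheme.Modules.pullback g).obj F) n) := by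
  refine ConcreteCategory.hom_ext _ _ fun y => funext fun a => ?_
  show bcHom φ f f' g H F (W U a) _ _ (cxd f U F n y a) =
    cxd f' (fun i => g ⁻¹ᵁ U i) ((Scheme.Modules.pullback g).obj F) n (bcX φ f f' g H F U n y) a
  rw [cxd_apply, cxd_apply, map_sum]
  refine Finset.sum_congr rfl fun k _ => ?_
  rw [map_zsmul]
  refine congrArg ((-1 : ℤ) ^ (k : ℕ) • ·) ?_
  exact (pullRes_res g F (leOfHom (Cech.proj (D := Opens X.carrier) U a k))
    (preimage_W g U (fun l => a (k.succAbove l))).le (preimage_W g U a).le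
    (leOfHom (Cech.proj (D := Opens X'.carrier) (fun i => g ⁻¹ᵁ U i) a k)) _).symm

/-- **Base change of the Cech complex.** -/
noncomputable def bcIso [F.IsQuasicoherent] [Finite ι]
    (haff : ∀ (n : ℕ) (a : Fin (n + 1) → ι), IsAffineOpen (⨅ k, U (a k))) :
    CohIII.bcCx φ (cx f U F) ≅ cx f' (fun i => g ⁻¹ᵁ U i) ((Scheme.Modules.pullback g).obj F) :=
  HomologicalComplex.Hom.isoOfComponents
    (fun n => @asIso _ _ _ _ (((ModuleCat.extendRestrictScalarsAdj φ).homEquiv _ _).symm (bcX φ f f' g H F U n))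
      (isIso_of_isBC φ (isBC_bcX φ f f' g H F U haff n)))
    fun i j h => by
      obtain rfl : i + 1 = j := h
      show ((ModuleCat.extendRestrictScalarsAdj φ).homEquiv _ _).symm (bcX φ f f' g H F U i) ≫
          (cx f' _ _).d i (i + 1) = (ModuleCat.extendScalars φ).map ((cx f U F).d i (i + 1)) ≫
          ((ModuleCat.extendRestrictScalarsAdj φ).homEquiv _ _).symm (bcX φ f f' g H F U (i + 1))
      rw [← Adjunction.homEquiv_naturality_right_symm, ← Adjunction.homEquiv_naturality_left_symm, cx_d, cx_d]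
      exact congrArg _ (bcX_d φ f f' g H F U i).symm

end GrothLib.BCCoh
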