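import Mathlib.RingTheory.IsTensorProduct
import Mathlib.Algebra.Category.ModuleCat.ChangeOfRings
import Mathlib.LinearAlgebra.TensorProduct.Tower
import Mathlib.RingTheory.TensorProduct.Maps

/-! # Tensoring over a base change -/

set_option autoImplicit false
universe u

open CategoryTheory TensorProduct

namespace GrothLib.BCCoh

/-- `n ⊗ m ↦ n ⊗ p m`. -/
noncomputable def tmulBC {A C : Type u} [CommRing A] [CommRing C] [Algebra A C] {M P N : Type u}
    [AddCommGroup M] [Module A M] [AddCommGroup P] [Module A P] [Module C P] [IsScalarTower A C P]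
    [AddCommGroup N] [Module A N] [Module C N] [IsScalarTower A C N] (p : M →ₗ[A] P) :
    N ⊗[A] M →ₗ[C] N ⊗[C] P :=
  TensorProduct.AlgebraTensorModule.lift
    { toFun := fun n => ((TensorProduct.mk C N P n).restrictScalars A).comp p
      map_add' := fun n n' => LinearMap.ext fun m => TensorProduct.add_tmul n n' (p m)
      map_smul' := fun c n => LinearMap.ext fun m => (TensorProduct.smul_tmul' c n (p m)).symm }

theorem tmulBC_tmul {A C : Type u} [CommRing A] [CommRing C] [Algebra A C] {M P N : Type u}
    [AddCommGroup M] [Module A M] [AddCommGroup P] [Module A P] [Module C P] [IsScalarTower A C P]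
    [AddCommGroup N] [Module A N] [Module C N] [IsScalarTower A C N] (p : M →ₗ[A] P) (n : N) (m : M) :
    tmulBC p (n ⊗ₜ[A] m) = n ⊗ₜ[C] p m := rfl

theorem bijective_tmulBC {A C : Type u} [CommRing A] [CommRing C] [Algebra A C] {M P N : Type u}
    [AddCommGroup M] [Module A M] [AddCommGroup P] [Module A P] [Module C P] [IsScalarTower A C P]
    [AddCommGroup N] [Module A N] [Module C N] [IsScalarTower A C N] {p : M →ₗ[A] P}
    (h : IsBaseChange C p) : Function.Bijective (tmulBC (C := C) (N := N) p) := by
  let e : N ⊗[A] M ≃ₗ[C] N ⊗[C] P :=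
    (AlgebraTensorModule.cancelBaseChange A C C N M).symm.trans
      (TensorProduct.congr (LinearEquiv.refl C N) h.equiv)
  suffices H : tmulBC (C := C) (N := N) p = e.toLinearMap by rw [H]; exact e.bijective
  refine AlgebraTensorModule.ext fun n m => ?_
  rw [tmulBC_tmul]
  have h1 : (AlgebraTensorModule.cancelBaseChange A C C N M).symm (n ⊗ₜ[A] m) = n ⊗ₜ[C] ((1 : C) ⊗ₜ[A] m) := by
    rw [LinearEquiv.symm_apply_eq, AlgebraTensorModule.cancelBaseChange_tmul, one_smul]
  show _ = TensorProduct.congr (LinearEquiv.refl C N) h.equiv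
    ((AlgebraTensorModule.cancelBaseChange A C C N M).symm (n ⊗ₜ[A] m))
  rw [h1, TensorProduct.congr_tmul, LinearEquiv.refl_apply, IsBaseChange.equiv_tmul, one_smul]

/-- The composite unit of two extensions of scalars is a base change. -/
theorem isBaseChange_of_units {A B C : Type u} [CommRing A] [CommRing B] [CommRing C] (a : A →+* B)
    (b : B →+* C) [Algebra A C] (hab : algebraMap A C = b.comp a) (M : ModuleCat.{u} A)
    (P : ModuleCat.{u} C) (e : (ModuleCat.extendScalars b).obj ((ModuleCat.extendScalars a).obj M) ≅ P)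
    [Module A P] [IsScalarTower A C P] (p : M →ₗ[A] P)
    (hp : ∀ m : M, p m = e.hom ((ModuleCat.extendRestrictScalarsAdj b).unit.app _
      ((ModuleCat.extendRestrictScalarsAdj a).unit.app M m))) : IsBaseChange C p := by
  apply IsBaseChange.of_lift_unique
  intro Q iQ _ iC _ g
  letI : AddCommGroup Q := Module.addCommMonoidToAddCommGroup C
  let adj := (ModuleCat.extendRestrictScalarsAdj a).comp (ModuleCat.extendRestrictScalarsAdj b)
  let Q' : ModuleCat.{u} C := ModuleCat.of C Q
  let g' : M ⟶ (ModuleCat.restrictScalars a).obj ((ModuleCat.restrictScalars b).obj Q') :=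
    ConcreteCategory.ofHom
      { toFun := fun m => (g m : Q)
        map_add' := fun x y => map_add g x y
        map_smul' := fun r m => by
          refine (g.map_smul r m).trans ?_
          show r • g m = b (a r) • g m
          rw [← algebraMap_smul C r (g m), hab]
          rfl }
  let mk : (P →ₗ[C] Q) ≃ (M ⟶ (ModuleCat.restrictScalars a).obj ((ModuleCat.restrictScalars b).obj Q')) :=
    { toFun := fun k => adj.homEquiv M Q' (e.hom ≫ ConcreteCategory.ofHom k)
      invFun := fun h => (e.inv ≫ (adj.homEquiv M Q').symm h).hom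
      left_inv := fun k => by
        dsimp only
        rw [Equiv.symm_apply_apply, Iso.inv_hom_id_assoc]
        rfl
      right_inv := fun h => by
        dsimp only
        have h1 : e.hom ≫ ConcreteCategory.ofHom (e.inv ≫ (adj.homEquiv M Q').symm h).hom =
            (adj.homEquiv M Q').symm h := by
          show e.hom ≫ e.inv ≫ _ = _
          rw [Iso.hom_inv_id_assoc]
        rw [h1, Equiv.apply_symm_apply] }
  have hmk : ∀ (k : P →ₗ[C] Q) (m : M), mk k m = k (p m) := fun k m => by
    rw [hp]
    exact ConcreteCategory.congr_hom (adj.homEquiv_unit M Q' (e.hom ≫ ConcreteCategory.ofHom k)) m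
  refine ⟨mk.symm g', LinearMap.ext fun m => ?_, fun k hk => ?_⟩
  · refine (hmk (mk.symm g') m).symm.trans ?_
    rw [Equiv.apply_symm_apply]
    rfl
  · rw [Equiv.eq_symm_apply]
    exact ConcreteCategory.hom_ext _ _ fun m => (hmk k m).trans (LinearMap.congr_fun hk m)

end GrothLib.BCCoh
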