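import Groth.Agent.Lib.BCCoh.FiniteFree
import Groth.Agent.Lib.BCCoh.FlatHomology
import Groth.Agent.Lib.BCCoh.Grauert2
import Mathlib.Algebra.Homology.Embedding.CochainComplex

/-! # Truncating complexes of finite free modules -/

set_option autoImplicit false
set_option linter.style.haveILetI false
set_option maxHeartbeats 800000
universe u

open CategoryTheory CategoryTheory.Limits TensorProduct MonoidalCategory

namespace GrothLib.BCCoh

variable {A : Type u} [CommRing A] [IsNoetherianRing A]

theorem isZero_T_of_isZero_X (P : CochainComplex (ModuleCat.{u} A) ℤ) (M : ModuleCat.{u} A) (i : ℤ)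
    (h : IsZero (P.X i)) : IsZero (CohIII.T P i M) := by
  show IsZero ((CohIII.tensorObj P M).homology i)
  rw [← HomologicalComplex.exactAt_iff_isZero_homology]
  exact HomologicalComplex.ExactAt.of_isZero ((tensorRight M).map_isZero h)

/-- Above the last nonvanishing homology a bounded complex of flat modules has zero functors. -/
theorem isZero_T_of_high (L : CochainComplex (ModuleCat.{u} A) ℤ) [∀ i, Module.Flat A (L.X i)]
    (b d : ℤ) (hb : ∀ i, b ≤ i → IsZero (L.X i)) (hH : ∀ i, d < i → IsZero (L.homology i)) (i : ℤ) (hi : d < i)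
    (M : ModuleCat.{u} A) : IsZero ((CohIII.TFun L i).obj M) := by
  have hflat : ∀ j, d + 1 ≤ j → Module.Flat A (L.X j ⧸ LinearMap.range (L.d ((ComplexShape.up ℤ).prev j) j).hom) :=
    fun j hj => flat_coker_of_flat_homology_ge L b (d + 1) (fun N k hk => isZero_T_of_isZero_X L N k (hb k hk))
      (fun k hk => by
        haveI := ModuleCat.subsingleton_of_isZero (hH k (by omega))
        infer_instance) j hj
  rw [FlatCx.isZero_T_iff]
  have hinj : Function.Injective (FlatCx.dBar L i) := by
    rw [← LinearMap.ker_eq_bot]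
    haveI : Subsingleton (CohIII.T L i (ModuleCat.of A A)) :=
      ModuleCat.subsingleton_of_isZero ((hH i hi).of_iso (FlatCx.TUnitIso L i))
    haveI : Subsingleton (LinearMap.ker (FlatCx.dBar L i)) := (FlatCx.TUnitKerEquiv L i).symm.toEquiv.subsingleton
    exact Submodule.eq_bot_of_subsingleton
  haveI : Module.Flat A (L.X ((ComplexShape.up ℤ).next i) ⧸ LinearMap.range (FlatCx.dBar L i)) := by
    rw [FlatCx.range_dBar]
    have h := hflat (i + 1) (by omega)
    rw [(ComplexShape.up ℤ).prev_eq' (show (ComplexShape.up ℤ).Rel i (i + 1) by simp)] at h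
    rw [(ComplexShape.up ℤ).next_eq' (show (ComplexShape.up ℤ).Rel i (i + 1) by simp)]
    exact h
  exact (LinearMap.lTensor_inj_iff_rTensor_inj M (FlatCx.dBar L i)).1
    (LinearMap.lTensor_injective_of_exact_of_flat (LinearMap.range (FlatCx.dBar L i)).mkQ
      (Submodule.mkQ_surjective _) _ hinj (LinearMap.exact_map_mkQ_range _) M)

/-- **A finite projective complex in the range of amplitude.** -/
theorem exists_amplitude (L : CochainComplex (ModuleCat.{u} A) ℤ)
    (hfin : ∀ i, Module.Finite A (L.X i) ∧ Module.Free A (L.X i)) (b d' d : ℤ) (hd : d' ≤ d)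
    (hb : ∀ i, b ≤ i → IsZero (L.X i)) (hlow : ∀ i, i < d' → ∀ M, IsZero ((CohIII.TFun L i).obj M))
    (hH : ∀ i, d < i → IsZero (L.homology i)) :
    ∃ L' : CochainComplex (ModuleCat.{u} A) ℤ,
      (∀ i, Module.Finite A (L'.X i) ∧ Module.Projective A (L'.X i)) ∧
      (∀ i, i < d' ∨ d < i → IsZero (L'.X i)) ∧
      ∀ (M : ModuleCat.{u} A) (p : ℤ), Nonempty (CohIII.T L p M ≃+ CohIII.T L' p M) := by
  haveI : ∀ i, Module.Finite A (L.X i) := fun i => (hfin i).1
  haveI : ∀ i, Module.Flat A (L.X i) := fun i => by haveI := (hfin i).2; infer_instance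
  haveI hGE : L.IsGE d' := (L.isGE_iff d').2 fun i hi => by
    rw [HomologicalComplex.exactAt_iff_isZero_homology]
    exact (hlow i hi (ModuleCat.of A A)).of_iso (FlatCx.TUnitIso L i).symm
  have hopc : Module.Flat A (FlatCx.cokIn L d') :=
    (FlatCx.preservesMono_iff L d').1 ((preservesMono_iff_preservesEpi_pred L (i := d' - 1) (by ring)).2
      (preservesEpi_of_isZero fun M => hlow (d' - 1) (by omega) M))
  let K := L.truncGE d'
  have hK : ∀ i, Module.Finite A (K.X i) ∧ Module.Flat A (K.X i) ∧ (max b (d' + 1) ≤ i → IsZero (K.X i)) := fun i => by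
    rcases lt_trichotomy i d' with h | h | h
    · have hz : IsZero (K.X i) := K.isZero_of_isStrictlyGE d' i h
      haveI := ModuleCat.subsingleton_of_isZero hz
      exact ⟨inferInstance, inferInstance, fun _ => hz⟩
    · subst h
      let e : K.X i ≃ₗ[A] FlatCx.cokIn L i :=
        (L.truncGEXIsoOpcycles i).toLinearEquiv ≪≫ₗ (L.sc i).moduleCatOpcyclesIso.toLinearEquiv
      haveI : Module.Finite A (FlatCx.cokIn L i) := Module.Finite.quotient A _
      exact ⟨Module.Finite.equiv e.symm, Module.Flat.of_linearEquiv e, fun h => absurd h (by omega)⟩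
    · exact ⟨Module.Finite.equiv (L.truncGEXIso d' i h).toLinearEquiv.symm,
        Module.Flat.of_linearEquiv (L.truncGEXIso d' i h).toLinearEquiv,
        fun hi => (hb i (by omega)).of_iso (L.truncGEXIso d' i h)⟩
  haveI : ∀ i, Module.Finite A (K.X i) := fun i => (hK i).1
  haveI : ∀ i, Module.Flat A (K.X i) := fun i => (hK i).2.1
  haveI hπ : QuasiIso (L.πTruncGE d') := inferInstance
  have hKH : ∀ i, d < i → IsZero (K.homology i) := fun i hi =>
    (hH i hi).of_iso (asIso (HomologicalComplex.homologyMap (L.πTruncGE d') i)).symm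
  haveI hLE : K.IsLE d := (K.isLE_iff d).2 fun i hi => by
    rw [HomologicalComplex.exactAt_iff_isZero_homology]
    exact hKH i hi
  let L' := K.truncLE d
  have hcyc : Module.Flat A (LinearMap.ker ((K.sc d).g).hom) := by
    haveI : Module.Flat A (LinearMap.range ((K.sc d).g).hom) := by
      haveI : Module.Flat A (K.X ((ComplexShape.up ℤ).next d)) := inferInstance
      have h := flat_coker_of_flat_homology_ge K (max b (d' + 1)) (d + 1)
        (fun N k hk => isZero_T_of_isZero_X K N k ((hK k).2.2 hk))
        (fun k hk => by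
          haveI := ModuleCat.subsingleton_of_isZero (hKH k (by omega))
          infer_instance) (d + 1) le_rfl
      rw [(ComplexShape.up ℤ).prev_eq' (show (ComplexShape.up ℤ).Rel d (d + 1) by simp)] at h
      haveI : Module.Flat A (K.X ((ComplexShape.up ℤ).next d) ⧸
          LinearMap.range (K.d d ((ComplexShape.up ℤ).next d)).hom) := by
        rw [(ComplexShape.up ℤ).next_eq' (show (ComplexShape.up ℤ).Rel d (d + 1) by simp)]
        exact h
      exact FlatCx.flat_of_exact_left (C := K.X ((ComplexShape.up ℤ).next d))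
        (g := (LinearMap.range (K.d d ((ComplexShape.up ℤ).next d)).hom).subtype)
        (f := (LinearMap.range (K.d d ((ComplexShape.up ℤ).next d)).hom).mkQ) Subtype.val_injective
        (Submodule.mkQ_surjective _) (LinearMap.exact_subtype_mkQ _)
    haveI : Module.Flat A (K.sc d).X₂ := (hK d).2.1
    exact FlatCx.flat_ker_of_flat_range ((K.sc d).g).hom
  have hL' : ∀ i, Module.Finite A (L'.X i) ∧ Module.Projective A (L'.X i) ∧ (i < d' ∨ d < i → IsZero (L'.X i)) := by
    intro i
    rcases lt_trichotomy i d with h | h | h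
    · haveI : Module.Finite A (L'.X i) := Module.Finite.equiv (K.truncLEXIso d i h).toLinearEquiv.symm
      haveI : Module.Flat A (L'.X i) := Module.Flat.of_linearEquiv (K.truncLEXIso d i h).toLinearEquiv
      refine ⟨inferInstance, FlatCx.projective_of_finite_flat _, fun hi => ?_⟩
      exact (K.isZero_of_isStrictlyGE d' i (by omega)).of_iso (K.truncLEXIso d i h)
    · subst h
      let e : L'.X i ≃ₗ[A] LinearMap.ker ((K.sc i).g).hom :=
        (K.truncLEXIsoCycles i).toLinearEquiv ≪≫ₗ (K.sc i).moduleCatCyclesIso.toLinearEquiv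
      haveI : Module.Finite A (K.sc i).X₂ := inferInstanceAs (Module.Finite A (K.X i))
      haveI : IsNoetherian A (K.sc i).X₂ := isNoetherian_of_isNoetherianRing_of_finite A _
      haveI : Module.Finite A (L'.X i) := Module.Finite.equiv e.symm
      haveI : Module.Flat A (L'.X i) := Module.Flat.of_linearEquiv e
      exact ⟨inferInstance, FlatCx.projective_of_finite_flat _, fun hi => absurd hi (by omega)⟩
    · have hz : IsZero (L'.X i) := L'.isZero_of_isStrictlyLE d i h
      haveI := ModuleCat.subsingleton_of_isZero hz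
      exact ⟨inferInstance, inferInstance, fun _ => hz⟩
  haveI : ∀ i, Module.Flat A (L'.X i) := fun i => by haveI := (hL' i).2.1; infer_instance
  haveI hι : QuasiIso (K.ιTruncLE d) := inferInstance
  let B := max (max b (d' + 1)) (d + 1)
  have hKt : ∀ (M : ModuleCat.{u} A) (i : ℤ), B ≤ i → IsZero ((CohIII.tensorObj K M).homology i) :=
    fun M i hi => isZero_T_of_isZero_X K M i ((hK i).2.2 (by omega))
  refine ⟨L', fun i => ⟨(hL' i).1, (hL' i).2.1⟩, fun i => (hL' i).2.2, fun M p => ?_⟩
  haveI h1 := quasiIso_tensorMap (L.πTruncGE d') B (fun i hi => hb i (by omega)) hKt M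
  haveI h2 := quasiIso_tensorMap (K.ιTruncLE d) B (fun i hi => (hL' i).2.2 (Or.inr (by omega))) hKt M
  haveI := (quasiIsoAt_iff_isIso_homologyMap (((tensorRight M).mapHomologicalComplex (ComplexShape.up ℤ)).map (L.πTruncGE d')) p).1 (h1.quasiIsoAt p)
  haveI := (quasiIsoAt_iff_isIso_homologyMap (((tensorRight M).mapHomologicalComplex (ComplexShape.up ℤ)).map (K.ιTruncLE d)) p).1 (h2.quasiIsoAt p)
  exact ⟨(asIso (HomologicalComplex.homologyMap (((tensorRight M).mapHomologicalComplex (ComplexShape.up ℤ)).map (L.πTruncGE d')) p) ≪≫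
    (asIso (HomologicalComplex.homologyMap (((tensorRight M).mapHomologicalComplex (ComplexShape.up ℤ)).map (K.ιTruncLE d)) p)).symm).toLinearEquiv.toAddEquiv⟩

end GrothLib.BCCoh
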