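import Groth.Agent.Lib.BCCoh.Algebra
import Groth.Agent.Lib.OX.TildeTensor
import Groth.Agent.Lib.OX.QCohTensor
import Groth.Agent.Lib.FittSheaf.Pullback
import Groth.Agent.Lib.FlatFP.Sheaf
import Groth.Agent.S2297
import Groth.Prelude.Def_ega3
import Mathlib.RingTheory.Localization.BaseChange

/-! # Sections of `f^* M~ ⊗ F` on affine opens -/

set_option autoImplicit false
set_option maxHeartbeats 800000
set_option linter.style.haveILetI false
universe u

open CategoryTheory AlgebraicGeometry Opposite TopologicalSpace TensorProduct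
open GrothLib.OX (germ tmulSec pullSec tsecTop)

namespace GrothLib.BCCoh

variable {A : Type u} [CommRing A] {X : Scheme.{u}} (f : X ⟶ Spec (CommRingCat.of A))

/-- `A → Γ(X, U)`. -/
noncomputable def psi (U : X.Opens) : A →+* Γ(X, U) :=
  (X.presheaf.map (homOfLE (le_top : U ≤ ⊤)).op).hom.comp (show A →+* Γ(X, ⊤) from Coh.toGlobal f)

theorem psi_res {U V : X.Opens} (h : V ≤ U) (a : A) :
    X.presheaf.map (homOfLE h).op (psi f U a) = psi f V a := by
  show (X.presheaf.map _ ≫ X.presheaf.map _) _ = _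
  rw [← Functor.map_comp]
  rfl

/-- `f^* M~`. -/
noncomputable abbrev PM (M : ModuleCat.{u} A) : X.Modules :=
  (Scheme.Modules.pullback f).obj ((tilde.functor (CommRingCat.of A)).obj M)

/-- A section of `f^* M~` from an element of `M`. -/
noncomputable def pM (M : ModuleCat.{u} A) (U : X.Opens) (m : M) : Γ(PM f M, U) :=
  (PM f M).presheaf.map (homOfLE (le_top : U ≤ ⊤)).op
    (show Γ(PM f M, ⊤) from pullSec f _ ⊤ (tsecTop (CommRingCat.of A) M m))

theorem pM_res (M : ModuleCat.{u} A) {U V : X.Opens} (h : V ≤ U) (m : M) :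
    (PM f M).presheaf.map (homOfLE h).op (pM f M U m) = pM f M V m := by
  show ((PM f M).presheaf.map _ ≫ (PM f M).presheaf.map _) _ = _
  rw [← Functor.map_comp]
  rfl

theorem pM_add (M : ModuleCat.{u} A) (U : X.Opens) (m m' : M) :
    pM f M U (m + m') = pM f M U m + pM f M U m' := by
  refine (congrArg ((PM f M).presheaf.map (homOfLE (le_top : U ≤ ⊤)).op) ?_).trans (map_add _ _ _)
  exact (congrArg (pullSec f _ ⊤) (map_add _ m m')).trans (map_add _ _ _)

theorem pM_smul (M : ModuleCat.{u} A) (U : X.Opens) (a : A) (m : M) :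
    pM f M U (a • m) = psi f U a • pM f M U m := by
  let s : Γ(Spec (CommRingCat.of A), ⊤) := (Spec (CommRingCat.of A)).presheaf.map
    (⊤ : (Spec (CommRingCat.of A)).Opens).leTop.op ((Scheme.ΓSpecIso (CommRingCat.of A)).inv a)
  have hs : s = (Scheme.ΓSpecIso (CommRingCat.of A)).inv a := by
    show (Spec (CommRingCat.of A)).presheaf.map (𝟙 _) _ = _
    rw [CategoryTheory.Functor.map_id]; rfl
  have hsm : ∀ (E : (Spec (CommRingCat.of A)).Modules) (r : A) (t : (moduleSpecΓFunctor (R := CommRingCat.of A)).obj E),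
      (show (DCoh.toP.obj E).obj (op ⊤) from r • t) =
        (show (Spec (CommRingCat.of A)).presheaf.obj (op ⊤) from
          (Spec (CommRingCat.of A)).presheaf.map (⊤ : (Spec (CommRingCat.of A)).Opens).leTop.op
            ((Scheme.ΓSpecIso (CommRingCat.of A)).inv r)) •
            (show (DCoh.toP.obj E).obj (op ⊤) from t) :=
    fun E r t => Scheme.Modules.smul_Spec_def r t
  have h1 : tsecTop (CommRingCat.of A) M (a • m) =
      (show (Spec (CommRingCat.of A)).presheaf.obj (op ⊤) from s) • tsecTop (CommRingCat.of A) M m :=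
    (map_smul ((tilde.adjunction (R := CommRingCat.of A)).unit.app M).hom a m).trans
      (hsm ((tilde.functor (CommRingCat.of A)).obj M) a ((tilde.adjunction (R := CommRingCat.of A)).unit.app M m))
  have h2 : (show Γ(PM f M, ⊤) from pullSec f _ ⊤ (tsecTop (CommRingCat.of A) M (a • m))) =
      (show Γ(X, ⊤) from f.appTop s) • (show Γ(PM f M, ⊤) from pullSec f _ ⊤ (tsecTop (CommRingCat.of A) M m)) :=
    (congrArg (pullSec f _ ⊤) h1).trans (map_smul ((DCoh.toP.map
      ((Scheme.Modules.pullbackPushforwardAdjunction f).unit.app _)).app (op ⊤)).hom _ _)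
  refine (congrArg ((PM f M).presheaf.map (homOfLE (le_top : U ≤ ⊤)).op) h2).trans ?_
  refine (Scheme.Modules.map_smul _ _ _ _).trans ?_
  rw [hs]
  rfl

theorem isBaseChange_stalk (M : ModuleCat.{u} A) (x : X) :
    letI : Algebra A (X.presheaf.stalk x) := ((X.presheaf.germ ⊤ x trivial).hom.comp (psi f ⊤)).toAlgebra
    letI : Module A ((OX.stalk x).obj (PM f M)) := Module.compHom _ (algebraMap A (X.presheaf.stalk x))
    haveI : IsScalarTower A (X.presheaf.stalk x) ((OX.stalk x).obj (PM f M)) :=
      IsScalarTower.of_algebraMap_smul fun _ _ => rfl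
    ∃ p : M →ₗ[A] (OX.stalk x).obj (PM f M), IsBaseChange (X.presheaf.stalk x) p ∧
      ∀ (U : X.Opens) (hx : x ∈ U) (m : M), p m = germ (DCoh.toP.obj (PM f M)) U hx (pM f M U m) := by
  letI alg : Algebra A (X.presheaf.stalk x) := ((X.presheaf.germ ⊤ x trivial).hom.comp (psi f ⊤)).toAlgebra
  letI : Module A ((OX.stalk x).obj (PM f M)) := Module.compHom _ (algebraMap A (X.presheaf.stalk x))
  haveI : IsScalarTower A (X.presheaf.stalk x) ((OX.stalk x).obj (PM f M)) :=
    IsScalarTower.of_algebraMap_smul fun _ _ => rfl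
  have hgerm : ∀ (U : X.Opens) (hx : x ∈ U) (m : M), germ (DCoh.toP.obj (PM f M)) U hx (pM f M U m) =
      germ (DCoh.toP.obj (PM f M)) ⊤ trivial (pullSec f _ ⊤ (tsecTop (CommRingCat.of A) M m)) :=
    fun U hx m => OX.germ_map (DCoh.toP.obj (PM f M)) (homOfLE (le_top : U ≤ ⊤)) hx _
  let p : M →ₗ[A] (OX.stalk x).obj (PM f M) :=
    { toFun := fun m => germ (DCoh.toP.obj (PM f M)) ⊤ trivial (pM f M ⊤ m)
      map_add' := fun m m' => (congrArg _ (pM_add f M ⊤ m m')).trans (map_add _ _ _)
      map_smul' := fun a m => (congrArg _ (pM_smul f M ⊤ a m)).trans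
        (OX.germ_smul' (DCoh.toP.obj (PM f M)) ⊤ trivial _ _) }
  refine ⟨p, ?_, fun U hx m => (hgerm ⊤ trivial m).trans (hgerm U hx m).symm⟩
  let a := OX.specToStalk (CommRingCat.of A) (f x)
  let b := (f.stalkMap x).hom
  have hab : algebraMap A (X.presheaf.stalk x) = b.comp a := by
    refine RingHom.ext fun r => ?_
    show X.presheaf.germ ⊤ x trivial (psi f ⊤ r) = f.stalkMap x ((Spec (CommRingCat.of A)).presheaf.germ ⊤ (f x) trivial _)
    rw [Scheme.Hom.germ_stalkMap_apply]
    show X.presheaf.germ ⊤ x trivial (X.presheaf.map (𝟙 _) _) = _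
    rw [CategoryTheory.Functor.map_id]
    rfl
  let e : (ModuleCat.extendScalars b).obj ((ModuleCat.extendScalars a).obj M) ≅ (OX.stalk x).obj (PM f M) :=
    (ModuleCat.extendScalars b).mapIso ((OX.tildeStalkIso (CommRingCat.of A) (f x)).app M).symm ≪≫
      ((OX.pullStalkIso f x).app ((tilde.functor (CommRingCat.of A)).obj M)).symm
  refine isBaseChange_of_units a b hab M _ e p fun m => ?_
  have h1 : ((OX.pullStalkIso f x).hom.app ((tilde.functor (CommRingCat.of A)).obj M)).hom (p m) =
      (ModuleCat.extendRestrictScalarsAdj b).unit.app ((OX.stalk (f x)).obj ((tilde.functor (CommRingCat.of A)).obj M))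
        (germ (DCoh.toP.obj ((tilde.functor (CommRingCat.of A)).obj M)) ⊤ trivial (tsecTop (CommRingCat.of A) M m)) :=
    (congrArg _ (hgerm ⊤ trivial m)).trans
      (OX.pullStalkIso_germ f x ((tilde.functor (CommRingCat.of A)).obj M) ⊤ trivial (tsecTop (CommRingCat.of A) M m))
  have h2 : e.inv (p m) = (ModuleCat.extendRestrictScalarsAdj b).unit.app _
      ((ModuleCat.extendRestrictScalarsAdj a).unit.app M m) := by
    show ((ModuleCat.extendScalars b).map ((OX.tildeStalkIso (CommRingCat.of A) (f x)).hom.app M)).hom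
      (((OX.pullStalkIso f x).hom.app ((tilde.functor (CommRingCat.of A)).obj M)).hom (p m)) = _
    rw [h1]
    refine (ConcreteCategory.congr_hom ((ModuleCat.extendRestrictScalarsAdj b).unit.naturality
      ((OX.tildeStalkIso (CommRingCat.of A) (f x)).hom.app M)) _).symm.trans ?_
    exact congrArg (fun w => (ModuleCat.extendRestrictScalarsAdj b).unit.app
      ((ModuleCat.extendScalars (OX.specToStalk (CommRingCat.of A) (f x))).obj M) w)
      (OX.tildeStalkIso_germ (CommRingCat.of A) (f x) M m)
  exact ((congrArg e.hom h2).symm.trans (Iso.inv_hom_id_apply e (p m))).symm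

variable (F : X.Modules)

/-- `M ↦ f^* M~ ⊗ F`. -/
noncomputable abbrev TF : ModuleCat.{u} A ⥤ X.Modules :=
  tilde.functor (CommRingCat.of A) ⋙ Scheme.Modules.pullback f ⋙ (DCoh.tensorBi (X := X)).flip.obj F

theorem isQuasicoherent_TF [F.IsQuasicoherent] (M : ModuleCat.{u} A) : ((TF f F).obj M).IsQuasicoherent := by
  have : ((tilde.functor (CommRingCat.of A)).obj M).IsQuasicoherent := inferInstanceAs (tilde (R := CommRingCat.of A) M).IsQuasicoherent
  have := FittSheaf.isQuasicoherent_pullback f ((tilde.functor (CommRingCat.of A)).obj M)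
  exact (Groth.Agent.S2297.result (PM f M) F).1

/-- `Γ(U, F)` as an `A`-module. -/
@[instance_reducible] noncomputable def secModule (G : X.Modules) (U : X.Opens) : Module A Γ(G, U) :=
  Module.compHom _ (psi f U)

/-- `s ⊗ m ↦ f^*m ⊗ s`. -/
noncomputable def secHom (M : ModuleCat.{u} A) (U : X.Opens) :
    letI := secModule f F U
    Γ(F, U) ⊗[A] M →+ Γ((TF f F).obj M, U) :=
  letI := secModule f F U
  TensorProduct.liftAddHom
    { toFun := fun s =>
        { toFun := fun m => tmulSec (PM f M) F U (pM f M U m) s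
          map_zero' := by
            have h := pM_add f M U 0 0
            rw [add_zero] at h
            have h0 : pM f M U (0 : M) = 0 := left_eq_add.mp h
            rw [h0]
            have h' := OX.tmulSec_add_left (PM f M) F U (0 : Γ(PM f M, U)) 0 s
            exact left_eq_add.mp ((congrArg (fun t => tmulSec (PM f M) F U t s) (add_zero _).symm).trans h')
          map_add' := fun m m' => (congrArg (fun t => tmulSec (PM f M) F U t s) (pM_add f M U m m')).trans
            (OX.tmulSec_add_left (PM f M) F U _ _ s) }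
      map_zero' := AddMonoidHom.ext fun m => left_eq_add.mp
        ((congrArg (tmulSec (PM f M) F U (pM f M U m)) (add_zero _).symm).trans
          (OX.tmulSec_add_right (PM f M) F U _ 0 0))
      map_add' := fun s s' => AddMonoidHom.ext fun m => OX.tmulSec_add_right (PM f M) F U _ s s' }
    (fun a s m => (OX.tmulSec_smul_right (PM f M) F U (psi f U a) (pM f M U m) s).trans
      ((OX.tmulSec_smul_left (PM f M) F U (psi f U a) (pM f M U m) s).symm.trans
        (congrArg (fun t => tmulSec (PM f M) F U t s) (pM_smul f M U a m).symm)))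

theorem secHom_tmul (M : ModuleCat.{u} A) (U : X.Opens) (s : Γ(F, U)) (m : M) :
    letI := secModule f F U
    secHom f F M U (s ⊗ₜ[A] m) = tmulSec (PM f M) F U (pM f M U m) s := rfl

/-- `Γ(U, F) ⊗_A M = Γ(U, f^* M~ ⊗ F)` for an affine open `U`. -/
theorem bijective_secHom [F.IsQuasicoherent] (M : ModuleCat.{u} A) {U : X.Opens} (hU : IsAffineOpen U) :
    Function.Bijective (secHom f F M U) := by
  letI algB : Algebra A Γ(X, U) := (psi f U).toAlgebra
  letI modF : Module A Γ(F, U) := secModule f F U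
  haveI : IsScalarTower A Γ(X, U) Γ(F, U) := IsScalarTower.of_algebraMap_smul fun _ _ => rfl
  have := isQuasicoherent_TF f F M
  let T := (TF f F).obj M
  have hsm : ∀ (b : Γ(X, U)) (z : Γ(F, U) ⊗[A] M), secHom f F M U (b • z) = b • secHom f F M U z := fun b z => by
    induction z using TensorProduct.induction_on with
    | zero => rw [smul_zero, map_zero, smul_zero]
    | tmul s m =>
      rw [TensorProduct.smul_tmul']
      exact OX.tmulSec_smul_right (PM f M) F U b (pM f M U m) s
    | add z w hz hw => rw [smul_add, map_add, map_add, smul_add, hz, hw]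
  let θ : Γ(F, U) ⊗[A] M →ₗ[Γ(X, U)] Γ(T, U) :=
    { toFun := secHom f F M U, map_add' := map_add _, map_smul' := hsm }
  have key : ∀ (x : X) (hx : x ∈ U),
      (∀ z, θ z = 0 → ∃ c, c ∉ WeakAss.primeAt x hx ∧ c • z = 0) ∧
      (∀ t, ∃ c, c ∉ WeakAss.primeAt x hx ∧ c • t ∈ LinearMap.range θ) := by
    intro x hx
    letI := X.presheaf.algebra_section_stalk ⟨x, hx⟩
    haveI := FlatFP.isLocalization_stalk_primeAt hU hx
    letI : Algebra A (X.presheaf.stalk x) := ((X.presheaf.germ ⊤ x trivial).hom.comp (psi f ⊤)).toAlgebra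
    haveI : IsScalarTower A Γ(X, U) (X.presheaf.stalk x) := IsScalarTower.of_algebraMap_eq fun r => by
      show X.presheaf.germ ⊤ x trivial (psi f ⊤ r) = X.presheaf.germ U x hx (psi f U r)
      rw [← psi_res f (le_top : U ≤ ⊤), TopCat.Presheaf.germ_res_apply]
    let Fx := (OX.stalk x).obj F
    letI : Module Γ(X, U) Fx := Module.compHom _ (algebraMap Γ(X, U) (X.presheaf.stalk x))
    haveI : IsScalarTower Γ(X, U) (X.presheaf.stalk x) Fx := IsScalarTower.of_algebraMap_smul fun _ _ => rfl
    letI : Module A Fx := Module.compHom _ (algebraMap A (X.presheaf.stalk x))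
    haveI : IsScalarTower A (X.presheaf.stalk x) Fx := IsScalarTower.of_algebraMap_smul fun _ _ => rfl
    haveI : IsScalarTower A Γ(X, U) Fx := IsScalarTower.of_algebraMap_smul fun r n => by
      show algebraMap Γ(X, U) (X.presheaf.stalk x) (algebraMap A Γ(X, U) r) • n = _
      rw [← IsScalarTower.algebraMap_apply A Γ(X, U) (X.presheaf.stalk x)]
      rfl
    letI : Module Γ(X, U) (F.presheaf.stalk x) := Module.compHom _ (X.presheaf.germ U x hx).hom
    obtain ⟨g, hg, hgz⟩ := FlatFP.isLocalizedModule_germ F hU hx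
    let g' : Γ(F, U) →ₗ[Γ(X, U)] Fx :=
      { toFun := fun z => g z, map_add' := map_add g, map_smul' := fun c z => g.map_smul c z }
    haveI : IsLocalizedModule (WeakAss.primeAt x hx).primeCompl g' := hg
    letI : Module A ((OX.stalk x).obj (PM f M)) := Module.compHom _ (algebraMap A (X.presheaf.stalk x))
    haveI : IsScalarTower A (X.presheaf.stalk x) ((OX.stalk x).obj (PM f M)) :=
      IsScalarTower.of_algebraMap_smul fun _ _ => rfl
    obtain ⟨p, hp, hpg⟩ := isBaseChange_stalk f M x
    let σ := (OX.stalkTensorBiIso x (PM f M) F).symm.toLinearEquiv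
    let Φ : Fx ⊗[A] M → (OX.stalk x).obj T := fun w =>
      σ ((TensorProduct.comm (X.presheaf.stalk x) Fx ((OX.stalk x).obj (PM f M)))
        (tmulBC (C := X.presheaf.stalk x) (N := Fx) p w))
    have hΦ : Function.Bijective Φ :=
      σ.bijective.comp ((TensorProduct.comm _ _ _).bijective.comp (bijective_tmulBC hp))
    have hΦ0 : Φ 0 = 0 := by simp only [Φ, map_zero]
    have hΦadd : ∀ w w', Φ (w + w') = Φ w + Φ w' := fun w w' => by simp only [Φ, map_add]
    let R' := AlgebraTensorModule.rTensor A M g'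
    have hRΦ : ∀ z : Γ(F, U) ⊗[A] M, germ (DCoh.toP.obj T) U hx (θ z) = Φ (R' z) := fun z => by
      refine TensorProduct.induction_on z ?_ (fun s m => ?_) (fun z w hz hw => ?_)
      · have e1 : θ 0 = 0 := map_zero _
        have e2 : R' 0 = 0 := map_zero _
        rw [e1, e2, hΦ0]
        exact map_zero _
      · have h0 : R' (s ⊗ₜ[A] m) = g' s ⊗ₜ[A] m := rfl
        rw [h0]
        show _ = σ (p m ⊗ₜ[X.presheaf.stalk x] g' s)
        rw [hpg U hx m, show g' s = germ (DCoh.toP.obj F) U hx s from hgz s]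
        exact ((congrArg (OX.stalkTensorBiIso x (PM f M) F).inv.hom
          (OX.stalkTensorBiIso_germ x (PM f M) F U hx (pM f M U m) s)).symm.trans
          (ConcreteCategory.congr_hom (OX.stalkTensorBiIso x (PM f M) F).hom_inv_id _)).symm
      · have e1 : θ (z + w) = θ z + θ w := map_add _ _ _
        have e2 : R' (z + w) = R' z + R' w := map_add _ _ _
        rw [e1, e2, hΦadd, ← hz, ← hw]
        exact map_add _ _ _
    haveI : IsLocalizedModule (WeakAss.primeAt x hx).primeCompl R' := inferInstance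
    obtain ⟨gT, hgT, hgTz⟩ := FlatFP.isLocalizedModule_germ T hU hx
    constructor
    · intro z hz
      have h1 : R' z = 0 := hΦ.1 (((hRΦ z).symm.trans ((congrArg _ hz).trans (map_zero _))).trans hΦ0.symm)
      obtain ⟨⟨c, hc⟩, hcz⟩ := (IsLocalizedModule.eq_zero_iff (WeakAss.primeAt x hx).primeCompl R').1 h1
      exact ⟨c, hc, hcz⟩
    · intro t
      obtain ⟨w, hw⟩ := hΦ.2 (germ (DCoh.toP.obj T) U hx t)
      obtain ⟨⟨z, ⟨c, hc⟩⟩, hzc⟩ := IsLocalizedModule.surj (WeakAss.primeAt x hx).primeCompl R' w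
      have hΦc : Φ (c • w) = X.presheaf.germ U x hx c • Φ w := by
        rw [← algebraMap_smul (X.presheaf.stalk x) c w]
        simp only [Φ, map_smul]
        rfl
      have h1 : gT (c • t) = gT (θ z) := by
        rw [hgTz, hgTz]
        refine ((OX.germ_smul' (DCoh.toP.obj T) U hx c t).trans ?_)
        refine Eq.trans ?_ (hRΦ z).symm
        rw [← hzc]
        exact ((congrArg (X.presheaf.germ U x hx c • ·) hw.symm).trans hΦc.symm)
      obtain ⟨⟨d, hd⟩, hdd⟩ := IsLocalizedModule.exists_of_eq (S := (WeakAss.primeAt x hx).primeCompl) (f := gT) h1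
      refine ⟨d * c, fun h => ((WeakAss.primeAt x hx).primeCompl.mul_mem hd hc) h, d • z, ?_⟩
      rw [mul_smul, map_smul]
      exact hdd.symm
  show Function.Bijective θ
  constructor
  · rw [injective_iff_map_eq_zero]
    intro z hz
    have h1 : (1 : Γ(X, U)) ∈ LinearMap.ker (LinearMap.toSpanSingleton Γ(X, U) _ z) :=
      FlatFP.one_mem_of_forall_point hU _ fun y hy => by
        obtain ⟨c, hc, hcz⟩ := (key y hy).1 z hz
        exact ⟨c, hcz, hc⟩
    simpa using h1
  · intro t
    have h1 : (1 : Γ(X, U)) ∈ (LinearMap.range θ).comap (LinearMap.toSpanSingleton Γ(X, U) _ t) :=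
      FlatFP.one_mem_of_forall_point hU _ fun y hy => by
        obtain ⟨c, hc, hct⟩ := (key y hy).2 t
        exact ⟨c, hct, hc⟩
    simpa using h1

theorem secHom_res (M : ModuleCat.{u} A) {U V : X.Opens} (h : V ≤ U) (s : Γ(F, U)) (m : M) :
    ((TF f F).obj M).presheaf.map (homOfLE h).op (tmulSec (PM f M) F U (pM f M U m) s) =
      tmulSec (PM f M) F V (pM f M V m) (F.presheaf.map (homOfLE h).op s) := by
  refine (PresheafOfModules.naturality_apply
    (OX.sheafUnit (MonoidalCategory.tensorObj (DCoh.toP.obj (PM f M)) (DCoh.toP.obj F))) (homOfLE h).op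
    (OX.tsec _ _ U (pM f M U m) s)).symm.trans ?_
  rw [← pM_res f M h m]
  rfl

theorem secHom_map {M M' : ModuleCat.{u} A} (φ : M ⟶ M') (U : X.Opens) (s : Γ(F, U)) (m : M) :
    ((TF f F).map φ).app U (tmulSec (PM f M) F U (pM f M U m) s) =
      tmulSec (PM f M') F U (pM f M' U (φ m)) s := by
  have h0 : (DCoh.toP.map ((tilde.functor (CommRingCat.of A)).map φ)).app (op ⊤) (tsecTop (CommRingCat.of A) M m) =
      tsecTop (CommRingCat.of A) M' (φ m) :=
    (ConcreteCategory.congr_hom ((tilde.adjunction (R := CommRingCat.of A)).unit.naturality φ) m).symm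
  let a := (Scheme.Modules.pullback f).map ((tilde.functor (CommRingCat.of A)).map φ)
  have h1 : (DCoh.toP.map a).app (op U) (pM f M U m) = pM f M' U (φ m) := by
    refine (ConcreteCategory.congr_hom (a.mapPresheaf.naturality (homOfLE (le_top : U ≤ ⊤)).op) _).trans ?_
    refine congrArg ((PM f M').presheaf.map (homOfLE (le_top : U ≤ ⊤)).op) ?_
    exact ((OX.pullSec_natural f _ ⊤ (tsecTop (CommRingCat.of A) M m)).symm.trans
      (congrArg (pullSec f _ ⊤) h0))
  refine (congrArg (fun k => k.app (op U) (OX.tsec _ _ U (pM f M U m) s))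
    (OX.sheafUnit_natural (MonoidalCategory.whiskerRight (DCoh.toP.map a) (DCoh.toP.obj F)))).trans ?_
  exact congrArg (fun t => tmulSec (PM f M') F U t s) h1

end GrothLib.BCCoh
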