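import Groth.Agent.Lib.BCCoh.CechA
import Groth.Agent.Lib.BCCoh.SecTensor

/-! # The Cech complex of `f^* M~ ⊗ F` is the Cech complex of `F` tensor `M` -/

set_option autoImplicit false
set_option linter.style.haveILetI false
set_option maxHeartbeats 1000000
universe u

open CategoryTheory CategoryTheory.Limits AlgebraicGeometry Opposite TopologicalSpace TensorProduct
open GrothLib.OX (tmulSec)

namespace GrothLib.BCCoh

variable {A : Type u} [CommRing A] {X : Scheme.{u}} (f : X ⟶ Spec (CommRingCat.of A)) (F : X.Modules)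

/-- `s ⊗ m ↦ f^*m ⊗ s`, linear over the base. -/
noncomputable def secT (M : ModuleCat.{u} A) (V : X.Opens) :
    (secA f F V) ⊗[A] M →ₗ[A] secA f ((TF f F).obj M) V :=
  TensorProduct.lift (LinearMap.mk₂ A
    (fun (s : secA f F V) (m : M) =>
      (show secA f ((TF f F).obj M) V from tmulSec (PM f M) F V (pM f M V m) s))
    (fun s s' m => OX.tmulSec_add_right (PM f M) F V _ s s')
    (fun a s m => OX.tmulSec_smul_right (PM f M) F V (psi f V a) (pM f M V m) s)
    (fun s m m' => (congrArg (fun t => tmulSec (PM f M) F V t s) (pM_add f M V m m')).trans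
      (OX.tmulSec_add_left (PM f M) F V _ _ s))
    (fun a s m => (congrArg (fun t => tmulSec (PM f M) F V t s) (pM_smul f M V a m)).trans
      (OX.tmulSec_smul_left (PM f M) F V (psi f V a) (pM f M V m) s)))

theorem secT_tmul (M : ModuleCat.{u} A) (V : X.Opens) (s : secA f F V) (m : M) :
    secT f F M V (s ⊗ₜ[A] m) = tmulSec (PM f M) F V (pM f M V m) s := rfl

theorem bijective_secT [F.IsQuasicoherent] (M : ModuleCat.{u} A) {V : X.Opens} (hV : IsAffineOpen V) :
    Function.Bijective (secT f F M V) := by
  have h : ∀ z, secT f F M V z = secHom f F M V z := fun z => by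
    refine TensorProduct.induction_on z ?_ (fun s m => rfl) (fun z w hz hw => ?_)
    · exact (map_zero (secT f F M V)).trans (map_zero (secHom f F M V)).symm
    · exact ((map_add (secT f F M V) z w).trans (congrArg₂ (· + ·) hz hw)).trans
        (map_add (secHom f F M V) z w).symm
  exact (funext h : ⇑(secT f F M V) = ⇑(secHom f F M V)) ▸ bijective_secHom f F M hV

theorem secT_res (M : ModuleCat.{u} A) {V V' : X.Opens} (h : V' ≤ V) (z : (secA f F V) ⊗[A] M) :
    resA f ((TF f F).obj M) h (secT f F M V z) = secT f F M V' ((resA f F h).rTensor M z) := by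
  induction z using TensorProduct.induction_on with
  | zero => simp only [map_zero]
  | tmul s m => exact secHom_res f F M h s m
  | add z w hz hw => simp only [map_add, hz, hw]

theorem secT_map {M M' : ModuleCat.{u} A} (φ : M ⟶ M') (V : X.Opens) (z : (secA f F V) ⊗[A] M) :
    appA f ((TF f F).map φ) V (secT f F M V z) = secT f F M' V (φ.hom.lTensor (secA f F V) z) := by
  induction z using TensorProduct.induction_on with
  | zero => simp only [map_zero]
  | tmul s m => exact secHom_map f F φ V s m
  | add z w hz hw => simp only [map_add, hz, hw]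

variable {ι : Type u} (U : ι → X.Opens)

/-- The comparison in each degree. -/
noncomputable def theta (M : ModuleCat.{u} A) (n : ℕ) :
    (cxX f U F n) ⊗[A] M →ₗ[A] cxX f U ((TF f F).obj M) n :=
  LinearMap.pi fun a => (secT f F M (W U a)).comp
    (LinearMap.rTensor M (LinearMap.proj (R := A) (φ := fun a : Fin (n + 1) → ι => secA f F (W U a)) a))

theorem theta_apply (M : ModuleCat.{u} A) (n : ℕ) (z : (cxX f U F n) ⊗[A] M) (a : Fin (n + 1) → ι) :
    theta f F U M n z a = secT f F M (W U a)
      (LinearMap.rTensor M (LinearMap.proj (R := A) (φ := fun a : Fin (n + 1) → ι => secA f F (W U a)) a) z) :=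
  rfl

theorem bijective_theta [F.IsQuasicoherent] [Finite ι]
    (haff : ∀ (n : ℕ) (a : Fin (n + 1) → ι), IsAffineOpen (⨅ k, U (a k)))
    (M : ModuleCat.{u} A) (n : ℕ) : Function.Bijective (theta f F U M n) := by
  classical
  haveI := Fintype.ofFinite (Fin (n + 1) → ι)
  have hW : ∀ a : Fin (n + 1) → ι, IsAffineOpen (W U a) := fun a => by
    have := haff n a
    rwa [← Cech.obj_eq_iInf] at this
  let e : (cxX f U F n) ⊗[A] M ≃ₗ[A] cxX f U ((TF f F).obj M) n :=
    (TensorProduct.comm A _ M).trans
      ((TensorProduct.piRight A A M (fun a : Fin (n + 1) → ι => secA f F (W U a))).trans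
        (LinearEquiv.piCongrRight fun a => (TensorProduct.comm A M (secA f F (W U a))).trans
          (LinearEquiv.ofBijective (secT f F M (W U a)) (bijective_secT f F M (hW a)))))
  have h : theta f F U M n = e.toLinearMap := TensorProduct.ext' fun y m => funext fun a => rfl
  rw [h]
  exact e.bijective

theorem theta_d (M : ModuleCat.{u} A) (n : ℕ) (z : (cxX f U F n) ⊗[A] M) :
    cxd f U ((TF f F).obj M) n (theta f F U M n z) =
      theta f F U M (n + 1) (((cxd f U F n).hom).rTensor M z) := by
  induction z using TensorProduct.induction_on with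
  | zero => simp only [map_zero]
  | tmul y m =>
    funext a
    rw [cxd_apply, theta_apply]
    show _ = secT f F M (W U a) ((cxd f U F n y a) ⊗ₜ[A] m)
    rw [cxd_apply, TensorProduct.sum_tmul, map_sum]
    refine Finset.sum_congr rfl fun k _ => ?_
    rw [← TensorProduct.smul_tmul' ((-1 : ℤ) ^ (k : ℕ)), map_zsmul]
    refine congrArg ((-1 : ℤ) ^ (k : ℕ) • ·) ?_
    exact secT_res f F M _ (y (fun l => a (k.succAbove l)) ⊗ₜ[A] m)
  | add z w hz hw => simp only [map_add, hz, hw]

/-- **Cech complex of `f^* M~ ⊗ F`.** -/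
noncomputable def tensorIso [F.IsQuasicoherent] [Finite ι]
    (haff : ∀ (n : ℕ) (a : Fin (n + 1) → ι), IsAffineOpen (⨅ k, U (a k))) (M : ModuleCat.{u} A) :
    ((MonoidalCategory.tensorRight M).mapHomologicalComplex (ComplexShape.up ℕ)).obj (cx f U F) ≅
      cx f U ((TF f F).obj M) :=
  HomologicalComplex.Hom.isoOfComponents
    (fun n => (LinearEquiv.ofBijective (theta f F U M n) (bijective_theta f F U haff M n)).toModuleIso)
    fun i j h => by
      obtain rfl : i + 1 = j := h
      refine ConcreteCategory.hom_ext _ _ fun z => ?_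
      show (cx f U ((TF f F).obj M)).d i (i + 1) (theta f F U M i z) =
        theta f F U M (i + 1) (((cx f U F).d i (i + 1)).hom.rTensor M z)
      rw [cx_d, cx_d]
      exact theta_d f F U M i z

theorem tensorIso_natural [F.IsQuasicoherent] [Finite ι]
    (haff : ∀ (n : ℕ) (a : Fin (n + 1) → ι), IsAffineOpen (⨅ k, U (a k))) {M M' : ModuleCat.{u} A}
    (φ : M ⟶ M') :
    (NatTrans.mapHomologicalComplex ((MonoidalCategory.tensoringRight (ModuleCat.{u} A)).map φ)
        (ComplexShape.up ℕ)).app (cx f U F) ≫ (tensorIso f F U haff M').hom =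
      (tensorIso f F U haff M).hom ≫ cxMap f U ((TF f F).map φ) := by
  refine HomologicalComplex.hom_ext _ _ fun n => ConcreteCategory.hom_ext _ _ fun z => ?_
  show theta f F U M' n (φ.hom.lTensor (cxX f U F n) z) =
    fun a => appA f ((TF f F).map φ) (W U a) (theta f F U M n z a)
  funext a
  rw [theta_apply, theta_apply, secT_map]
  refine congrArg (secT f F M' (W U a)) ?_
  exact (LinearMap.congr_fun (LinearMap.rTensor_comp_lTensor _ _ _) z).trans
    (LinearMap.congr_fun (LinearMap.lTensor_comp_rTensor _ _ _) z).symm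

end GrothLib.BCCoh
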