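import Groth.Agent.Lib.FlatCx.Ker
import Mathlib.RingTheory.LocalRing.Module
import Mathlib.RingTheory.Spectrum.Prime.FreeLocus
import Mathlib.RingTheory.Localization.BaseChange

/-! # The comparison `T(A) ⊗ B → T(B)` for a complex of flat modules -/

set_option autoImplicit false
set_option linter.style.haveILetI false

universe u

noncomputable section

namespace GrothLib.BCCoh

open CategoryTheory MonoidalCategory TensorProduct

variable {A : Type u} [CommRing A] {ι : Type} {c : ComplexShape ι}
  (P : HomologicalComplex (ModuleCat.{u} A) c) (i : ι)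

/-- `A → M`, `1 ↦ m`. -/
def smulTo (M : ModuleCat.{u} A) (m : M) : ModuleCat.of A A ⟶ M :=
  ModuleCat.ofHom (LinearMap.toSpanSingleton A M m)

/-- The comparison `T(A) ⊗ M → T(M)`. -/
def cmpT (M : ModuleCat.{u} A) : CohIII.T P i (ModuleCat.of A A) ⊗[A] M →ₗ[A] CohIII.T P i M :=
  (FlatCx.TKerEquiv P i M).symm.toLinearMap ∘ₗ FlatCx.kerCmp P i M ∘ₗ
    (FlatCx.TUnitKerEquiv P i).toLinearMap.rTensor M

theorem cmpT_tmul (M : ModuleCat.{u} A) (t : CohIII.T P i (ModuleCat.of A A)) (m : M) :
    cmpT P i M (t ⊗ₜ m) = ((CohIII.TFun P i).map (smulTo M m)).hom t := by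
  apply (FlatCx.TKerEquiv P i M).injective
  apply Subtype.ext
  refine Eq.trans ?_ (FlatCx.TKerEquiv_map P i (smulTo M m) t).symm
  show ((FlatCx.TKerEquiv P i M) ((FlatCx.TKerEquiv P i M).symm
    (FlatCx.kerCmp P i M (FlatCx.TUnitKerEquiv P i t ⊗ₜ m)))).1 = _
  rw [LinearEquiv.apply_symm_apply]
  show (FlatCx.TUnitKerEquiv P i t).1 ⊗ₜ[A] m = _
  have h : (FlatCx.TUnitKerEquiv P i t).1 =
      TensorProduct.rid A (FlatCx.cokIn P i) (FlatCx.TKerEquiv P i (ModuleCat.of A A) t).1 := rfl
  rw [h]
  generalize (FlatCx.TKerEquiv P i (ModuleCat.of A A) t).1 = z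
  induction z using TensorProduct.induction_on with
  | zero => simp
  | tmul x a => simp [smulTo, TensorProduct.smul_tmul]
  | add x y hx hy => simp [map_add, TensorProduct.add_tmul, hx, hy]

theorem bijective_cmpT_iff (M : ModuleCat.{u} A) :
    Function.Bijective (cmpT P i M) ↔ Function.Bijective (FlatCx.kerCmp P i M) := by
  have h : Function.Bijective ((FlatCx.TUnitKerEquiv P i).toLinearMap.rTensor M) :=
    (LinearEquiv.rTensor M (FlatCx.TUnitKerEquiv P i)).bijective
  show Function.Bijective ((FlatCx.TKerEquiv P i M).symm ∘ FlatCx.kerCmp P i M ∘ _) ↔ _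
  rw [Function.Bijective.of_comp_iff' (FlatCx.TKerEquiv P i M).symm.bijective,
    Function.Bijective.of_comp_iff _ h]

theorem surjective_cmpT_iff (M : ModuleCat.{u} A) :
    Function.Surjective (cmpT P i M) ↔ Function.Surjective (FlatCx.kerCmp P i M) := by
  have h : Function.Surjective ((FlatCx.TUnitKerEquiv P i).toLinearMap.rTensor M) :=
    (LinearEquiv.rTensor M (FlatCx.TUnitKerEquiv P i)).surjective
  show Function.Surjective ((FlatCx.TKerEquiv P i M).symm ∘ (FlatCx.kerCmp P i M ∘ _)) ↔ _
  rw [EquivLike.comp_surjective (⇑(FlatCx.kerCmp P i M) ∘ _) (FlatCx.TKerEquiv P i M).symm,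
    Function.Surjective.of_comp_iff _ h]

section transfer

variable {κ : Type} {d : ComplexShape κ} (Q : HomologicalComplex (ModuleCat.{u} A) d) (j : κ)
  (θ : CohIII.TFun P i ≅ CohIII.TFun Q j)

/-- The isomorphism at a module, as a linear equivalence. -/
def thetaE (M : ModuleCat.{u} A) : CohIII.T P i M ≃ₗ[A] CohIII.T Q j M := (θ.app M).toLinearEquiv

theorem cmpT_transfer (M : ModuleCat.{u} A) (z : CohIII.T P i (ModuleCat.of A A) ⊗[A] M) :
    thetaE P i Q j θ M (cmpT P i M z) =
      cmpT Q j M ((thetaE P i Q j θ (ModuleCat.of A A)).rTensor M z) := by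
  induction z using TensorProduct.induction_on with
  | zero => simp
  | add x y hx hy => simp only [map_add, hx, hy]
  | tmul t m =>
    refine (congrArg (thetaE P i Q j θ M) (cmpT_tmul P i M t m)).trans ?_
    refine Eq.trans ?_ (cmpT_tmul Q j M (thetaE P i Q j θ (ModuleCat.of A A) t) m).symm
    exact ConcreteCategory.congr_hom (θ.hom.naturality (smulTo M m)) t

include θ in
theorem surjective_cmpT_transfer (M : ModuleCat.{u} A) :
    Function.Surjective (cmpT P i M) ↔ Function.Surjective (cmpT Q j M) := by
  have h : ⇑(thetaE P i Q j θ M) ∘ ⇑(cmpT P i M) =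
      ⇑(cmpT Q j M) ∘ ⇑((thetaE P i Q j θ (ModuleCat.of A A)).rTensor M) :=
    funext fun x => cmpT_transfer P i Q j θ M x
  rw [← EquivLike.comp_surjective (⇑(cmpT P i M)) (thetaE P i Q j θ M), h,
    Function.Surjective.of_comp_iff _ (LinearEquiv.surjective _)]

include θ in
theorem bijective_cmpT_transfer (M : ModuleCat.{u} A) :
    Function.Bijective (cmpT P i M) ↔ Function.Bijective (cmpT Q j M) := by
  have h : ⇑(thetaE P i Q j θ M) ∘ ⇑(cmpT P i M) =
      ⇑(cmpT Q j M) ∘ ⇑((thetaE P i Q j θ (ModuleCat.of A A)).rTensor M) :=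
    funext fun x => cmpT_transfer P i Q j θ M x
  rw [← Function.Bijective.of_comp_iff' (thetaE P i Q j θ M).bijective (cmpT P i M), h,
    Function.Bijective.of_comp_iff _ (LinearEquiv.bijective _)]

end transfer

/-- Tensoring a short exact sequence whose cokernel becomes flat over `G` with a `G`-module. -/
theorem rTensor_injective_of_flat_tensor (G : Type u) [CommRing G] [Algebra A G] [Module.Flat A G]
    {K X Q : Type u} [AddCommGroup K] [Module A K] [AddCommGroup X] [Module A X] [AddCommGroup Q] [Module A Q]
    {f : K →ₗ[A] X} {g : X →ₗ[A] Q} (hf : Function.Injective f) (hg : Function.Surjective g)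
    (h : Function.Exact f g) (hQ : Module.Flat G (G ⊗[A] Q))
    (M : Type u) [AddCommGroup M] [Module A M] [Module G M] [IsScalarTower A G M] :
    Function.Injective (f.rTensor M) := by
  let fG : G ⊗[A] K →ₗ[G] G ⊗[A] X := f.baseChange G
  let gG : G ⊗[A] X →ₗ[G] G ⊗[A] Q := g.baseChange G
  have hfG : Function.Injective fG := Module.Flat.lTensor_preserves_injective_linearMap f hf
  have hgG : Function.Surjective gG := LinearMap.lTensor_surjective G hg
  have hG : Function.Exact fG gG := lTensor_exact G h hg
  have h1 : Function.Injective (fG.lTensor M) := by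
    rw [LinearMap.lTensor_inj_iff_rTensor_inj]
    exact FlatCx.rTensor_injective_of_flat hfG hgG hG M
  rw [← LinearMap.lTensor_inj_iff_rTensor_inj]
  let eK := TensorProduct.AlgebraTensorModule.cancelBaseChange A G G M K
  let eX := TensorProduct.AlgebraTensorModule.cancelBaseChange A G G M X
  have comm : ∀ z : M ⊗[A] K, f.lTensor M z = eX (fG.lTensor M (eK.symm z)) := fun z => by
    induction z using TensorProduct.induction_on with
    | zero => simp
    | tmul m k => simp [eK, eX, fG]
    | add x y hx hy => simp only [map_add, hx, hy]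
  have : ⇑(f.lTensor M) = ⇑eX ∘ ⇑(fG.lTensor M) ∘ ⇑eK.symm := funext comm
  rw [this]
  exact eX.injective.comp (h1.comp eK.symm.injective)

variable [∀ k, Module.Flat A (P.X k)]

/-- Where the outgoing cokernel becomes flat, the comparison is bijective. -/
theorem bijective_kerCmp_of_flat_tensor (G : Type u) [CommRing G] [Algebra A G] [Module.Flat A G]
    (hQ : Module.Flat G (G ⊗[A] (P.X (c.next i) ⧸ LinearMap.range (P.d i (c.next i)).hom)))
    (M : Type u) [AddCommGroup M] [Module A M] [Module G M] [IsScalarTower A G M] :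
    Function.Bijective (FlatCx.kerCmp P i M) := by
  set δ := FlatCx.dBar P i
  haveI : Module.Flat G (G ⊗[A] P.X (c.next i)) := inferInstance
  haveI hQ' : Module.Flat G (G ⊗[A] (P.X (c.next i) ⧸ LinearMap.range δ)) :=
    haveI := hQ
    Module.Flat.of_linearEquiv (TensorProduct.AlgebraTensorModule.congr (LinearEquiv.refl G G)
      (Submodule.quotEquivOfEq _ _ (FlatCx.range_dBar P i)))
  have hflatR : Module.Flat G (G ⊗[A] LinearMap.range δ) := by
    let f := (LinearMap.range δ).subtype.baseChange G
    let g := (LinearMap.range δ).mkQ.baseChange G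
    have hf : Function.Injective f :=
      Module.Flat.lTensor_preserves_injective_linearMap _ Subtype.val_injective
    have hg : Function.Surjective g := LinearMap.lTensor_surjective G (Submodule.mkQ_surjective _)
    have hfg : Function.Exact f g :=
      lTensor_exact G (LinearMap.exact_subtype_mkQ _) (Submodule.mkQ_surjective _)
    haveI : Module.Flat G ((G ⊗[A] P.X (c.next i)) ⧸ LinearMap.range f) :=
      Module.Flat.of_linearEquiv ((Submodule.quotEquivOfEq _ _ hfg.linearMap_ker_eq.symm).trans
        (g.quotKerEquivOfSurjective hg))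
    haveI : Module.Flat G (LinearMap.range f) := FlatCx.flat_of_flat_quotient _
    exact Module.Flat.of_linearEquiv (LinearEquiv.ofInjective f hf)
  have hex : Function.Exact (LinearMap.ker δ).subtype δ.rangeRestrict :=
    fun x => by simp [Subtype.ext_iff]
  refine ⟨fun a b hab => rTensor_injective_of_flat_tensor G Subtype.val_injective
    δ.surjective_rangeRestrict hex hflatR M (congrArg Subtype.val hab), ?_⟩
  rintro ⟨x, hx⟩
  have hinj := rTensor_injective_of_flat_tensor G (g := (LinearMap.range δ).mkQ)
    (f := (LinearMap.range δ).subtype) Subtype.val_injective (Submodule.mkQ_surjective _)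
    (LinearMap.exact_subtype_mkQ _) hQ' M
  have h0 : δ.rangeRestrict.rTensor M x = 0 := hinj (by
    rw [← LinearMap.rTensor_comp_apply, map_zero]; exact hx)
  obtain ⟨z, rfl⟩ := (rTensor_exact M hex δ.surjective_rangeRestrict x).1 h0
  exact ⟨z, rfl⟩

omit [∀ k, Module.Flat A (P.X k)] in
/-- Surjectivity of the comparison keeps the image of the differential injective. -/
theorem rTensor_range_injective_of_surjective (M : Type u) [AddCommGroup M] [Module A M]
    (h : Function.Surjective (FlatCx.kerCmp P i M)) :
    Function.Injective ((LinearMap.range (FlatCx.dBar P i)).subtype.rTensor M) := by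
  rw [injective_iff_map_eq_zero]
  intro x hx
  obtain ⟨y, rfl⟩ := LinearMap.rTensor_surjective M (FlatCx.dBar P i).surjective_rangeRestrict x
  have hy : (FlatCx.dBar P i).rTensor M y = 0 := by
    rw [← LinearMap.rTensor_comp_apply] at hx
    exact hx
  obtain ⟨z, hz⟩ := h ⟨y, hy⟩
  rw [← show (LinearMap.ker (FlatCx.dBar P i)).subtype.rTensor M z = y from congrArg Subtype.val hz,
    ← LinearMap.rTensor_comp_apply]
  have : (FlatCx.dBar P i).rangeRestrict ∘ₗ (LinearMap.ker (FlatCx.dBar P i)).subtype = 0 :=
    LinearMap.ext fun w => Subtype.ext (LinearMap.mem_ker.1 w.2)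
  rw [this, LinearMap.rTensor_zero, LinearMap.zero_apply]

omit [∀ k, Module.Flat A (P.X k)] in
/-- Surjectivity at a residue field makes the outgoing cokernel free nearby. -/
theorem mem_freeLocus_of_surjective [Module.Finite A (P.X i)] [Module.Free A (P.X (c.next i))]
    [Module.Finite A (P.X (c.next i))] (x : PrimeSpectrum A)
    (h : Function.Surjective (FlatCx.kerCmp P i x.asIdeal.ResidueField)) :
    x ∈ Module.freeLocus A (P.X (c.next i) ⧸ LinearMap.range (P.d i (c.next i)).hom) := by
  set δ := FlatCx.dBar P i
  rw [Module.freeLocus_congr (Submodule.quotEquivOfEq _ _ (FlatCx.range_dBar P i).symm),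
    Module.mem_freeLocus_iff_tensor x (Localization.AtPrime x.asIdeal)]
  let Ap := Localization.AtPrime x.asIdeal
  let κ := x.asIdeal.ResidueField
  haveI : Module.Flat A Ap := IsLocalization.flat Ap x.asIdeal.primeCompl
  haveI : Module.Finite A (LinearMap.range δ) := by
    haveI : Module.Finite A (FlatCx.cokIn P i) := inferInstance
    exact Module.Finite.range δ
  let f := (LinearMap.range δ).subtype.baseChange Ap
  let g := (LinearMap.range δ).mkQ.baseChange Ap
  have hg : Function.Surjective g := LinearMap.lTensor_surjective Ap (Submodule.mkQ_surjective _)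
  have hfg : Function.Exact f g :=
    lTensor_exact Ap (LinearMap.exact_subtype_mkQ _) (Submodule.mkQ_surjective _)
  refine Module.free_of_lTensor_residueField_injective f g hg hfg ?_
  have h1 := rTensor_range_injective_of_surjective P i κ h
  rw [← LinearMap.lTensor_inj_iff_rTensor_inj] at h1
  let eK := TensorProduct.AlgebraTensorModule.cancelBaseChange A Ap Ap κ (LinearMap.range δ)
  let eX := TensorProduct.AlgebraTensorModule.cancelBaseChange A Ap Ap κ (P.X (c.next i))
  have comm : ∀ z, eX (f.lTensor κ z) = (LinearMap.range δ).subtype.lTensor κ (eK z) := fun z => by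
    induction z using TensorProduct.induction_on with
    | zero => simp
    | add p q hp hq => simp only [map_add, hp, hq]
    | tmul k y =>
      induction y using TensorProduct.induction_on with
      | zero => simp
      | add p q hp hq => simp only [TensorProduct.tmul_add, map_add, hp, hq]
      | tmul a r => simp [eK, eX, f]
  refine Function.Injective.of_comp (f := eX) ?_
  rw [show ⇑eX ∘ ⇑(f.lTensor κ) = ⇑((LinearMap.range δ).subtype.lTensor κ) ∘ ⇑eK from funext comm]
  exact h1.comp eK.injective

omit [∀ k, Module.Flat A (P.X k)] in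
/-- Inside the free locus, some principal localisation of a finitely presented module is flat. -/
theorem exists_flat_away (M : Type u) [AddCommGroup M] [Module A M] [Module.FinitePresentation A M]
    (x : PrimeSpectrum A) (hx : x ∈ Module.freeLocus A M) :
    ∃ g : A, g ∉ x.asIdeal ∧ Module.Flat (Localization.Away g) (Localization.Away g ⊗[A] M) := by
  obtain ⟨_, ⟨g, rfl⟩, hg, hsub⟩ :=
    PrimeSpectrum.isTopologicalBasis_basic_opens.exists_subset_of_mem_open hx Module.isOpen_freeLocus
  refine ⟨g, hg, ?_⟩
  haveI := Module.basicOpen_subset_freeLocus_iff.1 hsub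
  exact Module.Flat.of_linearEquiv (LocalizedModule.equivTensorProduct (Submonoid.powers g) M).symm

/-- **Base change near a point from surjectivity at the point.** -/
theorem exists_away_bijective (hP : ∀ k, Module.Finite A (P.X k) ∧ Module.Free A (P.X k)) (x : PrimeSpectrum A)
    (h : Function.Surjective (cmpT P i (ModuleCat.of A x.asIdeal.ResidueField))) :
    ∃ g : A, g ∉ x.asIdeal ∧ ∀ (B : Type u) [CommRing B] [Algebra A B], IsUnit (algebraMap A B g) →
      Function.Bijective (cmpT P i (ModuleCat.of A B)) := by
  haveI : ∀ k, Module.Finite A (P.X k) := fun k => (hP k).1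
  haveI : ∀ k, Module.Free A (P.X k) := fun k => (hP k).2
  haveI : Module.FinitePresentation A (P.X (c.next i) ⧸ LinearMap.range (P.d i (c.next i)).hom) :=
    haveI := Module.finitePresentation_of_projective A (P.X (c.next i))
    Module.finitePresentation_of_surjective _ (Submodule.mkQ_surjective _)
      (by rw [Submodule.ker_mkQ, LinearMap.range_eq_map]; exact (Module.Finite.fg_top).map _)
  obtain ⟨g, hg, hflat⟩ := exists_flat_away _ x
    (mem_freeLocus_of_surjective P i x ((surjective_cmpT_iff P i (ModuleCat.of A x.asIdeal.ResidueField)).1 h))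
  refine ⟨g, hg, fun B _ _ hB => ?_⟩
  letI : Algebra (Localization.Away g) B := (IsLocalization.Away.lift g hB).toAlgebra
  haveI : IsScalarTower A (Localization.Away g) B :=
    IsScalarTower.of_algebraMap_eq fun a => (IsLocalization.Away.lift_eq g hB a).symm
  haveI : Module.Flat A (Localization.Away g) := IsLocalization.flat _ (Submonoid.powers g)
  exact (bijective_cmpT_iff P i (ModuleCat.of A B)).2 (bijective_kerCmp_of_flat_tensor P i (Localization.Away g) hflat B)

end GrothLib.BCCoh
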