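import Groth.Agent.Lib.BCCoh.HenselGlue
import Groth.Agent.Lib.BCCoh.Grauert2
import Groth.Agent.Lib.BCCoh.GlobalSec
import Groth.Agent.Lib.FlatCx.Local
import Mathlib.RingTheory.Filtration

/-! # Cohomological flatness in degree zero from etale functions on the closed fibre -/

set_option autoImplicit false
set_option linter.style.haveILetI false
set_option maxHeartbeats 1000000
universe u

open CategoryTheory CategoryTheory.Limits AlgebraicGeometry Opposite TopologicalSpace TensorProduct IsLocalRing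

namespace GrothLib.BCCoh

/-- Epimorphism to the residue field from all infinitesimal levels (Artin-Rees). -/
theorem surjective_resMap_of_forall_pow {A : Type u} [CommRing A] [IsLocalRing A] [IsNoetherianRing A]
    {ι : Type} {c : ComplexShape ι} (P : HomologicalComplex (ModuleCat.{u} A) c) (i : ι)
    [Module.Finite A (P.X (c.next i))]
    (h : ∀ n : ℕ, ∀ φ : ModuleCat.of A (A ⧸ maximalIdeal A ^ (n + 1)) ⟶ ModuleCat.of A (ResidueField A),
      φ (Submodule.Quotient.mk 1) = 1 → Function.Surjective ((CohIII.TFun P i).map φ).hom) :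
    Function.Surjective ((CohIII.TFun P i).map (FlatCx.resMap (A := A))).hom := by
  intro y
  set m := maximalIdeal A
  let δ := FlatCx.dBar P i
  obtain ⟨k, hk⟩ := Ideal.exists_pow_inf_eq_pow_smul m (LinearMap.range δ)
  have hle : m ^ (k + 1) ≤ m := Ideal.pow_le_self (Nat.succ_ne_zero k)
  let φ : ModuleCat.of A (A ⧸ m ^ (k + 1)) ⟶ ModuleCat.of A (ResidueField A) :=
    ModuleCat.ofHom (Submodule.liftQ (m ^ (k + 1)) (Algebra.linearMap A (ResidueField A))
      fun a ha => (residue_eq_zero_iff a).2 (hle ha))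
  obtain ⟨y', rfl⟩ := h k φ (map_one (residue A)) y
  let z' := FlatCx.TKerEquiv P i _ y'
  obtain ⟨x, hx⟩ : ∃ x : FlatCx.cokIn P i,
      x ⊗ₜ[A] (Submodule.Quotient.mk 1 : A ⧸ m ^ (k + 1)) = z'.1 := by
    obtain ⟨w, hw⟩ := Submodule.Quotient.mk_surjective _
      (TensorProduct.tensorQuotEquivQuotSMul (FlatCx.cokIn P i) (m ^ (k + 1)) z'.1)
    refine ⟨w, (TensorProduct.tensorQuotEquivQuotSMul (FlatCx.cokIn P i) (m ^ (k + 1))).injective ?_⟩
    rw [← hw]
    erw [TensorProduct.tensorQuotEquivQuotSMul_tmul_mk, one_smul]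
  have hδx : δ x ∈ m ^ (k + 1) • (⊤ : Submodule A (P.X (c.next i))) := by
    have h1 : δ x ⊗ₜ[A] (Submodule.Quotient.mk 1 : A ⧸ m ^ (k + 1)) = 0 := by
      have h2 : δ.rTensor _ z'.1 = 0 := z'.2
      rwa [← hx, LinearMap.rTensor_tmul] at h2
    have h3 := congrArg (TensorProduct.tensorQuotEquivQuotSMul (P.X (c.next i)) (m ^ (k + 1))) h1
    erw [map_zero, TensorProduct.tensorQuotEquivQuotSMul_tmul_mk, one_smul] at h3
    exact (Submodule.Quotient.mk_eq_zero _).1 h3
  obtain ⟨w, hw, hwx⟩ : ∃ w ∈ m • (⊤ : Submodule A (FlatCx.cokIn P i)), δ w = δ x := by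
    have h1 : δ x ∈ m ^ (k + 1) • (⊤ : Submodule A (P.X (c.next i))) ⊓ LinearMap.range δ :=
      ⟨hδx, LinearMap.mem_range_self δ x⟩
    rw [hk (k + 1) (Nat.le_succ k), show k + 1 - k = 1 by omega, pow_one] at h1
    have h2 : δ x ∈ (m • (⊤ : Submodule A (FlatCx.cokIn P i))).map δ := by
      rw [Submodule.map_smul'', Submodule.map_top]
      exact Submodule.smul_mono le_rfl inf_le_right h1
    exact h2
  refine ⟨(FlatCx.TKerEquiv P i _).symm ⟨(x - w) ⊗ₜ[A] (1 : A), LinearMap.mem_ker.2 ?_⟩,
    (FlatCx.TKerEquiv P i (ModuleCat.of A (ResidueField A))).injective (Subtype.ext ?_)⟩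
  · rw [LinearMap.rTensor_tmul, map_sub, hwx, sub_self, TensorProduct.zero_tmul]
  · rw [FlatCx.TKerEquiv_map, FlatCx.TKerEquiv_map, LinearEquiv.apply_symm_apply]
    show (x - w) ⊗ₜ[A] (algebraMap A (ResidueField A) 1) = φ.hom.lTensor _ z'.1
    rw [← hx, LinearMap.lTensor_tmul, TensorProduct.sub_tmul]
    have hw0 : w ⊗ₜ[A] (algebraMap A (ResidueField A) 1) = 0 := by
      refine Submodule.smul_induction_on hw (fun a ha u _ => ?_) fun u v hu hv => by
        rw [TensorProduct.add_tmul, hu, hv, add_zero]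
      rw [TensorProduct.smul_tmul, Algebra.smul_def, ← map_mul, mul_one]
      rw [show algebraMap A (ResidueField A) a = 0 from (residue_eq_zero_iff a).2 ha, TensorProduct.tmul_zero]
    rw [hw0, sub_zero]
    rfl

/-- Over a Noetherian local base, degree zero cohomology of `O` commutes with base change when the closed
fibre has etale functions. -/
theorem Model.preservesEpi_zero_of_etale {A : Type u} [CommRing A] [IsLocalRing A] [IsNoetherianRing A]
    {X : Scheme.{u}} [X.Over (Spec (CommRingCat.of A))] [IsProper (X ↘ Spec (CommRingCat.of A))]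
    (hO : (Coh.structureModule X).IsQuasicoherent)
    (m : Model (X ↘ Spec (CommRingCat.of A)) (Coh.structureModule X))
    {κ : Type u} [Field κ] (ψ : A →+* κ) (hψ : Function.Surjective ψ)
    {X' : Scheme.{u}} (f' : X' ⟶ Spec (CommRingCat.of κ)) (g : X' ⟶ X)
    (H : IsPullback g f' (X ↘ Spec (CommRingCat.of A)) (Spec.map (CommRingCat.ofHom ψ)))
    (het : letI : Algebra κ Γ(X', ⊤) := (psiS f' ⊤).toAlgebra; Algebra.Etale κ Γ(X', ⊤)) :
    (CohIII.TFun m.L ((0 : ℕ) : ℤ)).PreservesEpimorphisms := by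
  haveI := hO
  let f := X ↘ Spec (CommRingCat.of A)
  haveI : IsLocallyNoetherian X := LocallyOfFiniteType.isLocallyNoetherian f
  haveI : X.IsSeparated := ⟨by rw [← terminal.comp_from f]; infer_instance⟩
  haveI := m.flatL
  haveI := fun i => (m.finFree i).1
  rw [FlatCx.preservesEpi_iff_surjective_resMap]
  refine surjective_resMap_of_forall_pow m.L _ fun n φ hφ => ?_
  obtain ⟨e, -, hnat⟩ := m.exists_equiv 0
  have hker : RingHom.ker ψ = maximalIdeal A :=
    IsLocalRing.eq_maximalIdeal (RingHom.ker_isMaximal_of_surjective ψ hψ)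
  have hs := surjective_app_top (A := A) hO (maximalIdeal A) n
    (φ : ModuleCat.of A (A ⧸ maximalIdeal A ^ (n + 1)) ⟶ ModuleCat.of A (A ⧸ maximalIdeal A)) hφ
    fun r hr => by
      rw [← hker] at hr ⊢
      exact exists_equation_of_closed_fibre ψ hψ f' g H het r hr
  intro y
  let T : ModuleCat.{u} A ⥤ X.Modules := TF f (Coh.structureModule X)
  let Eq0 := fun (G : X.Modules) =>
    (show Coh.HH X G 0 ≃+ Γ(G, ⊤) from Sheaf.H.equiv₀ (Coh.toAb G) (T := (⊤ : X.Opens)) isTerminalTop)
  obtain ⟨s, hs'⟩ := hs (Eq0 _ (e _ y))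
  refine ⟨(e _).symm ((Eq0 _).symm s), (e _).injective ((Eq0 _).injective ?_)⟩
  rw [hnat φ, AddEquiv.apply_symm_apply]
  refine Eq.trans ?_ hs'
  exact (Sheaf.H.equiv₀_naturality isTerminalTop ((SheafOfModules.toSheaf X.ringCatSheaf).map
    ((TF f (Coh.structureModule X)).map φ)) ((Eq0 _).symm s)).symm.trans
      (congrArg (((TF f (Coh.structureModule X)).map φ).app ⊤) ((Eq0 _).apply_symm_apply s))

/-- A point closed in an affine scheme: its residue field is a quotient of the ring. -/
theorem exists_residue_hom {A : Type u} [CommRing A] (y : Spec (CommRingCat.of A)) (hy : y.asIdeal.IsMaximal) :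
    ∃ ψ : CommRingCat.of A ⟶ (Spec (CommRingCat.of A)).residueField y, Function.Surjective ψ.hom ∧
      Spec.map ψ = (Spec (CommRingCat.of A)).fromSpecResidueField y := by
  refine ⟨Spec.preimage ((Spec (CommRingCat.of A)).fromSpecResidueField y), ?_, Spec.map_preimage _⟩
  haveI : IsClosedImmersion ((Spec (CommRingCat.of A)).fromSpecResidueField y) :=
    IsClosedImmersion.of_isPreimmersion _ (by
      rw [Scheme.range_fromSpecResidueField]
      exact (PrimeSpectrum.isClosed_singleton_iff_isMaximal y).2 hy)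
  set ψ := Spec.preimage ((Spec (CommRingCat.of A)).fromSpecResidueField y)
  haveI : IsClosedImmersion (Spec.map ψ) := by rw [Spec.map_preimage]; infer_instance
  have h := (IsClosedImmersion.isAffine_surjective_of_isAffine (Spec.map ψ)).2
  intro b
  obtain ⟨a, ha⟩ := h ((Scheme.ΓSpecIso _).inv b)
  refine ⟨(Scheme.ΓSpecIso (CommRingCat.of A)).hom a, ?_⟩
  have hn := ConcreteCategory.congr_hom (Scheme.ΓSpecIso_naturality ψ) a
  refine hn.symm.trans ?_
  show (Scheme.ΓSpecIso _).hom ((Spec.map ψ).appTop a) = b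
  rw [ha]
  exact (Scheme.ΓSpecIso _).commRingCatIsoToRingEquiv.apply_symm_apply b

end GrothLib.BCCoh
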