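import Groth.Agent.Lib.FlatCx.Coker
import Groth.Agent.Lib.FlatCx.Semi
import Groth.Agent.Lib.FlatCx.Ker
import Mathlib.CategoryTheory.Linear.Yoneda
import Mathlib.LinearAlgebra.Contraction
import Mathlib.LinearAlgebra.Dual.Lemmas

/-! # Left exact `T_i` are corepresented by finite modules -/

set_option autoImplicit false
set_option linter.style.haveILetI false
universe u

open CategoryTheory TensorProduct Opposite

namespace GrothLib.BCCoh

variable {A : Type u} [CommRing A]

section Phi

variable (P : Type u) [AddCommGroup P] [Module A P]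

/-- `x ⊗ m ↦ (φ ↦ φ x • m)`. -/
noncomputable def evHom (M : Type u) [AddCommGroup M] [Module A M] :
    P ⊗[A] M →ₗ[A] (Module.Dual A P →ₗ[A] M) :=
  dualTensorHom A (Module.Dual A P) M ∘ₗ (Module.Dual.eval A P).rTensor M

theorem evHom_tmul (M : Type u) [AddCommGroup M] [Module A M] (x : P) (m : M) (φ : Module.Dual A P) :
    evHom P M (x ⊗ₜ[A] m) φ = φ x • m := rfl

theorem bijective_evHom [Module.Finite A P] [Module.Projective A P] (M : Type u) [AddCommGroup M]
    [Module A M] : Function.Bijective (evHom (A := A) P M) := by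
  obtain ⟨n, f, g, hf, -, hfg⟩ := Module.Finite.exists_comp_eq_id_of_projective A P
  let b := (Pi.basisFun A (Fin n))
  have hfree : Function.Bijective (evHom (A := A) (Fin n → A) M) := by
    have h2 : Function.Bijective ((Module.Dual.eval A (Fin n → A)).rTensor M) :=
      (LinearEquiv.rTensor M (Module.evalEquiv A (Fin n → A))).bijective
    have h1 : Function.Bijective (dualTensorHom A (Module.Dual A (Fin n → A)) M) :=
      (dualTensorHomEquivOfBasis (N := M) b.dualBasis).bijective
    exact h1.comp h2
  have nat : ∀ {P' Q' : Type u} [AddCommGroup P'] [Module A P'] [AddCommGroup Q'] [Module A Q']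
      (h : P' →ₗ[A] Q') (z : P' ⊗[A] M),
      evHom Q' M (h.rTensor M z) = evHom P' M z ∘ₗ h.dualMap := fun h z => by
    induction z using TensorProduct.induction_on with
    | zero => simp
    | tmul x m => rfl
    | add z w hz hw => simp only [map_add, hz, hw, LinearMap.add_comp]
  constructor
  · rw [injective_iff_map_eq_zero]
    intro z hz
    have h1 : g.rTensor M z = 0 := hfree.1 (by rw [nat g z, hz, map_zero, LinearMap.zero_comp])
    rw [show z = (f ∘ₗ g).rTensor M z by rw [hfg, LinearMap.rTensor_id]; rfl,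
      LinearMap.rTensor_comp_apply, h1, map_zero]
  · intro h
    obtain ⟨z, hz⟩ := hfree.2 (h ∘ₗ g.dualMap)
    refine ⟨f.rTensor M z, ?_⟩
    rw [nat f z, hz, LinearMap.comp_assoc, LinearMap.dualMap_comp_dualMap, hfg, LinearMap.dualMap_id,
      LinearMap.comp_id]

theorem evHom_lTensor {M N : Type u} [AddCommGroup M] [Module A M] [AddCommGroup N] [Module A N]
    (g : M →ₗ[A] N) (z : P ⊗[A] M) : evHom P N (g.lTensor P z) = g ∘ₗ evHom P M z := by
  induction z using TensorProduct.induction_on with
  | zero => simp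
  | tmul x m => exact LinearMap.ext fun φ => (g.map_smul (φ x) m).symm
  | add z w hz hw => simp only [map_add, hz, hw, LinearMap.comp_add]

theorem evHom_rTensor {Q : Type u} [AddCommGroup Q] [Module A Q] {M : Type u} [AddCommGroup M]
    [Module A M] (h : P →ₗ[A] Q) (z : P ⊗[A] M) :
    evHom Q M (h.rTensor M z) = evHom P M z ∘ₗ h.dualMap := by
  induction z using TensorProduct.induction_on with
  | zero => simp
  | tmul x m => rfl
  | add z w hz hw => simp only [map_add, hz, hw, LinearMap.add_comp]

end Phi

variable [IsNoetherianRing A] {ι : Type} {c : ComplexShape ι}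
  (P : HomologicalComplex (ModuleCat.{u} A) c)

/-- A left exact `T_i` of a complex of finite flat modules is corepresented by a finite module. -/
theorem exists_corep [∀ i, Module.Finite A (P.X i)] [∀ i, Module.Flat A (P.X i)] (i : ι)
    (h : (CohIII.TFun P i).PreservesMonomorphisms) :
    ∃ Q : ModuleCat.{u} A, Module.Finite A Q ∧
      Nonempty (CohIII.TFun P i ≅ (linearCoyoneda A (ModuleCat.{u} A)).obj (op Q)) := by
  let C := FlatCx.cokIn P i
  haveI : Module.Flat A C := (FlatCx.preservesMono_iff P i).1 h
  haveI : Module.Finite A C := Module.Finite.quotient A _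
  haveI : Module.Projective A C := FlatCx.projective_of_finite_flat C
  let E := P.X (c.next i)
  haveI : Module.Projective A E := FlatCx.projective_of_finite_flat E
  let δ : C →ₗ[A] E := FlatCx.dBar P i
  let Q : Type u := Module.Dual A C ⧸ LinearMap.range δ.dualMap
  haveI : Module.Finite A Q := Module.Finite.quotient A _
  let toQ : ∀ M : ModuleCat.{u} A, LinearMap.ker (δ.rTensor M) →ₗ[A] (Q →ₗ[A] M) := fun M =>
    { toFun := fun z => (LinearMap.range δ.dualMap).liftQ (evHom C M z.1) (by
        rintro _ ⟨ψ, rfl⟩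
        have h1 := LinearMap.congr_fun (evHom_rTensor C δ z.1) ψ
        rw [LinearMap.mem_ker.1 z.2, map_zero] at h1
        exact h1.symm)
      map_add' := fun z w => Submodule.linearMap_qext _ (LinearMap.ext fun φ =>
        LinearMap.congr_fun (map_add (evHom C M) z.1 w.1) φ)
      map_smul' := fun a z => Submodule.linearMap_qext _ (LinearMap.ext fun φ =>
        LinearMap.congr_fun (map_smul (evHom C M) a z.1) φ) }
  have hbij : ∀ M : ModuleCat.{u} A, Function.Bijective (toQ M) := fun M => by
    constructor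
    · intro z w hzw
      refine Subtype.ext ((bijective_evHom C M).1 (LinearMap.ext fun φ => ?_))
      exact LinearMap.congr_fun hzw (Submodule.Quotient.mk φ)
    · intro k
      obtain ⟨z, hz⟩ := (bijective_evHom C M).2 (k ∘ₗ (LinearMap.range δ.dualMap).mkQ)
      refine ⟨⟨z, LinearMap.mem_ker.2 ((bijective_evHom E M).1 ?_)⟩,
        Submodule.linearMap_qext _ hz⟩
      rw [evHom_rTensor, hz, map_zero]
      refine LinearMap.ext fun ψ => ?_
      show k (Submodule.Quotient.mk (δ.dualMap ψ)) = 0
      rw [(Submodule.Quotient.mk_eq_zero _).2 (LinearMap.mem_range_self _ ψ), map_zero]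
  let e : ∀ M : ModuleCat.{u} A, (CohIII.TFun P i).obj M ≅ ModuleCat.of A (ModuleCat.of A Q ⟶ M) := fun M =>
    (FlatCx.TKerEquiv P i M ≪≫ₗ LinearEquiv.ofBijective (toQ M) (hbij M) ≪≫ₗ
      (ModuleCat.homLinearEquiv (M := ModuleCat.of A Q) (N := M) (S := A)).symm).toModuleIso
  refine ⟨ModuleCat.of A Q, inferInstance, ⟨NatIso.ofComponents e fun {M N} g => ?_⟩⟩
  refine ModuleCat.hom_ext (LinearMap.ext fun y => ?_)
  refine ModuleCat.hom_ext (M := ModuleCat.of A Q) (N := N) ?_
  refine Submodule.linearMap_qext (LinearMap.range δ.dualMap) ?_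
  refine LinearMap.ext fun φ => ?_
  show evHom C N (FlatCx.TKerEquiv P i N ((CohIII.TFun P i).map g y) : C ⊗[A] N) φ =
    g.hom (evHom C M (FlatCx.TKerEquiv P i M y : C ⊗[A] M) φ)
  rw [FlatCx.TKerEquiv_map, evHom_lTensor]
  rfl

omit [IsNoetherianRing A] in
/-- Corepresented functors preserve monomorphisms. -/
theorem preservesMono_of_corep {T : ModuleCat.{u} A ⥤ ModuleCat.{u} A} {Q : ModuleCat.{u} A}
    (e : T ≅ (linearCoyoneda A (ModuleCat.{u} A)).obj (op Q)) : T.PreservesMonomorphisms := by
  rw [Functor.preservesMonomorphisms.iso_iff e]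
  refine ⟨fun {M N} g hg => ?_⟩
  rw [ModuleCat.mono_iff_injective]
  exact fun (a : Q ⟶ M) (b : Q ⟶ M) h => (cancel_mono g).1 h

end GrothLib.BCCoh
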