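import Groth.Agent.Lib.BCCoh.BaseModel
import Groth.Agent.Lib.BCCoh.RpushAffine
import Groth.Agent.Lib.Cohom.LinearLES
import Mathlib.AlgebraicGeometry.Fiber

/-! # Fibre cohomology from a model over an affine open of the base -/

set_option autoImplicit false
set_option linter.style.haveILetI false
set_option maxHeartbeats 1000000
universe u

open CategoryTheory CategoryTheory.Limits AlgebraicGeometry Opposite TopologicalSpace

namespace GrothLib.BCCoh

/-- An isomorphism of modules on cohomology, linear over any base. -/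
theorem exists_hh_equiv {B : Type u} [CommRing B] {Z : Scheme.{u}} (h : Z ⟶ Spec (CommRingCat.of B))
    {M N : Z.Modules} (i : M ≅ N) (p : ℕ) :
    ∃ e : Coh.HH Z M p ≃+ Coh.HH Z N p, ∀ (b : B) x,
      letI := modHH h M p; letI := modHH h N p; e (b • x) = b • e x := by
  letI : Z.Over (Spec (CommRingCat.of B)) := ⟨h⟩
  refine ⟨((QCoh.toAbFun Z ⋙ Sheaf.functorH _ p).mapIso i).addCommGroupIsoToAddEquiv, fun b x => ?_⟩
  exact (Cohom.hhMap B i.hom p).map_smul b x

variable {X Y : Scheme.{u}} (f : X ⟶ Y) {V : Y.Opens} (hV : IsAffineOpen V) (F : X.Modules) [F.IsQuasicoherent]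

theorem exists_field_map (y : Y) (hy : y ∈ V) :
    ∃ (ψ : Γ(Y, V) →+* Y.residueField y) (k : f.fiber y ⟶ ((f ⁻¹ᵁ V : X.Opens) : Scheme.{u})),
      k ≫ (f ⁻¹ᵁ V).ι = f.fiberι y ∧
      IsPullback k (f.fiberToSpecResidueField y) (affBase f hV) (Spec.map (CommRingCat.ofHom ψ)) ∧
      RingHom.ker ψ = (hV.primeIdealOf ⟨y, hy⟩).asIdeal := by
  let κ := Y.residueField y
  let q := Y.fromSpecResidueField y
  have hq : ∀ x, q x = y := Scheme.fromSpecResidueField_apply y
  let t : Spec κ ⟶ (V : Scheme.{u}) := IsOpenImmersion.lift V.ι q (by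
    rintro _ ⟨x, rfl⟩
    rw [Scheme.Opens.range_ι, SetLike.mem_coe, hq x]
    exact hy)
  have ht : t ≫ V.ι = q := IsOpenImmersion.lift_fac _ _ _
  let k : f.fiber y ⟶ ((f ⁻¹ᵁ V : X.Opens) : Scheme.{u}) := IsOpenImmersion.lift (f ⁻¹ᵁ V).ι (f.fiberι y) (by
    rintro _ ⟨z, rfl⟩
    rw [Scheme.Opens.range_ι]
    show f (f.fiberι y z) ∈ V
    rw [show f (f.fiberι y z) = q (f.fiberToSpecResidueField y z) from
      congrArg (fun m : f.fiber y ⟶ Y => m z) (f.fiber_fac y), hq]
    exact hy)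
  have hk : k ≫ (f ⁻¹ᵁ V).ι = f.fiberι y := IsOpenImmersion.lift_fac _ _ _
  have hw : k ≫ (f ∣_ V) = f.fiberToSpecResidueField y ≫ t := by
    rw [← cancel_mono V.ι, Category.assoc, Category.assoc, ht, morphismRestrict_ι, ← Category.assoc, hk]
    exact f.fiber_fac y
  have h1 : IsPullback k (f.fiberToSpecResidueField y) (f ∣_ V) t := by
    refine IsPullback.of_right ?_ hw (isPullback_morphismRestrict f V).flip
    rw [hk, ht]
    exact IsPullback.of_hasPullback _ _
  let ψ : CommRingCat.of Γ(Y, V) ⟶ κ := Spec.preimage (t ≫ hV.isoSpec.hom)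
  have hψ : Spec.map ψ = t ≫ hV.isoSpec.hom := Spec.map_preimage _
  refine ⟨ψ.hom, k, hk, ?_, ?_⟩
  · show IsPullback k (f.fiberToSpecResidueField y) (affBase f hV) (Spec.map ψ)
    rw [hψ]
    exact h1.of_iso (Iso.refl _) (Iso.refl _) (Iso.refl _) hV.isoSpec (by simp) (by simp) (by simp) (by simp)
  · let x : Spec κ := IsLocalRing.closedPoint κ
    have h2 : x.asIdeal = ⊥ := (Ideal.eq_bot_or_top x.asIdeal).resolve_right x.isPrime.ne_top
    have h3 : t x = ⟨y, hy⟩ := by
      apply Subtype.ext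
      exact (congrArg (fun m : Spec κ ⟶ Y => m x) ht).trans (hq x)
    have h4 : (Spec.map ψ) x = hV.primeIdealOf ⟨y, hy⟩ := by
      rw [hψ]
      show hV.isoSpec.hom (t x) = _
      rw [h3]
      rfl
    refine Eq.trans ?_ (congrArg PrimeSpectrum.asIdeal h4)
    show Ideal.comap ψ.hom ⊥ = Ideal.comap ψ.hom x.asIdeal
    rw [h2]

/-- **Fibre dimensions of cohomology from a model over an affine open.** -/
theorem Model.fiberRank_affine (m : Model (affBase f hV) (F.restrict (f ⁻¹ᵁ V).ι)) (p : ℕ) (y : Y) (hy : y ∈ V) :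
    CohIII.fiberRank f F p y = CohIII.dRank m.L (p : ℤ) (hV.primeIdealOf ⟨y, hy⟩) := by
  obtain ⟨ψ, k, hk, H, hker⟩ := exists_field_map f hV y hy
  let κ := Y.residueField y
  have hF : (F.restrict (f ⁻¹ᵁ V).ι).IsQuasicoherent := inferInstance
  obtain ⟨e, he⟩ := m.exists_bcEquiv ψ (f.fiberToSpecResidueField y) k H hF p
  let i : (Scheme.Modules.pullback k).obj (F.restrict (f ⁻¹ᵁ V).ι) ≅
      (Scheme.Modules.pullback (f.fiberι y)).obj F :=
    (Scheme.Modules.pullback k).mapIso ((Scheme.Modules.restrictFunctorIsoPullback (f ⁻¹ᵁ V).ι).app F) ≪≫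
      (Scheme.Modules.pullbackComp k (f ⁻¹ᵁ V).ι).app F ≪≫ (Scheme.Modules.pullbackCongr hk).app F
  obtain ⟨ei, hei⟩ := exists_hh_equiv (B := κ) (f.fiberToSpecResidueField y) i p
  letI : Module κ (Coh.HH (f.fiber y) ((Scheme.Modules.pullback (f.fiberι y)).obj F) p) :=
    modHH (A := κ) (f.fiberToSpecResidueField y) _ p
  letI : Module κ (Coh.HH (f.fiber y) ((Scheme.Modules.pullback k).obj (F.restrict (f ⁻¹ᵁ V).ι)) p) :=
    modHH (A := κ) (f.fiberToSpecResidueField y) _ p
  have hfr : Module.finrank κ ((CohIII.bcCx ψ m.L).homology (p : ℤ)) = CohIII.fiberRank f F p y :=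
    ((e.trans ei).toLinearEquiv fun b x => (congrArg ei (he b x)).trans (hei b (e x))).finrank_eq
  let P := hV.primeIdealOf ⟨y, hy⟩
  let g : P.asIdeal.ResidueField →+* κ := Ideal.ResidueField.lift P.asIdeal ψ hker.ge
    (fun a ha => isUnit_iff_ne_zero.2 fun h0 => ha (hker.le h0))
  have hg : g.comp (algebraMap Γ(Y, V) P.asIdeal.ResidueField) = ψ :=
    RingHom.ext fun a => Ideal.ResidueField.lift_algebraMap P.asIdeal ψ hker.ge
      (fun a ha => isUnit_iff_ne_zero.2 fun h0 => ha (hker.le h0)) a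
  rw [← hfr, ← hg]
  exact FlatCx.finrank_homology_bcCx_field _ g m.L p

end GrothLib.BCCoh
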