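import Groth.Agent.Lib.BCCoh.ElemHom
import Groth.Agent.Lib.BCCoh.BaseChange
import Mathlib.Dynamics.Newton
import Mathlib.RingTheory.Etale.Field
import Mathlib.FieldTheory.Separable
import Mathlib.Topology.Sheaves.SheafCondition.UniqueGluing

/-! # Lifting functions which satisfy a separable equation on a closed fibre -/

set_option autoImplicit false
set_option linter.style.haveILetI false
set_option maxHeartbeats 800000
universe u

open CategoryTheory CategoryTheory.Limits AlgebraicGeometry Opposite TopologicalSpace TensorProduct Polynomial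

namespace GrothLib.BCCoh

section algebra

variable {B : Type u} [CommRing B] (J : Ideal B) (F : B[X]) (n : ℕ)

theorem isNilpotent_mk_pow {b : B} (hb : b ∈ J) : IsNilpotent (Ideal.Quotient.mk (J ^ n) b) :=
  ⟨n, by rw [← map_pow]; exact Ideal.Quotient.eq_zero_iff_mem.2 (Ideal.pow_mem_pow hb n)⟩

theorem existsUnique_root_mk {r h : B} (hr : F.eval r ∈ J) (hu : h * (derivative F).eval r - 1 ∈ J) :
    ∃! x : B ⧸ J ^ n, IsNilpotent (Ideal.Quotient.mk (J ^ n) r - x) ∧
      aeval x (F.map (Ideal.Quotient.mk (J ^ n))) = 0 := by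
  set π := Ideal.Quotient.mk (J ^ n)
  refine existsUnique_nilpotent_sub_and_aeval_eq_zero ?_ ?_
  · rw [coe_aeval_eq_eval, Polynomial.eval_map, eval₂_at_apply]
    exact isNilpotent_mk_pow J n hr
  · rw [coe_aeval_eq_eval, derivative_map, Polynomial.eval_map, eval₂_at_apply]
    have h1 : IsUnit (π (h * (derivative F).eval r)) := by
      have := (isNilpotent_mk_pow J n hu).isUnit_add_one
      rwa [map_sub, map_one, sub_add_cancel] at this
    rw [map_mul] at h1
    exact isUnit_of_mul_isUnit_right h1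

/-- Roots near `r` modulo `J^n` are unique. -/
theorem root_unique {r h x y : B} (hr : F.eval r ∈ J) (hu : h * (derivative F).eval r - 1 ∈ J)
    (hx : x - r ∈ J) (hy : y - r ∈ J) (hFx : F.eval x ∈ J ^ n) (hFy : F.eval y ∈ J ^ n) :
    x - y ∈ J ^ n := by
  rw [← Ideal.Quotient.eq_zero_iff_mem, map_sub, sub_eq_zero]
  have key : ∀ z : B, z - r ∈ J → F.eval z ∈ J ^ n →
      IsNilpotent (Ideal.Quotient.mk (J ^ n) r - Ideal.Quotient.mk (J ^ n) z) ∧
        aeval (Ideal.Quotient.mk (J ^ n) z) (F.map (Ideal.Quotient.mk (J ^ n))) = 0 := fun z hz hFz => by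
    refine ⟨?_, ?_⟩
    · rw [← map_sub, ← neg_sub, map_neg, isNilpotent_neg_iff]
      exact isNilpotent_mk_pow J n hz
    · rw [coe_aeval_eq_eval, Polynomial.eval_map, eval₂_at_apply]
      exact Ideal.Quotient.eq_zero_iff_mem.2 hFz
  exact (existsUnique_root_mk J F n hr hu).unique (key x hx hFx) (key y hy hFy)

/-- A simple root modulo `J` lifts modulo `J^n`. -/
theorem exists_root {r h : B} (hn : 1 ≤ n) (hr : F.eval r ∈ J) (hu : h * (derivative F).eval r - 1 ∈ J) :
    ∃ x, x - r ∈ J ∧ F.eval x ∈ J ^ n := by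
  obtain ⟨xb, ⟨hnil, hroot⟩, -⟩ := existsUnique_root_mk J F n hr hu
  obtain ⟨x, rfl⟩ := Ideal.Quotient.mk_surjective xb
  rw [coe_aeval_eq_eval, Polynomial.eval_map, eval₂_at_apply, Ideal.Quotient.eq_zero_iff_mem] at hroot
  refine ⟨x, ?_, hroot⟩
  have hle : J ^ n ≤ J ^ 1 := Ideal.pow_le_pow_right hn
  have h1 := hnil.map (Ideal.Quotient.factor hle)
  rw [map_sub, Ideal.Quotient.factor_mk, Ideal.Quotient.factor_mk] at h1
  have h2 : aeval (Ideal.Quotient.mk (J ^ 1) x) (F.map (Ideal.Quotient.mk (J ^ 1))) = 0 := by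
    rw [coe_aeval_eq_eval, Polynomial.eval_map, eval₂_at_apply]
    exact Ideal.Quotient.eq_zero_iff_mem.2 (hle hroot)
  have h3 : aeval (Ideal.Quotient.mk (J ^ 1) r) (F.map (Ideal.Quotient.mk (J ^ 1))) = 0 := by
    rw [coe_aeval_eq_eval, Polynomial.eval_map, eval₂_at_apply]
    exact Ideal.Quotient.eq_zero_iff_mem.2 (by rwa [pow_one])
  have e := (existsUnique_root_mk J F 1 hr hu).unique ⟨h1, h2⟩ ⟨by simp, h3⟩
  rwa [Ideal.Quotient.eq, pow_one] at e

end algebra

/-- Elements of etale algebras over fields satisfy separable equations. -/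
theorem exists_separable_aeval_eq_zero {k R : Type u} [Field k] [CommRing R] [Algebra k R]
    [Algebra.Etale k R] (b : R) : ∃ g : k[X], g.Separable ∧ aeval b g = 0 := by
  classical
  obtain ⟨I, hI, Ai, fld, alg, e, hA⟩ := (Algebra.Etale.iff_exists_algEquiv_prod k R).1 ‹Algebra.Etale k R›
  haveI := Fintype.ofFinite I
  haveI : ∀ i, Algebra.IsSeparable k (Ai i) := fun i => (hA i).2
  let s : Finset k[X] := Finset.univ.image fun i => minpoly k (e b i)
  have hmem : ∀ p ∈ s, p.Monic ∧ Irreducible p ∧ p.Separable := fun p hp => by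
    obtain ⟨i, -, rfl⟩ := Finset.mem_image.1 hp
    have hs : IsSeparable k (e b i) := Algebra.IsSeparable.isSeparable k _
    exact ⟨minpoly.monic hs.isIntegral, minpoly.irreducible hs.isIntegral, hs⟩
  refine ⟨∏ p ∈ s, p, separable_prod' (fun p hp q hq hpq => ?_) (fun p hp => (hmem p hp).2.2), ?_⟩
  · refine ((hmem p hp).2.1.coprime_iff_not_dvd).2 fun hd => hpq ?_
    exact eq_of_monic_of_associated (hmem p hp).1 (hmem q hq).1
      ((hmem p hp).2.1.associated_of_dvd (hmem q hq).2.1 hd)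
  · apply e.injective
    rw [← aeval_algHom_apply, map_zero]
    funext i
    have h1 : Pi.evalAlgHom k Ai i (aeval (e b) (∏ p ∈ s, p)) = aeval (e b i) (∏ p ∈ s, p) :=
      (aeval_algHom_apply (Pi.evalAlgHom k Ai i) (e b) _).symm
    refine Eq.trans h1 ?_
    rw [map_prod]
    exact Finset.prod_eq_zero (Finset.mem_image.2 ⟨i, Finset.mem_univ i, rfl⟩) (minpoly.aeval k _)

variable {A : Type u} [CommRing A] {X : Scheme.{u}}

theorem psi_eq_psiS (f : X ⟶ Spec (CommRingCat.of A)) (V : X.Opens) : psi f V = psiS f V := rfl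

variable [X.Over (Spec (CommRingCat.of A))]

/-- A function, read in `f^*(A/J)~ ⊗ O`. -/
noncomputable def sigma (J : Ideal A) (U : X.Opens) (s : Γ(X, U)) :
    Γ((TF (X ↘ Spec (CommRingCat.of A)) (Coh.structureModule X)).obj (ModuleCat.of A (A ⧸ J)), U) :=
  (elemHom (X ↘ Spec (CommRingCat.of A)) (Coh.structureModule X) (ModuleCat.of A (A ⧸ J))
    (Submodule.Quotient.mk 1)).app U (show Γ(Coh.structureModule X, U) from s)

theorem sigma_add (J : Ideal A) (U : X.Opens) (s t : Γ(X, U)) :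
    sigma J U (s + t) = sigma J U s + sigma J U t :=
  map_add ((elemHom (X ↘ Spec (CommRingCat.of A)) (Coh.structureModule X) (ModuleCat.of A (A ⧸ J))
    (Submodule.Quotient.mk 1)).app U).hom _ _

theorem sigma_sub (J : Ideal A) (U : X.Opens) (s t : Γ(X, U)) :
    sigma J U (s - t) = sigma J U s - sigma J U t :=
  map_sub ((elemHom (X ↘ Spec (CommRingCat.of A)) (Coh.structureModule X) (ModuleCat.of A (A ⧸ J))
    (Submodule.Quotient.mk 1)).app U).hom _ _

theorem sigma_res (J : Ideal A) {U V : X.Opens} (h : V ≤ U) (s : Γ(X, U)) :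
    ((TF (X ↘ Spec (CommRingCat.of A)) (Coh.structureModule X)).obj (ModuleCat.of A (A ⧸ J))).presheaf.map
      (homOfLE h).op (sigma J U s) = sigma J V (X.presheaf.map (homOfLE h).op s) :=
  (ConcreteCategory.congr_hom ((elemHom (X ↘ Spec (CommRingCat.of A)) (Coh.structureModule X)
    (ModuleCat.of A (A ⧸ J)) (Submodule.Quotient.mk 1)).mapPresheaf.naturality (homOfLE h).op)
      (show Γ(Coh.structureModule X, U) from s)).symm

theorem sigma_map {I J : Ideal A} (φ : ModuleCat.of A (A ⧸ J) ⟶ ModuleCat.of A (A ⧸ I))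
    (hφ : φ (Submodule.Quotient.mk 1) = (Submodule.Quotient.mk 1 : A ⧸ I)) (U : X.Opens) (s : Γ(X, U)) :
    ((TF (X ↘ Spec (CommRingCat.of A)) (Coh.structureModule X)).map φ).app U (sigma J U s) = sigma I U s := by
  have h := congrArg (fun t => Scheme.Modules.Hom.app t U)
    (elemHom_comp_map (X ↘ Spec (CommRingCat.of A)) (Coh.structureModule X) φ (Submodule.Quotient.mk 1))
  rw [hφ] at h
  exact ConcreteCategory.congr_hom h (show Γ(Coh.structureModule X, U) from s)

theorem sigma_surjective [IsLocallyNoetherian X] (hO : (Coh.structureModule X).IsQuasicoherent) (J : Ideal A)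
    {U : X.Opens} (hU : IsAffineOpen U) : Function.Surjective (sigma J U) := by
  haveI := hO
  set f := X ↘ Spec (CommRingCat.of A)
  intro w
  let F := Coh.structureModule X
  letI := secModule f F U
  let M := ModuleCat.of A (A ⧸ J)
  obtain ⟨z, hz0⟩ := (bijective_secHom f F M hU).2 w
  suffices h : ∃ s, sigma J U s = secHom f F M U z from h.imp fun s hs => hs.trans hz0
  clear hz0
  refine TensorProduct.induction_on z ⟨0, by rw [map_zero]; exact map_zero _⟩ (fun s m => ?_)
    fun z z' hz hz' => ?_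
  · obtain ⟨a, rfl⟩ := Submodule.Quotient.mk_surjective J m
    refine ⟨(show Γ(X, U) from a • s), ?_⟩
    show (elemHom f F M _).app U (a • s) = _
    rw [elemHom_app, ← secHom_tmul f F M U, TensorProduct.smul_tmul, ← Submodule.Quotient.mk_smul,
      smul_eq_mul, mul_one]
  · obtain ⟨v, hv⟩ := hz
    obtain ⟨v', hv'⟩ := hz'
    exact ⟨v + v', by rw [sigma_add, map_add, hv, hv']⟩

theorem sigma_eq_zero_iff (hO : (Coh.structureModule X).IsQuasicoherent) (J : Ideal A) {U : X.Opens}
    (hU : IsAffineOpen U) (s : Γ(X, U)) :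
    sigma J U s = 0 ↔ s ∈ J.map (psi (X ↘ Spec (CommRingCat.of A)) U) := by
  haveI := hO
  set f := X ↘ Spec (CommRingCat.of A)
  let F := Coh.structureModule X
  letI := secModule f F U
  let M := ModuleCat.of A (A ⧸ J)
  have h0 : sigma J U s = secHom f F M U ((show Γ(F, U) from s) ⊗ₜ[A] (Submodule.Quotient.mk 1 : A ⧸ J)) :=
    (secHom_tmul f F M U _ _).symm
  rw [h0, ← map_zero (secHom f F M U), (bijective_secHom f F M hU).1.eq_iff,
    ← (TensorProduct.tensorQuotEquivQuotSMul Γ(F, U) J).map_eq_zero_iff]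
  erw [TensorProduct.tensorQuotEquivQuotSMul_tmul_mk, one_smul]
  clear h0
  refine (Submodule.Quotient.mk_eq_zero _).trans ⟨fun hs => ?_, fun hs => ?_⟩
  · refine Submodule.smul_induction_on hs (fun a ha t _ => ?_) fun x y hx hy => add_mem hx hy
    exact Ideal.mul_mem_right (show Γ(X, U) from t) _ (Ideal.mem_map_of_mem _ ha)
  · induction hs using Submodule.span_induction with
    | mem z hz =>
      obtain ⟨a, ha, rfl⟩ := hz
      have := Submodule.smul_mem_smul (N := (⊤ : Submodule A Γ(F, U))) ha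
        (Submodule.mem_top : (show Γ(F, U) from (1 : Γ(X, U))) ∈ _)
      convert! this using 1
      exact (mul_one (psi f U a)).symm
    | zero => exact zero_mem _
    | add z w _ _ hz hw => exact add_mem hz hw
    | smul c z _ hz =>
      refine Submodule.smul_induction_on hz (fun a ha t _ => ?_) fun x y hx hy => ?_
      · have := Submodule.smul_mem_smul (N := (⊤ : Submodule A Γ(F, U))) ha
          (Submodule.mem_top : (show Γ(F, U) from c * (show Γ(X, U) from t)) ∈ _)
        convert! this using 1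
        exact mul_left_comm c (psi f U a) _
      · convert! add_mem hx hy using 1
        exact mul_add c _ _

theorem sigma_eq_iff (hO : (Coh.structureModule X).IsQuasicoherent) (J : Ideal A) {U : X.Opens}
    (hU : IsAffineOpen U) (s t : Γ(X, U)) :
    sigma J U s = sigma J U t ↔ s - t ∈ J.map (psi (X ↘ Spec (CommRingCat.of A)) U) := by
  rw [← sigma_eq_zero_iff hO J hU, sigma_sub, sub_eq_zero]

omit [X.Over (Spec (CommRingCat.of A))] in
theorem map_psi_res (I : Ideal A) (f : X ⟶ Spec (CommRingCat.of A)) {U V : X.Opens} (h : V ≤ U) {s : Γ(X, U)}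
    (hs : s ∈ I.map (psi f U)) : X.presheaf.map (homOfLE h).op s ∈ I.map (psi f V) := by
  have h1 := Ideal.mem_map_of_mem (X.presheaf.map (homOfLE h).op).hom hs
  rw [Ideal.map_map] at h1
  rwa [show (X.presheaf.map (homOfLE h).op).hom.comp (psi f U) = psi f V from RingHom.ext (psi_res f h)] at h1

omit [X.Over (Spec (CommRingCat.of A))] in
theorem eval_map_res (f : X ⟶ Spec (CommRingCat.of A)) {U V : X.Opens} (h : V ≤ U) (F : A[X]) (s : Γ(X, U)) :
    X.presheaf.map (homOfLE h).op ((F.map (psi f U)).eval s) =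
      (F.map (psi f V)).eval (X.presheaf.map (homOfLE h).op s) := by
  rw [Polynomial.eval_map, Polynomial.eval_map, ← show (X.presheaf.map (homOfLE h).op).hom.comp (psi f U) = psi f V from
    RingHom.ext (psi_res f h)]
  exact hom_eval₂ F (psi f U) (X.presheaf.map (homOfLE h).op).hom s

/-- **Global functions modulo `I` with separable equations lift modulo `I^(n+1)`.** -/
theorem surjective_app_top [IsLocallyNoetherian X] [X.IsSeparated] (hO : (Coh.structureModule X).IsQuasicoherent)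
    (I : Ideal A) (n : ℕ) (φ : ModuleCat.of A (A ⧸ I ^ (n + 1)) ⟶ ModuleCat.of A (A ⧸ I))
    (hφ : φ (Submodule.Quotient.mk 1) = (Submodule.Quotient.mk 1 : A ⧸ I))
    (hsep : ∀ r : (∀ U : X.affineOpens, Γ(X, U.1)), (∀ (U V W : X.affineOpens) (hU : W.1 ≤ U.1) (hV : W.1 ≤ V.1),
      X.presheaf.map (homOfLE hU).op (r U) - X.presheaf.map (homOfLE hV).op (r V) ∈
        I.map (psi (X ↘ Spec (CommRingCat.of A)) W.1)) →
      ∃ F H : A[X], ∀ U : X.affineOpens,
        (F.map (psi (X ↘ Spec (CommRingCat.of A)) U.1)).eval (r U) ∈ I.map (psi (X ↘ Spec (CommRingCat.of A)) U.1) ∧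
        (H.map (psi (X ↘ Spec (CommRingCat.of A)) U.1)).eval (r U) *
          (derivative (F.map (psi (X ↘ Spec (CommRingCat.of A)) U.1))).eval (r U) - 1 ∈
            I.map (psi (X ↘ Spec (CommRingCat.of A)) U.1)) :
    Function.Surjective (((TF (X ↘ Spec (CommRingCat.of A)) (Coh.structureModule X)).map φ).app ⊤) := by
  set f := X ↘ Spec (CommRingCat.of A)
  set T₁ := (TF f (Coh.structureModule X)).obj (ModuleCat.of A (A ⧸ I))
  set T₂ := (TF f (Coh.structureModule X)).obj (ModuleCat.of A (A ⧸ I ^ (n + 1)))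
  intro t
  choose r hr using fun U : X.affineOpens =>
    sigma_surjective hO I U.2 (T₁.presheaf.map (homOfLE (le_top : U.1 ≤ ⊤)).op t)
  have hcompat : ∀ (U V W : X.affineOpens) (hU : W.1 ≤ U.1) (hV : W.1 ≤ V.1),
      X.presheaf.map (homOfLE hU).op (r U) - X.presheaf.map (homOfLE hV).op (r V) ∈ I.map (psi f W.1) :=
    fun U V W hU hV => by
      rw [← sigma_eq_iff hO I W.2, ← sigma_res I hU, ← sigma_res I hV, hr, hr]
      show (T₁.presheaf.map _ ≫ T₁.presheaf.map _) t = (T₁.presheaf.map _ ≫ T₁.presheaf.map _) t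
      rw [← Functor.map_comp, ← Functor.map_comp]
      rfl
  obtain ⟨F, H, hFH⟩ := hsep r hcompat
  choose ρ hρ using fun U : X.affineOpens =>
    exists_root (I.map (psi f U.1)) (F.map (psi f U.1)) (n + 1) (Nat.le_add_left 1 n) (hFH U).1 (hFH U).2
  have hρc : ∀ (U V W : X.affineOpens) (hU : W.1 ≤ U.1) (hV : W.1 ≤ V.1),
      X.presheaf.map (homOfLE hU).op (ρ U) - X.presheaf.map (homOfLE hV).op (ρ V) ∈
        (I ^ (n + 1)).map (psi f W.1) := fun U V W hU hV => by
    have aux : ∀ (U : X.affineOpens) (hU : W.1 ≤ U.1),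
        X.presheaf.map (homOfLE hU).op (ρ U) - X.presheaf.map (homOfLE hU).op (r U) ∈ I.map (psi f W.1) ∧
        (F.map (psi f W.1)).eval (X.presheaf.map (homOfLE hU).op (ρ U)) ∈ (I.map (psi f W.1)) ^ (n + 1) := by
      intro U hU
      refine ⟨?_, ?_⟩
      · rw [← map_sub]
        exact map_psi_res I f hU (hρ U).1
      · have h2 := (hρ U).2
        rw [← Ideal.map_pow] at h2 ⊢
        rw [← eval_map_res f hU]
        exact map_psi_res _ f hU h2
    obtain ⟨h1, h2⟩ := aux U hU
    obtain ⟨h3, h4⟩ := aux V hV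
    rw [Ideal.map_pow]
    refine root_unique _ (F.map (psi f W.1)) (n + 1) (r := X.presheaf.map (homOfLE hU).op (r U))
      (h := X.presheaf.map (homOfLE hU).op ((H.map (psi f U.1)).eval (r U))) ?_ ?_ h1 ?_ h2 h4
    · rw [← eval_map_res f hU]
      exact map_psi_res I f hU (hFH U).1
    · have h5 := map_psi_res I f hU (hFH U).2
      rw [map_sub, map_mul, map_one, derivative_map, eval_map_res f hU (derivative F)] at h5
      rwa [derivative_map]
    · have h6 := add_mem h3 (neg_mem (hcompat U V W hU hV))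
      convert! h6 using 1
      abel
  let opensU : X.affineOpens → X.Opens := fun U => U.1
  obtain ⟨u, hu, -⟩ := TopCat.Sheaf.existsUnique_gluing' ⟨T₂.presheaf, T₂.isSheaf⟩ opensU ⊤
    (fun U => homOfLE le_top) (iSup_affineOpens_eq_top X).ge (fun U => sigma (I ^ (n + 1)) U.1 (ρ U))
    fun U V => by
      let W : X.affineOpens := ⟨U.1 ⊓ V.1, U.2.inf V.2⟩
      show T₂.presheaf.map (homOfLE (inf_le_left : W.1 ≤ U.1)).op (sigma (I ^ (n + 1)) U.1 (ρ U)) =
        T₂.presheaf.map (homOfLE (inf_le_right : W.1 ≤ V.1)).op (sigma (I ^ (n + 1)) V.1 (ρ V))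
      rw [sigma_res, sigma_res, sigma_eq_iff hO _ W.2]
      exact hρc U V W inf_le_left inf_le_right
  refine ⟨u, ?_⟩
  refine TopCat.Sheaf.eq_of_locally_eq' ⟨T₁.presheaf, T₁.isSheaf⟩ opensU ⊤ (fun U => homOfLE le_top)
    (iSup_affineOpens_eq_top X).ge _ _ fun U => ?_
  show T₁.presheaf.map _ (((TF f (Coh.structureModule X)).map φ).app ⊤ u) = T₁.presheaf.map _ t
  rw [← hr U, ← sigma_map φ hφ U.1 (r U)]
  refine (ConcreteCategory.congr_hom (((TF f (Coh.structureModule X)).map φ).mapPresheaf.naturality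
    (homOfLE (le_top : U.1 ≤ ⊤)).op) u).symm.trans ?_
  refine (congrArg (((TF f (Coh.structureModule X)).map φ).app U.1) (hu U)).trans ?_
  rw [sigma_map φ hφ, sigma_map φ hφ, sigma_eq_iff hO I U.2]
  exact (hρ U).1

/-- The equations come from the closed fibre. -/
theorem exists_equation_of_closed_fibre {κ : Type u} [Field κ] (φ : A →+* κ) (hφ : Function.Surjective φ)
    {X' : Scheme.{u}} (f' : X' ⟶ Spec (CommRingCat.of κ)) (g : X' ⟶ X)
    (H : IsPullback g f' (X ↘ Spec (CommRingCat.of A)) (Spec.map (CommRingCat.ofHom φ))) [X.IsSeparated]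
    (het : letI : Algebra κ Γ(X', ⊤) := (psiS f' ⊤).toAlgebra; Algebra.Etale κ Γ(X', ⊤))
    (r : ∀ U : X.affineOpens, Γ(X, U.1))
    (hr : ∀ (U V W : X.affineOpens) (hU : W.1 ≤ U.1) (hV : W.1 ≤ V.1),
      X.presheaf.map (homOfLE hU).op (r U) - X.presheaf.map (homOfLE hV).op (r V) ∈
        (RingHom.ker φ).map (psi (X ↘ Spec (CommRingCat.of A)) W.1)) :
      ∃ F K : A[X], ∀ U : X.affineOpens,
        (F.map (psi (X ↘ Spec (CommRingCat.of A)) U.1)).eval (r U) ∈
          (RingHom.ker φ).map (psi (X ↘ Spec (CommRingCat.of A)) U.1) ∧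
        (K.map (psi (X ↘ Spec (CommRingCat.of A)) U.1)).eval (r U) *
          (derivative (F.map (psi (X ↘ Spec (CommRingCat.of A)) U.1))).eval (r U) - 1 ∈
            (RingHom.ker φ).map (psi (X ↘ Spec (CommRingCat.of A)) U.1) := by
  set f := X ↘ Spec (CommRingCat.of A)
  let γ : ∀ U : X.Opens, Γ(X, U) →+* Γ(X', g ⁻¹ᵁ U) := fun U => (g.appLE U (g ⁻¹ᵁ U) le_rfl).hom
  have hγψ : ∀ (U : X.Opens) (a : A), γ U (psi f U a) = psiS f' (g ⁻¹ᵁ U) (φ a) := fun U a =>
    appLE_psiS φ f f' g H U _ le_rfl a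
  have hker : ∀ (U : X.Opens) (s : Γ(X, U)), s ∈ (RingHom.ker φ).map (psi f U) → γ U s = 0 := fun U s hs => by
    have : (RingHom.ker φ).map (psi f U) ≤ RingHom.ker (γ U) := by
      rw [Ideal.map_le_iff_le_comap]
      intro a ha
      show γ U (psi f U a) = 0
      rw [hγψ, RingHom.mem_ker.1 ha, map_zero]
    exact this hs
  have hkerI : ∀ (U : X.affineOpens) (s : Γ(X, U.1)), γ U.1 s = 0 → s ∈ (RingHom.ker φ).map (psi f U.1) := by
    intro U s hs
    let S := Γ(X, U.1)
    let S' := Γ(X', g ⁻¹ᵁ U.1)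
    letI : Algebra A κ := φ.toAlgebra
    letI : Algebra A S := (psiS f U.1).toAlgebra
    letI : Algebra κ S' := (psiS f' (g ⁻¹ᵁ U.1)).toAlgebra
    letI : Algebra S S' := (γ U.1).toAlgebra
    letI : Algebra A S' := ((psiS f' (g ⁻¹ᵁ U.1)).comp φ).toAlgebra
    haveI : IsScalarTower A κ S' := IsScalarTower.of_algebraMap_eq fun _ => rfl
    haveI : IsScalarTower A S S' :=
      IsScalarTower.of_algebraMap_eq fun a => (appLE_psiS φ f f' g H U.1 _ le_rfl a).symm
    have hP : IsPushout (f.appLE ⊤ U.1 le_top) ((Spec.map (CommRingCat.ofHom φ)).appLE ⊤ ⊤ le_top)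
        (g.appLE U.1 (g ⁻¹ᵁ U.1) le_rfl) (f'.appLE ⊤ (g ⁻¹ᵁ U.1) le_top) :=
      (AlgebraicGeometry.isIso_pushoutSection_iff H (US := ⊤) (UT := ⊤) (UX := U.1) (UY := g ⁻¹ᵁ U.1)
        le_top le_top (by simp)).1
        (AlgebraicGeometry.isIso_pushoutSection_of_isAffineOpen H le_top le_top (by simp)
          (isAffineOpen_top _) (isAffineOpen_top _) U.2)
    have hP' : IsPushout (CommRingCat.ofHom (algebraMap A κ)) (CommRingCat.ofHom (algebraMap A S))
        (CommRingCat.ofHom (algebraMap κ S')) (CommRingCat.ofHom (algebraMap S S')) := by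
      refine hP.flip.of_iso (Scheme.ΓSpecIso (CommRingCat.of A)) (Scheme.ΓSpecIso (CommRingCat.of κ))
        (Iso.refl _) (Iso.refl _) ?_ ?_ ?_ ?_
      · have e1 : (Spec.map (CommRingCat.ofHom φ)).appLE ⊤ ⊤ le_top = (Spec.map (CommRingCat.ofHom φ)).appTop :=
          Scheme.Hom.appLE_eq_app _
        rw [e1]
        exact Scheme.ΓSpecIso_naturality (CommRingCat.ofHom φ)
      · rw [← Iso.inv_comp_eq]
        rfl
      · rw [← Iso.inv_comp_eq]
        rfl
      · rw [Iso.refl_hom, Iso.refl_hom, Category.comp_id]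
        exact (Category.id_comp _).symm
    haveI : Algebra.IsPushout A κ S S' := CommRingCat.isPushout_iff_isPushout.1 hP'
    have hb : IsBaseChange κ (IsScalarTower.toAlgHom A S S').toLinearMap := Algebra.IsPushout.out
    have h1 : (1 : κ) ⊗ₜ[A] s = 0 := by
      apply hb.equiv.injective
      rw [hb.equiv_tmul, one_smul, map_zero]
      exact hs
    let q : (A ⧸ RingHom.ker φ) ≃ₐ[A] κ := Ideal.quotientKerAlgEquivOfSurjective (f := Algebra.ofId A κ) hφ
    have h2 : (Ideal.Quotient.mk (RingHom.ker φ) 1) ⊗ₜ[A] s = (0 : (A ⧸ RingHom.ker φ) ⊗[A] S) := by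
      apply (TensorProduct.congr q.toLinearEquiv (LinearEquiv.refl A S)).injective
      rw [TensorProduct.congr_tmul, map_zero]
      show q (Ideal.Quotient.mk _ 1) ⊗ₜ[A] s = 0
      rw [map_one, map_one]
      exact h1
    have h3 := congrArg (TensorProduct.quotTensorEquivQuotSMul S (RingHom.ker φ)) h2
    rw [map_zero, TensorProduct.quotTensorEquivQuotSMul_mk_tmul, one_smul, Submodule.Quotient.mk_eq_zero,
      Ideal.smul_top_eq_map] at h3
    exact h3
  let opensU : X.affineOpens → X'.Opens := fun U => g ⁻¹ᵁ U.1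
  have hcov : (⊤ : X'.Opens) ≤ ⨆ U, opensU U := by
    intro x _
    have hx : g x ∈ (⊤ : X.Opens) := trivial
    rw [← iSup_affineOpens_eq_top X] at hx
    obtain ⟨U, hU⟩ := Opens.mem_iSup.1 hx
    exact Opens.mem_iSup.2 ⟨U, hU⟩
  obtain ⟨b, hb, -⟩ := TopCat.Sheaf.existsUnique_gluing' X'.sheaf opensU ⊤
    (fun U => homOfLE le_top) hcov (fun U => γ U.1 (r U)) fun U V => by
      let W : X.affineOpens := ⟨U.1 ⊓ V.1, U.2.inf V.2⟩
      have e : ∀ (U : X.affineOpens) (hU : W.1 ≤ U.1) (hle : g ⁻¹ᵁ W.1 ≤ g ⁻¹ᵁ U.1),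
          X'.presheaf.map (homOfLE hle).op (γ U.1 (r U)) = γ W.1 (X.presheaf.map (homOfLE hU).op (r U)) := by
        intro U hU hle
        show (g.appLE U.1 _ le_rfl ≫ X'.presheaf.map _) (r U) = (X.presheaf.map _ ≫ g.appLE W.1 _ le_rfl) (r U)
        rw [Scheme.Hom.appLE_map, Scheme.Hom.map_appLE]
      show X'.presheaf.map (homOfLE (g.preimage_mono (inf_le_left : W.1 ≤ U.1))).op (γ U.1 (r U)) =
        X'.presheaf.map (homOfLE (g.preimage_mono (inf_le_right : W.1 ≤ V.1))).op (γ V.1 (r V))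
      rw [e U inf_le_left (g.preimage_mono inf_le_left), e V inf_le_right (g.preimage_mono inf_le_right), ← sub_eq_zero, ← map_sub]
      exact hker _ _ (hr U V W inf_le_left inf_le_right)
  letI : Algebra κ Γ(X', ⊤) := (psiS f' ⊤).toAlgebra
  haveI := het
  let b₀ : Γ(X', ⊤) := b
  obtain ⟨gp, hgp, hgb⟩ := exists_separable_aeval_eq_zero (k := κ) b₀
  obtain ⟨a, c, hac⟩ := hgp
  obtain ⟨F, rfl⟩ := Polynomial.map_surjective φ hφ gp
  obtain ⟨K, rfl⟩ := Polynomial.map_surjective φ hφ c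
  refine ⟨F, K, fun U => ?_⟩
  let res : Γ(X', ⊤) →+* Γ(X', g ⁻¹ᵁ U.1) := (X'.presheaf.map (homOfLE (le_top : g ⁻¹ᵁ U.1 ≤ ⊤)).op).hom
  have hres : ∀ P : A[X], γ U.1 ((P.map (psi f U.1)).eval (r U)) = res (aeval b₀ (P.map φ)) := fun P => by
    rw [Polynomial.eval_map, hom_eval₂, aeval_def, eval₂_map, hom_eval₂]
    have e1 : (γ U.1).comp (psi f U.1) = res.comp ((algebraMap κ Γ(X', ⊤)).comp φ) := RingHom.ext fun x => by
      refine (hγψ U.1 x).trans ?_
      show (f'.appLE ⊤ _ le_top) _ = (f'.appLE ⊤ ⊤ le_top ≫ X'.presheaf.map _) _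
      rw [Scheme.Hom.appLE_map]
    rw [e1, show γ U.1 (r U) = res b₀ from (hb U).symm]
  refine ⟨hkerI U _ ?_, hkerI U _ ?_⟩
  · rw [hres, hgb, map_zero]
  · rw [derivative_map, map_sub, map_mul, map_one, hres, hres, ← map_one res, ← map_mul, ← map_sub,
      ← derivative_map]
    have h4 := congrArg (aeval b₀) hac
    rw [map_add, map_mul, map_mul, hgb, mul_zero, zero_add, map_one] at h4
    rw [h4, sub_self, map_zero]

end GrothLib.BCCoh
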