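import Groth.Agent.Lib.BCCoh.Corep
import Mathlib.Algebra.Category.ModuleCat.Products
import Mathlib.CategoryTheory.Limits.ConcreteCategory.Basic
import Mathlib.CategoryTheory.Limits.Preserves.Shapes.Products

/-! # `T_i` of a complex of finite projective modules commutes with products -/

set_option autoImplicit false
universe u

open CategoryTheory CategoryTheory.Limits TensorProduct MonoidalCategory

namespace GrothLib.BCCoh

variable {A : Type u} [CommRing A] {ι : Type} {c : ComplexShape ι}

theorem exists_of_homologyπ_eq_zero (K : HomologicalComplex (ModuleCat.{u} A) c) (i : ι)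
    (z : K.cycles i) (hz : K.homologyπ i z = 0) :
    ∃ w : K.X (c.prev i), K.d (c.prev i) i w = K.iCycles i z := by
  have h : (ShortComplex.mk (K.toCycles (c.prev i) i) (K.homologyπ i)
      (K.toCycles_comp_homologyπ _ _)).Exact :=
    ShortComplex.exact_of_g_is_cokernel _ (K.homologyIsCokernel _ i rfl)
  obtain ⟨w, hw⟩ := (ShortComplex.moduleCat_exact_iff _).1 h z hz
  refine ⟨w, ?_⟩
  rw [← K.toCycles_i (c.prev i) i]
  exact congrArg (K.iCycles i) hw

theorem bijective_homologyMap_of_bijective {J : Type u} {C : HomologicalComplex (ModuleCat.{u} A) c}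
    (D : J → HomologicalComplex (ModuleCat.{u} A) c) (π : ∀ j, C ⟶ D j)
    (h : ∀ k, Function.Bijective (fun (x : C.X k) (j : J) => (π j).f k x)) (i : ι) :
    Function.Bijective (fun (x : C.homology i) (j : J) => HomologicalComplex.homologyMap (π j) i x) := by
  have hinjC : Function.Injective (C.iCycles i) := (ModuleCat.mono_iff_injective _).1 inferInstance
  have hnat : ∀ j (z : C.cycles i), HomologicalComplex.homologyMap (π j) i (C.homologyπ i z) =
      (D j).homologyπ i (HomologicalComplex.cyclesMap (π j) i z) := fun j z =>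
    ConcreteCategory.congr_hom (HomologicalComplex.homologyπ_naturality (π j) i) z
  have hcyc : ∀ j (z : C.cycles i), (D j).iCycles i (HomologicalComplex.cyclesMap (π j) i z) =
      (π j).f i (C.iCycles i z) := fun j z =>
    ConcreteCategory.congr_hom (HomologicalComplex.cyclesMap_i (π j) i) z
  constructor
  · intro a b hab
    rw [← sub_eq_zero]
    have hd : ∀ j, HomologicalComplex.homologyMap (π j) i (a - b) = 0 := fun j => by
      rw [map_sub, sub_eq_zero]; exact congrFun hab j
    obtain ⟨z, hz⟩ := (ModuleCat.epi_iff_surjective (C.homologyπ i)).1 inferInstance (a - b)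
    rw [← hz]
    choose w hw using fun j => exists_of_homologyπ_eq_zero (D j) i
      (HomologicalComplex.cyclesMap (π j) i z) ((hnat j z).symm.trans (by rw [hz]; exact hd j))
    obtain ⟨v, hv⟩ := (h (c.prev i)).2 w
    have hdv : C.toCycles (c.prev i) i v = z := hinjC ((h i).1 (funext fun j => by
      show (π j).f i (C.iCycles i (C.toCycles (c.prev i) i v)) = (π j).f i (C.iCycles i z)
      rw [show C.iCycles i (C.toCycles (c.prev i) i v) = C.d (c.prev i) i v from
        ConcreteCategory.congr_hom (C.toCycles_i _ i) v, ← hcyc j z, ← hw j, ← congrFun hv j]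
      exact (ConcreteCategory.congr_hom ((π j).comm (c.prev i) i) v).symm))
    rw [← hdv]
    exact ConcreteCategory.congr_hom (C.toCycles_comp_homologyπ _ i) v
  · intro y
    choose z hz using fun j => (ModuleCat.epi_iff_surjective ((D j).homologyπ i)).1 inferInstance (y j)
    obtain ⟨x, hx⟩ := (h i).2 fun j => (D j).iCycles i (z j)
    have hdx : C.d i (c.next i) x = 0 := (h (c.next i)).1 (funext fun j => by
      show (π j).f (c.next i) (C.d i (c.next i) x) = (π j).f (c.next i) 0
      rw [map_zero, ← show (D j).d i (c.next i) ((π j).f i x) = (π j).f (c.next i) (C.d i (c.next i) x) from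
        ConcreteCategory.congr_hom ((π j).comm i (c.next i)) x, show (π j).f i x = _ from congrFun hx j]
      exact ConcreteCategory.congr_hom ((D j).iCycles_d i (c.next i)) (z j))
    let cx : C.cycles i := (C.sc i).moduleCatCyclesIso.inv ⟨x, LinearMap.mem_ker.2 hdx⟩
    have hcx : C.iCycles i cx = x :=
      ConcreteCategory.congr_hom (C.sc i).moduleCatCyclesIso_inv_iCycles ⟨x, LinearMap.mem_ker.2 hdx⟩
    refine ⟨C.homologyπ i cx, funext fun j => ?_⟩
    show HomologicalComplex.homologyMap (π j) i (C.homologyπ i cx) = y j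
    rw [hnat, ← hz j]
    refine congrArg ((D j).homologyπ i) ((ModuleCat.mono_iff_injective ((D j).iCycles i)).1 inferInstance ?_)
    rw [hcyc, hcx]
    exact congrFun hx j

/-- Tensoring with a finite projective module commutes with products. -/
theorem bijective_lTensor_pi (P : Type u) [AddCommGroup P] [Module A P] [Module.Finite A P]
    [Module.Projective A P] {J : Type u} (M : J → ModuleCat.{u} A) :
    Function.Bijective (fun (x : P ⊗[A] (∏ᶜ M : ModuleCat.{u} A)) (j : J) =>
      (Pi.π M j).hom.lTensor P x) := by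
  constructor
  · intro x y hxy
    apply (bijective_evHom P _).1
    refine LinearMap.ext fun φ => Concrete.limit_ext _ _ _ fun ⟨j⟩ => ?_
    have h1 := LinearMap.congr_fun (evHom_lTensor (P := P) (Pi.π M j).hom x) φ
    have h2 := LinearMap.congr_fun (evHom_lTensor (P := P) (Pi.π M j).hom y) φ
    rw [show (Pi.π M j).hom.lTensor P x = _ from congrFun hxy j] at h1
    exact h1.symm.trans h2
  · intro y
    let L : ModuleCat.{u} A := ModuleCat.of A (Module.Dual A P)
    let l : L ⟶ ∏ᶜ M := Pi.lift fun j => ModuleCat.ofHom (X := Module.Dual A P) (evHom P (M j) (y j))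
    obtain ⟨x, hx⟩ := (bijective_evHom P (∏ᶜ M : ModuleCat.{u} A)).2 l.hom
    refine ⟨x, funext fun j => (bijective_evHom P (M j)).1 ?_⟩
    show evHom P (M j) ((Pi.π M j).hom.lTensor P x) = _
    rw [evHom_lTensor, hx]
    exact congrArg (fun t => t.hom) (Pi.lift_π (fun j => ModuleCat.ofHom (X := Module.Dual A P) (evHom P (M j) (y j))) j)

/-- `T_i` commutes with products. -/
theorem preservesProducts_TFun (P : HomologicalComplex (ModuleCat.{u} A) c)
    (hfin : ∀ k, Module.Finite A (P.X k)) (hproj : ∀ k, Module.Projective A (P.X k)) (i : ι) (J : Type u) :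
    PreservesLimitsOfShape (Discrete J) (CohIII.TFun P i ⋙ forget₂ (ModuleCat.{u} A) AddCommGrpCat.{u}) := by
  suffices hM : ∀ M : J → ModuleCat.{u} A, PreservesLimit (Discrete.functor M)
      (CohIII.TFun P i ⋙ forget₂ (ModuleCat.{u} A) AddCommGrpCat.{u}) by
    exact preservesLimitsOfShape_of_discrete _
  intro M
  let G := CohIII.TFun P i ⋙ forget₂ (ModuleCat.{u} A) AddCommGrpCat.{u}
  have hb : Function.Bijective (fun (x : G.obj (∏ᶜ M)) (j : J) => G.map (Pi.π M j) x) :=
    bijective_homologyMap_of_bijective (C := CohIII.tensorObj P (∏ᶜ M))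
      (fun j => CohIII.tensorObj P (M j)) (fun j => CohIII.tensorMap P (Pi.π M j))
      (fun k => by
        haveI := hfin k
        haveI := hproj k
        exact bijective_lTensor_pi (P.X k) M) i
  have hc : ∀ j (x : G.obj (∏ᶜ M)), Pi.π (fun j => G.obj (M j)) j (piComparison G M x) = G.map (Pi.π M j) x :=
    fun j x => ConcreteCategory.congr_hom (piComparison_comp_π G M j) x
  haveI : IsIso (piComparison G M) := by
    rw [ConcreteCategory.isIso_iff_bijective]
    refine ⟨fun x y hxy => hb.1 (funext fun j => ?_), fun y => ?_⟩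
    · show G.map (Pi.π M j) x = G.map (Pi.π M j) y
      rw [← hc, ← hc, hxy]
    · obtain ⟨x, hx⟩ := hb.2 fun j => Pi.π (fun j => G.obj (M j)) j y
      exact ⟨x, Concrete.limit_ext _ _ _ fun ⟨j⟩ => (hc j x).trans (congrFun hx j)⟩
  exact PreservesProduct.of_iso_comparison G M

end GrothLib.BCCoh
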